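import Cfsg.Agent.H24.Wreath.Roots
import Cfsg.Agent.H96.TensorPower
import Cfsg.Agent.Aschbacher.Proper

/-!
A group all of whose conjugates of slot roots pass the test preserves the decomposition.
-/

set_option autoImplicit false

namespace Cfsg.Agent.H24.Wreath

open Matrix Finset
open Cfsg.Agent.Aschbacher (pureMat pureVec slotMat factorPerm)

variable {F : Type*} [Field F] {k t : ℕ}

theorem pureVec_smul (u : Fin t → Fin k → F) (i : Fin t) (c : F) (x : Fin k → F) :
    pureVec (Function.update u i (c • x)) = c • pureVec (Function.update u i x) :=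
  H96.TensorPower.pureT_smul u i c x

theorem pureVec_add (u : Fin t → Fin k → F) (i : Fin t) (x y : Fin k → F) :
    pureVec (Function.update u i (x + y)) = pureVec (Function.update u i x) + pureVec (Function.update u i y) :=
  H96.TensorPower.pureT_add u i x y

theorem pureVec_eq_zero_of {u : Fin t → Fin k → F} {i : Fin t} (h : u i = 0) : pureVec u = 0 := by
  funext a
  exact Finset.prod_eq_zero (mem_univ i) (by rw [h]; rfl)

theorem pureVec_ne_zero {u : Fin t → Fin k → F} (h : ∀ i, u i ≠ 0) : pureVec u ≠ 0 := by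
  choose p hp using fun i => Function.ne_iff.1 (h i)
  exact fun h0 => Finset.prod_ne_zero_iff.2 (fun i _ => hp i) (congrFun h0 p)

/-- Reading off the slot `l` of a vector along fixed functionals on the others. -/
def readOff (l : Fin t) (ψ : Fin t → Fin k → F) : ((Fin t → Fin k) → F) →ₗ[F] Fin k → F where
  toFun Z := fun p => Z ⬝ᵥ pureVec (Function.update ψ l (Pi.single p 1))
  map_add' _ _ := funext fun _ => add_dotProduct _ _ _
  map_smul' _ _ := funext fun _ => smul_dotProduct _ _ _

theorem readOff_pureVec (l : Fin t) (ψ w : Fin t → Fin k → F) (h : ∀ j, j ≠ l → w j ⬝ᵥ ψ j = 1) :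
    readOff l ψ (pureVec w) = w l := by
  funext p
  show pureVec w ⬝ᵥ _ = _
  rw [Aschbacher.pureVec_dot, Finset.prod_eq_single l]
  · rw [Function.update_self, dotProduct_single, mul_one]
  · intro j _ hj
    rw [Function.update_of_ne hj, h j hj]
  · exact fun h => absurd (mem_univ l) h

theorem exists_dual {x : Fin k → F} (hx : x ≠ 0) : ∃ ψ : Fin k → F, x ⬝ᵥ ψ = 1 := by
  obtain ⟨p, hp⟩ := Function.ne_iff.1 hx
  exact ⟨Pi.single p (x p)⁻¹, by rw [dotProduct_single]; exact mul_inv_cancel₀ hp⟩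

namespace Gram

variable (𝕘 : Gram F k)

theorem pureMat_tau (x y : Fin t → Fin k → F) :
    pureMat (fun j => 𝕘.tau (x j) (y j)) = vecMulVec (pureVec x) (pureVec fun j => y j ᵥ* 𝕘.G) := by
  ext a c
  simp only [pureMat, Matrix.of_apply, vecMulVec_apply, Gram.tau, pureVec, Finset.prod_mul_distrib]

theorem skew_eq_zero {C : Matrix (Fin k) (Fin k) F} (hC : Cᵀ * 𝕘.G = -(𝕘.G * C)) (h : ∀ b, 𝕘.β b (C *ᵥ b) = 0) :
    C = 0 := by
  have hadj : ∀ x y, 𝕘.β (C *ᵥ x) y = -𝕘.β x (C *ᵥ y) := fun x y => by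
    rw [β, β, ← vecMul_transpose, ← dotProduct_mulVec, mulVec_mulVec, hC, neg_mulVec, dotProduct_neg,
      mulVec_mulVec]
  refine Matrix.ext_iff_mulVec.2 fun x => ?_
  rw [zero_mulVec]
  refine 𝕘.nd' fun y => ?_
  have h1 := h (x + y)
  rw [mulVec_add, β_add_left, β_add_right, β_add_right, h, h, zero_add, add_zero, 𝕘.β_skew (C *ᵥ x) y,
    hadj x y, neg_neg, ← two_mul] at h1
  rw [hadj, (mul_eq_zero.1 h1).resolve_left 𝕘.two, neg_zero]

variable {𝕘} {H : Subgroup (Mat F k t)ˣ}

/-- Every conjugate of a root passes the test. -/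
def Flat (𝕘 : Gram F k) (H : Subgroup (Mat F k t)ˣ) : Prop :=
  ∀ g ∈ H, ∀ (i : Fin t) (a : Fin k → F) (j : Fin t) (b : Fin k → F), ∃ r : F,
    𝕘.ct j b b ((g : Mat F k t) * sl i (𝕘.root a) * ((g⁻¹ : (Mat F k t)ˣ) : Mat F k t)) = r • 1

variable (hH : 𝕘.Over H) (hflat : 𝕘.Flat H) [NeZero k]
include hH hflat

/-- A conjugate of a root is a root. -/
theorem Flat.root_map {g : (Mat F k t)ˣ} (hg : g ∈ H) (i : Fin t) {a : Fin k → F} (ha : a ≠ 0) :
    ∃ (l : Fin t) (c : F) (b : Fin k → F), c ≠ 0 ∧ b ≠ 0 ∧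
      (g : Mat F k t) * sl i (𝕘.root a) * ((g⁻¹ : (Mat F k t)ˣ) : Mat F k t) = c • sl l (𝕘.root b) := by
  classical
  have : NeZero t := ⟨fun h => by subst h; exact i.elim0⟩
  set h := ((g⁻¹ : (Mat F k t)ˣ) : Mat F k t) with hh
  set X := (g : Mat F k t) * sl i (𝕘.root a) * h with hX
  have hXs : 𝕘.IsSkew X := (𝕘.isSkew_root i a).conj (hH.iso g hg)
  obtain ⟨C, hC, hsum⟩ := 𝕘.exists_slots hXs fun j b => hflat g hg i a j b
  have hX2 : X * X = 0 := (((hH.hroot i a).map hg)).sq
  have hP0 : (sl i (𝕘.root a) : Mat F k t) ≠ 0 := fun h0 => by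
    rw [← sl_zero i] at h0
    exact 𝕘.tau_ne_zero ha ha (sl_injective i h0)
  have hX0 : X ≠ 0 := fun h0 => hP0 (by
    have h1 := congrArg (fun Z => h * Z * (g : Mat F k t)) h0
    simp only [hX, hh] at h1
    simpa [mul_assoc] using h1)
  let φ : Fin t → (Fin k → F) → F := fun j b => 𝕘.β b (C j *ᵥ b)
  have hone : (1 : Mat F k t) ≠ 0 := fun h0 => hX0 (by rw [← mul_one X, h0, mul_zero])
  have hadj : ∀ j x y, 𝕘.β (C j *ᵥ x) y = -𝕘.β x (C j *ᵥ y) := fun j x y => by
    rw [β, β, ← vecMul_transpose, ← dotProduct_mulVec, mulVec_mulVec, hC, neg_mulVec, dotProduct_neg,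
      mulVec_mulVec]
  have hctX : ∀ j b, 𝕘.ct j b b X = φ j b • (1 : Mat F k t) := fun j b => by
    rw [hsum, ct_sum, Finset.sum_eq_single j]
    · rw [ct_sl]
    · intro q _ hq
      rw [𝕘.ct_of_off (off_sl hq.symm _), β_self, zero_smul]
    · exact fun h => absurd (mem_univ j) h
  -- only one slot survives
  have hprod : ∀ j l, j ≠ l → ∀ b d, φ j b * φ l d = 0 := fun j l hjl b d => by
    set R := ∑ q ∈ univ.erase j, sl q (C q) with hR
    have hRoff : Off j (R : Mat F k t) := fun Y => by
      rw [hR, Finset.mul_sum, Finset.sum_mul]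
      exact Finset.sum_congr rfl fun q hq => off_sl (ne_of_mem_erase hq).symm _ Y
    have hXR : X = sl j (C j) + R := by
      rw [hsum, hR]
      exact (Finset.add_sum_erase univ (fun q => (sl q (C q) : Mat F k t)) (mem_univ j)).symm
    have h1 := congrArg (𝕘.ct j b b) hX2
    rw [ct_zero, hXR, add_mul, mul_add, mul_add, sl_mul, ← hRoff (C j), ct_add, ct_add, ct_add, ct_sl_mul 𝕘 hRoff,
      ct_sl, 𝕘.ct_of_off (hRoff.mul hRoff), β_self, zero_smul, add_zero, ← mulVec_mulVec,
      show 𝕘.β b (C j *ᵥ (C j *ᵥ b)) = 0 by rw [← neg_eq_iff_eq_neg.2 (hadj j b (C j *ᵥ b)), β_self, neg_zero],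
      zero_smul, zero_add, ← two_smul F, smul_smul] at h1
    have h2 := congrArg (𝕘.ct l d d) h1
    have hRl : 𝕘.ct l d d R = φ l d • (1 : Mat F k t) := by
      have h3 := hctX l d
      rw [hXR, ct_add, 𝕘.ct_of_off (off_sl hjl.symm _), β_self, zero_smul, zero_add] at h3
      exact h3
    rw [ct_smul, ct_zero, hRl, smul_smul] at h2
    have h4 := (smul_eq_zero.1 h2).resolve_right hone
    rw [mul_assoc] at h4
    exact (mul_eq_zero.1 h4).resolve_left 𝕘.two
  obtain ⟨l, hl⟩ : ∃ l, C l ≠ 0 := by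
    by_contra hc
    push Not at hc
    exact hX0 (hsum.trans (Finset.sum_eq_zero fun j _ => by rw [hc, sl_zero]))
  obtain ⟨b, hb⟩ : ∃ b, φ l b ≠ 0 := by
    by_contra hc
    push Not at hc
    exact hl (𝕘.skew_eq_zero (hC l) hc)
  have hsingle : X = sl l (C l) := by
    rw [hsum, Finset.sum_eq_single l (fun j _ hj => ?_) (fun h => absurd (mem_univ l) h)]
    rw [𝕘.skew_eq_zero (hC j) fun d => (mul_eq_zero.1 (hprod l j hj.symm b d)).resolve_left hb, sl_zero]
  -- the survivor has rank one
  obtain ⟨r, hr⟩ := hflat g⁻¹ (H.inv_mem hg) l b i a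
  rw [inv_inv] at hr
  have h1 : sl i (𝕘.root a) * (h * sl l (𝕘.root b) * (g : Mat F k t)) * sl i (𝕘.root a) =
      r • sl i (𝕘.root a) := by
    rw [tau_sandwich, hr, mul_smul_comm, mul_one]
  have h2 : X * sl l (𝕘.root b) * X = r • X := by
    calc X * sl l (𝕘.root b) * X = (g : Mat F k t) * (sl i (𝕘.root a) * (h * sl l (𝕘.root b) * (g : Mat F k t)) *
          sl i (𝕘.root a)) * h := by simp only [hX, mul_assoc]
      _ = r • X := by rw [h1, mul_smul_comm, smul_mul_assoc]
  rw [hsingle, sl_mul, sl_mul, ← sl_smul] at h2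
  have h3 := sl_injective l h2
  have hz : C l * 𝕘.root b * C l = -𝕘.root (C l *ᵥ b) := by
    refine Matrix.ext_iff_mulVec.2 fun z => ?_
    rw [neg_mulVec, ← mulVec_mulVec, ← mulVec_mulVec, tau_mulVec, mulVec_smul, tau_mulVec, hadj l b z, neg_smul,
      neg_neg]
  rw [hz] at h3
  have hCb : C l *ᵥ b ≠ 0 := fun h0 => hb (by show 𝕘.β b (C l *ᵥ b) = 0; rw [h0, β_zero_right])
  have hr0 : r ≠ 0 := fun h0 => by
    rw [h0, zero_smul, neg_eq_zero] at h3
    exact 𝕘.tau_ne_zero hCb hCb h3
  refine ⟨l, -r⁻¹, C l *ᵥ b, neg_ne_zero.2 (inv_ne_zero hr0), hCb, ?_⟩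
  rw [hsingle, ← sl_smul]
  congr 1
  rw [neg_smul, ← smul_neg, h3, smul_smul, inv_mul_cancel₀ hr0, one_smul]

/-- A member is a tensor product followed by a permutation of the factors. -/
theorem Flat.monomial {g : (Mat F k t)ˣ} (hg : g ∈ H) :
    ∃ (A : Fin t → GL (Fin k) F) (σ : Equiv.Perm (Fin t)) (r : F), r ≠ 0 ∧
      (g : Mat F k t) = r • (pureMat (fun j => (A j : Matrix (Fin k) (Fin k) F)) * factorPerm σ) := by
  classical
  set h := ((g⁻¹ : (Mat F k t)ˣ) : Mat F k t) with hh
  choose L c f hc hf himg using fun (i : Fin t) (x : {x : Fin k → F // x ≠ 0}) => hflat.root_map hH hg i x.2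
  have hinj : ∀ i i' (x x' : {x : Fin k → F // x ≠ 0}), i ≠ i' → L i x ≠ L i' x' := fun i i' x x' hii hLL => by
    have hcomm := sl_comm (F := F) (k := k) hii (𝕘.root x.1) (𝕘.root x'.1)
    set P := (sl i (𝕘.root x.1) : Mat F k t)
    set P' := (sl i' (𝕘.root x'.1) : Mat F k t)
    have e : ∀ Y Z : Mat F k t, (g : Mat F k t) * Y * h * ((g : Mat F k t) * Z * h) = (g : Mat F k t) * (Y * Z) * h :=
      fun Y Z => by
        simp only [mul_assoc]
        rw [← mul_assoc h (g : Mat F k t), hh, g.inv_mul, one_mul]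
    have e1 := e P P'
    have e2 := e P' P
    rw [himg, himg, ← hLL, smul_mul_smul_comm, sl_mul, tau_mul_tau, sl_smul, smul_smul] at e1 e2
    rw [← hcomm, ← e1] at e2
    set u := f i x
    set v := f i' x'
    rw [𝕘.β_skew u v, mul_neg, mul_comm (c i' x'), neg_smul, ← sl_smul, ← sl_smul, ← sl_neg] at e2
    have h3 := sl_injective _ e2
    set w := c i x * c i' x' * 𝕘.β u v with hw
    rcases eq_or_ne w 0 with hw0 | hw0
    · rw [hw0, zero_smul] at e1
      have h4 : P * P' = 0 := by
        have := congrArg (fun Z => h * Z * (g : Mat F k t)) e1.symm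
        simpa [hh, mul_assoc] using this
      have h5 : P * P' = pureMat (Function.update (Function.update (fun _ => 1) i (𝕘.root x.1)) i' (𝕘.root x'.1)) := by
        simp only [P, P', slotMat, Aschbacher.pureMat_mul]
        congr 1
        funext j
        rcases eq_or_ne j i' with rfl | hj
        · simp [Function.update_of_ne hii.symm]
        · simp [Function.update_of_ne hj]
      rw [h4] at h5
      refine Aschbacher.pureMat_ne_zero (fun j => ?_) h5.symm
      rcases eq_or_ne j i' with rfl | hj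
      · rw [Function.update_self]; exact 𝕘.tau_ne_zero x'.2 x'.2
      · rw [Function.update_of_ne hj]
        rcases eq_or_ne j i with rfl | hj'
        · rw [Function.update_self]; exact 𝕘.tau_ne_zero x.2 x.2
        · rw [Function.update_of_ne hj']; exact one_ne_zero
    · rw [← smul_neg] at h3
      have h4 := (smul_right_injective _ hw0 h3.symm : 𝕘.tau u v = -𝕘.tau v u)
      obtain ⟨z, hz⟩ := 𝕘.exists_one (hf i' x')
      have h5 := congrArg (· *ᵥ z) h4
      simp only [neg_mulVec, tau_mulVec] at h5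
      rw [show 𝕘.β v z = 1 from hz, one_smul] at h5
      refine hw0 ?_
      rw [hw, h5, β, neg_dotProduct, smul_dotProduct]
      rw [show v ⬝ᵥ 𝕘.G *ᵥ v = 0 from 𝕘.β_self v, smul_zero, neg_zero, mul_zero]
  obtain ⟨e₀, he₀⟩ : ∃ x : Fin k → F, x ≠ 0 := ⟨Pi.single ⟨0, Nat.pos_of_ne_zero (NeZero.ne k)⟩ 1, by simp⟩
  let x₀ : {x : Fin k → F // x ≠ 0} := ⟨e₀, he₀⟩
  let σ : Equiv.Perm (Fin t) := Equiv.ofBijective (fun i => L i x₀) (Finite.injective_iff_bijective.1
    fun i i' hii => by
      by_contra hne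
      exact hinj i i' x₀ x₀ hne hii)
  have hσ : ∀ i x, L i x = σ i := fun i x => by
    obtain ⟨i', hi'⟩ := σ.surjective (L i x)
    rcases eq_or_ne i i' with rfl | hne
    · exact hi'.symm
    · exact absurd hi'.symm (hinj i i' x x₀ hne)
  -- images of pure tensors
  let W : (Fin t → {x : Fin k → F // x ≠ 0}) → Fin t → Fin k → F := fun u j => f (σ.symm j) (u (σ.symm j))
  have hW0 : ∀ u j, W u j ≠ 0 := fun u j => hf _ _
  have hsub : ∀ (u : Fin t → {x : Fin k → F // x ≠ 0}) (s : Finset (Fin t)), ∃ r : F, r ≠ 0 ∧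
      (g : Mat F k t) * pureMat (fun j => if j ∈ s then 𝕘.root (u j).1 else 1) * h =
        r • pureMat (fun j => if σ.symm j ∈ s then 𝕘.root (W u j) else 1) := fun u s => by
    induction s using Finset.induction with
    | empty => exact ⟨1, one_ne_zero, by simp [Aschbacher.pureMat_one, hh]⟩
    | insert i s hi ih =>
      obtain ⟨r, hr, ih⟩ := ih
      refine ⟨c i (u i) * r, mul_ne_zero (hc _ _) hr, ?_⟩
      have h1 : pureMat (fun j => if j ∈ insert i s then 𝕘.root (u j).1 else 1) =
          sl i (𝕘.root (u i).1) * pureMat (fun j => if j ∈ s then 𝕘.root (u j).1 else 1) := by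
        rw [sl, slotMat, Aschbacher.pureMat_mul]
        congr 1
        funext j
        rcases eq_or_ne j i with rfl | hj
        · simp [hi]
        · simp [hj]
      have h2 : sl (σ i) (𝕘.root (W u (σ i))) * pureMat (fun j => if σ.symm j ∈ s then 𝕘.root (W u j) else 1) =
          pureMat (fun j => if σ.symm j ∈ insert i s then 𝕘.root (W u j) else 1) := by
        rw [sl, slotMat, Aschbacher.pureMat_mul]
        congr 1
        funext j
        rcases eq_or_ne j (σ i) with rfl | hj
        · simp [hi]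
        · have hj' : σ.symm j ≠ i := fun h => hj (by rw [← h, Equiv.apply_symm_apply])
          simp [Function.update_of_ne hj, hj']
      set Y := pureMat (fun j => if j ∈ s then 𝕘.root (u j).1 else 1)
      calc (g : Mat F k t) * pureMat (fun j => if j ∈ insert i s then 𝕘.root (u j).1 else 1) * h
          = ((g : Mat F k t) * sl i (𝕘.root (u i).1) * h) * ((g : Mat F k t) * Y * h) := by
            rw [h1]
            simp only [mul_assoc]
            rw [← mul_assoc h (g : Mat F k t), hh, g.inv_mul, one_mul]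
        _ = _ := by
            rw [himg, ih, hσ, smul_mul_smul_comm, ← h2]
            congr 3
            simp only [W, Equiv.symm_apply_apply]
  have hpure : ∀ u : Fin t → {x : Fin k → F // x ≠ 0}, ∃ r : F,
      (g : Mat F k t) *ᵥ pureVec (fun j => (u j).1) = r • pureVec (W u) := fun u => by
    obtain ⟨r, -, hr⟩ := hsub u univ
    simp only [Finset.mem_univ, if_true] at hr
    choose w hw using fun j => 𝕘.exists_one (u j).2
    have h1 : pureMat (fun j => 𝕘.root (u j).1) *ᵥ pureVec w = pureVec (fun j => (u j).1) := by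
      rw [Aschbacher.pureMat_mulVec]
      congr 1
      funext j
      rw [tau_mulVec, hw, one_smul]
    refine ⟨r * ((pureVec fun j => W u j ᵥ* 𝕘.G) ⬝ᵥ ((g : Mat F k t) *ᵥ pureVec w)), ?_⟩
    calc (g : Mat F k t) *ᵥ pureVec (fun j => (u j).1)
        = ((g : Mat F k t) * pureMat (fun j => 𝕘.root (u j).1) * h) *ᵥ ((g : Mat F k t) *ᵥ pureVec w) := by
          rw [← h1, mulVec_mulVec, mulVec_mulVec, mul_assoc, hh, g.inv_mul, mul_one]
      _ = _ := by
          rw [hr, smul_mulVec, pureMat_tau, vecMulVec_mulVec, ← smul_smul]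
          simp only [op_smul_eq_smul]
  have hnz : ∀ {v : (Fin t → Fin k) → F}, v ≠ 0 → (g : Mat F k t) *ᵥ v ≠ 0 := fun {v} hv h0 => hv (by
    have := congrArg (h *ᵥ ·) h0
    simpa [hh, mulVec_mulVec] using this)
  -- the factors
  let u₀ : Fin t → {x : Fin k → F // x ≠ 0} := fun _ => x₀
  obtain ⟨ψ, hψ⟩ : ∃ ψ : Fin t → Fin k → F, ∀ j, W u₀ j ⬝ᵥ ψ j = 1 :=
    ⟨fun j => Classical.choose (exists_dual (hW0 u₀ j)), fun j => Classical.choose_spec (exists_dual (hW0 u₀ j))⟩
  let slotLin : (Fin t → Fin k → F) → Fin t → (Fin k → F) →ₗ[F] (Fin t → Fin k) → F := fun u i =>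
    { toFun := fun x => pureVec (Function.update u i x)
      map_add' := pureVec_add u i
      map_smul' := fun c x => pureVec_smul u i c x }
  let Al : Fin t → (Fin k → F) →ₗ[F] Fin k → F := fun j =>
    readOff j ψ ∘ₗ (Matrix.mulVecLin (g : Mat F k t)) ∘ₗ slotLin (fun _ => e₀) (σ.symm j)
  have hAf : ∀ i (x : {x : Fin k → F // x ≠ 0}), ∃ s : F, s ≠ 0 ∧ f i x = s • Al (σ i) x.1 := fun i x => by
    obtain ⟨r, hr⟩ := hpure (Function.update u₀ i x)
    have hvec : (fun j => ((Function.update u₀ i x) j).1) = Function.update (fun _ => e₀) i x.1 := by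
      funext j
      rcases eq_or_ne j i with rfl | hj
      · simp
      · simp [Function.update_of_ne hj, u₀, x₀]
    rw [hvec] at hr
    have hr0 : r ≠ 0 := fun h0 => by
      rw [h0, zero_smul] at hr
      refine hnz (pureVec_ne_zero fun j => ?_) hr
      rcases eq_or_ne j i with rfl | hj
      · rw [Function.update_self]; exact x.2
      · rw [Function.update_of_ne hj]; exact he₀
    refine ⟨r⁻¹, inv_ne_zero hr0, ?_⟩
    show f i x = r⁻¹ • readOff (σ i) ψ ((g : Mat F k t) *ᵥ pureVec (Function.update (fun _ => e₀) (σ.symm (σ i)) x.1))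
    rw [Equiv.symm_apply_apply, hr, map_smul, readOff_pureVec _ _ _ fun j hj => ?_, smul_smul,
      inv_mul_cancel₀ hr0, one_smul]
    · simp only [W, Equiv.symm_apply_apply, Function.update_self]
    · have hj' : σ.symm j ≠ i := fun h => hj (by rw [← h, Equiv.apply_symm_apply])
      simp only [W, Function.update_of_ne hj']
      exact hψ j
  have hAinj : ∀ j, Function.Injective (Al j) := fun j => (injective_iff_map_eq_zero _).2 fun x hx => by
    by_contra hne
    obtain ⟨s, -, hs⟩ := hAf (σ.symm j) ⟨x, hne⟩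
    rw [Equiv.apply_symm_apply, hx, smul_zero] at hs
    exact hf _ _ hs
  have hAu : ∀ j, IsUnit (LinearMap.toMatrix' (Al j)) := fun j =>
    Matrix.mulVec_injective_iff_isUnit.1 fun x y hxy => hAinj j (by simpa using hxy)
  let T : (Fin t → Fin k → F) → Fin t → Fin k → F := fun u j => Al j (u (σ.symm j))
  have hprop : ∀ u : Fin t → Fin k → F, (∀ j, u j ≠ 0) →
      ∃ r : F, (g : Mat F k t) *ᵥ pureVec u = r • pureVec (T u) := fun u hu => by
    obtain ⟨r, hr⟩ := hpure fun j => ⟨u j, hu j⟩
    choose s hs hfs using fun j => hAf (σ.symm j) ⟨u (σ.symm j), hu _⟩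
    refine ⟨r * ∏ j, s j, ?_⟩
    rw [hr, mul_smul]
    congr 1
    funext a
    simp only [pureVec, W, T, Pi.smul_apply, smul_eq_mul]
    rw [← Finset.prod_mul_distrib]
    exact Finset.prod_congr rfl fun j _ => by
      rw [hfs j, Equiv.apply_symm_apply]; rfl
  have hTne : ∀ u : Fin t → Fin k → F, (∀ j, u j ≠ 0) → ∀ j, T u j ≠ 0 := fun u hu j h0 =>
    hu _ (hAinj j (h0.trans (map_zero (Al j)).symm))
  -- the scalar is constant
  have hstep : ∀ (u : Fin t → Fin k → F) (i : Fin t), (∀ j, u j ≠ 0) → ∀ x, x ≠ 0 → ∀ r : F,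
      (g : Mat F k t) *ᵥ pureVec u = r • pureVec (T u) →
        (g : Mat F k t) *ᵥ pureVec (Function.update u i x) = r • pureVec (T (Function.update u i x)) := by
    intro u i hu x hx r hr
    obtain ⟨ψ', hψ'⟩ : ∃ ψ' : Fin t → Fin k → F, ∀ j, T u j ⬝ᵥ ψ' j = 1 :=
      ⟨fun j => Classical.choose (exists_dual (hTne u hu j)),
        fun j => Classical.choose_spec (exists_dual (hTne u hu j))⟩
    let Lm : (Fin k → F) →ₗ[F] Fin k → F := readOff (σ i) ψ' ∘ₗ (Matrix.mulVecLin (g : Mat F k t)) ∘ₗ slotLin u i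
    have hkey : ∀ y, y ≠ 0 → ∀ s, (g : Mat F k t) *ᵥ pureVec (Function.update u i y) =
        s • pureVec (T (Function.update u i y)) → Lm y = s • Al (σ i) y := fun y _ s hs => by
      show readOff (σ i) ψ' ((g : Mat F k t) *ᵥ pureVec (Function.update u i y)) = _
      rw [hs, map_smul, readOff_pureVec _ _ _ fun j hj => ?_]
      · simp only [T, Equiv.symm_apply_apply, Function.update_self]
      · have hj' : σ.symm j ≠ i := fun h => hj (by rw [← h, Equiv.apply_symm_apply])
        simp only [T, Function.update_of_ne hj']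
        exact hψ' j
    let Ae := LinearEquiv.ofInjectiveEndo (Al (σ i)) (hAinj (σ i))
    obtain ⟨s₀, hs₀⟩ := Aschbacher.exists_scalar_of_forall_smul (k := LinearMap.toMatrix' (Ae.symm.toLinearMap ∘ₗ Lm))
      fun y => by
        by_cases hy : y = 0
        · exact ⟨0, by rw [hy, mulVec_zero, smul_zero]⟩
        have hu' : ∀ j, Function.update u i y j ≠ 0 := fun j => by
          rcases eq_or_ne j i with rfl | hj
          · rw [Function.update_self]; exact hy
          · rw [Function.update_of_ne hj]; exact hu j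
        obtain ⟨s, hs⟩ := hprop _ hu'
        refine ⟨s, ?_⟩
        rw [LinearMap.toMatrix'_mulVec, LinearMap.comp_apply, hkey y hy s hs, map_smul]
        exact congrArg (s • ·) (Ae.symm_apply_apply y)
    have hL : ∀ y, Lm y = s₀ • Al (σ i) y := fun y => by
      have h1 := congrArg (· *ᵥ y) hs₀
      simp only [LinearMap.toMatrix'_mulVec, smul_mulVec, one_mulVec, LinearMap.comp_apply] at h1
      have h2 := congrArg Ae h1
      rw [LinearEquiv.coe_coe, LinearEquiv.apply_symm_apply, map_smul] at h2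
      exact h2
    have hr' : r = s₀ := by
      have h1 := hkey (u i) (hu i) r (by rw [Function.update_eq_self]; exact hr)
      rw [hL] at h1
      exact (smul_left_injective F (fun h0 => hu i (hAinj _ (h0.trans (map_zero _).symm))) h1).symm
    have hu' : ∀ j, Function.update u i x j ≠ 0 := fun j => by
      rcases eq_or_ne j i with rfl | hj
      · rw [Function.update_self]; exact hx
      · rw [Function.update_of_ne hj]; exact hu j
    obtain ⟨s, hs⟩ := hprop _ hu'
    have h1 := hkey x hx s hs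
    rw [hL] at h1
    have h2 := smul_left_injective F (fun h0 => hx (hAinj _ (h0.trans (map_zero _).symm))) h1
    rw [hr', h2, hs]
  obtain ⟨r₀, hr₀⟩ := hprop (fun _ => e₀) fun _ => he₀
  have hall : ∀ u : Fin t → Fin k → F, (g : Mat F k t) *ᵥ pureVec u = r₀ • pureVec (T u) := fun u => by
    by_cases hu : ∀ j, u j ≠ 0
    · have : ∀ s : Finset (Fin t), (g : Mat F k t) *ᵥ pureVec (fun j => if j ∈ s then u j else e₀) =
          r₀ • pureVec (T fun j => if j ∈ s then u j else e₀) := fun s => by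
        induction s using Finset.induction with
        | empty => simpa using hr₀
        | insert i s hi ih =>
          rw [show (fun j => if j ∈ insert i s then u j else e₀) =
              Function.update (fun j => if j ∈ s then u j else e₀) i (u i) by
            funext j
            rcases eq_or_ne j i with rfl | hj
            · simp
            · simp [hj]]
          exact hstep _ i (fun j => by split_ifs; exacts [hu j, he₀]) _ (hu i) r₀ ih
      simpa using this univ
    · push Not at hu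
      obtain ⟨i, hi⟩ := hu
      have h1 : T u (σ i) = 0 := by simp only [T, Equiv.symm_apply_apply, hi, map_zero]
      rw [pureVec_eq_zero_of hi, pureVec_eq_zero_of h1, mulVec_zero, smul_zero]
  have hr0 : r₀ ≠ 0 := fun h0 => hnz (pureVec_ne_zero fun _ : Fin t => he₀) (by rw [hr₀, h0, zero_smul])
  refine ⟨fun j => (hAu j).unit, σ, r₀, hr0, ?_⟩
  refine Matrix.ext_of_mulVec_single fun a => ?_
  rw [← Aschbacher.pureVec_single, hall, smul_mulVec, ← mulVec_mulVec, Aschbacher.factorPerm_mulVec,
    Aschbacher.pureMat_mulVec]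
  congr 1
  funext b
  simp only [pureVec, T, IsUnit.unit_spec, LinearMap.toMatrix'_mulVec]

end Gram

end Cfsg.Agent.H24.Wreath
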