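import Cfsg.Agent.Aschbacher.TensorVec

/-!
Matrices of a tensor power of a space with an alternating form: slots, rank one maps, isometries.
-/

set_option autoImplicit false

namespace Cfsg.Agent.H24.Wreath

open Matrix Finset
open Cfsg.Agent.Aschbacher (pureMat pureVec slotMat factorPerm)

variable {F : Type*} [Field F] {k t : ℕ}

/-- Matrices of the tensor power. -/
abbrev Mat (F : Type*) (k t : ℕ) := Matrix (Fin t → Fin k) (Fin t → Fin k) F

/-- A non-degenerate alternating Gram matrix, away from characteristic two. -/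
structure Gram (F : Type*) [Field F] (k : ℕ) where
  G : Matrix (Fin k) (Fin k) F
  skew : Gᵀ = -G
  unit : IsUnit G
  two : (2 : F) ≠ 0

namespace Gram

variable (𝕘 : Gram F k)

/-- The form. -/
def β (x y : Fin k → F) : F := x ⬝ᵥ 𝕘.G *ᵥ y

theorem β_skew (x y : Fin k → F) : 𝕘.β y x = -𝕘.β x y := by
  rw [β, β, dotProduct_mulVec, ← mulVec_transpose, 𝕘.skew, dotProduct_comm, neg_mulVec, dotProduct_neg]

theorem β_self (x : Fin k → F) : 𝕘.β x x = 0 := by
  have h := 𝕘.β_skew x x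
  exact (mul_eq_zero.1 (show (2 : F) * 𝕘.β x x = 0 by linear_combination h)).resolve_left 𝕘.two

theorem β_add_left (x x' y : Fin k → F) : 𝕘.β (x + x') y = 𝕘.β x y + 𝕘.β x' y := add_dotProduct _ _ _

theorem β_add_right (x y y' : Fin k → F) : 𝕘.β x (y + y') = 𝕘.β x y + 𝕘.β x y' := by
  rw [β, mulVec_add, dotProduct_add]; rfl

theorem β_sub_left (x x' y : Fin k → F) : 𝕘.β (x - x') y = 𝕘.β x y - 𝕘.β x' y := sub_dotProduct _ _ _

theorem β_sub_right (x y y' : Fin k → F) : 𝕘.β x (y - y') = 𝕘.β x y - 𝕘.β x y' := by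
  rw [β, mulVec_sub, dotProduct_sub]; rfl

theorem β_smul_left (c : F) (x y : Fin k → F) : 𝕘.β (c • x) y = c * 𝕘.β x y := smul_dotProduct _ _ _

theorem β_smul_right (c : F) (x y : Fin k → F) : 𝕘.β x (c • y) = c * 𝕘.β x y := by
  rw [β, mulVec_smul, dotProduct_smul]; rfl

theorem β_zero_left (y : Fin k → F) : 𝕘.β 0 y = 0 := zero_dotProduct _

theorem β_zero_right (x : Fin k → F) : 𝕘.β x 0 = 0 := by simp [β]

theorem nd {y : Fin k → F} (h : ∀ x, 𝕘.β x y = 0) : y = 0 := by
  have h1 : 𝕘.G *ᵥ y = 0 := funext fun i => by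
    have h2 := h (Pi.single i 1)
    rwa [β, single_dotProduct, one_mul] at h2
  exact Matrix.mulVec_injective_iff_isUnit.2 𝕘.unit (h1.trans (mulVec_zero _).symm)

theorem nd' {x : Fin k → F} (h : ∀ y, 𝕘.β x y = 0) : x = 0 :=
  𝕘.nd fun z => by rw [𝕘.β_skew, h, neg_zero]

theorem exists_one {x : Fin k → F} (hx : x ≠ 0) : ∃ y, 𝕘.β x y = 1 := by
  by_contra hc
  push Not at hc
  refine hx (𝕘.nd' fun y => ?_)
  by_contra h
  exact hc ((𝕘.β x y)⁻¹ • y) (by rw [β_smul_right, inv_mul_cancel₀ h])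

/-- Two non-zero vectors have a common partner. -/
theorem exists_common {x y : Fin k → F} (hx : x ≠ 0) (hy : y ≠ 0) : ∃ z, 𝕘.β x z ≠ 0 ∧ 𝕘.β y z ≠ 0 := by
  obtain ⟨u, hu⟩ := 𝕘.exists_one hx
  obtain ⟨v, hv⟩ := 𝕘.exists_one hy
  by_cases h1 : 𝕘.β y u = 0
  · by_cases h2 : 𝕘.β x v = 0
    · exact ⟨u + v, by rw [β_add_right, hu, h2, add_zero]; exact one_ne_zero,
        by rw [β_add_right, h1, hv, zero_add]; exact one_ne_zero⟩
    · exact ⟨v, h2, by rw [hv]; exact one_ne_zero⟩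
  · exact ⟨u, by rw [hu]; exact one_ne_zero, h1⟩

theorem even_dim (𝕘 : Gram F k) : Even k := by
  rw [← Nat.not_odd_iff_even]
  intro hk
  have h := congrArg det 𝕘.skew
  rw [det_transpose, det_neg, Fintype.card_fin, hk.neg_one_pow, neg_one_mul] at h
  have h0 : 𝕘.G.det = 0 :=
    (mul_eq_zero.1 (show (2 : F) * 𝕘.G.det = 0 by linear_combination h)).resolve_left 𝕘.two
  exact ((Matrix.isUnit_iff_isUnit_det _).1 𝕘.unit).ne_zero h0

/-- The map `z ↦ β(y, z) x`. -/
def tau (x y : Fin k → F) : Matrix (Fin k) (Fin k) F := vecMulVec x (y ᵥ* 𝕘.G)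

theorem tau_mulVec (x y z : Fin k → F) : 𝕘.tau x y *ᵥ z = 𝕘.β y z • x := by
  funext i
  simp only [tau, Matrix.mulVec, dotProduct, vecMulVec_apply, Pi.smul_apply, smul_eq_mul]
  rw [show 𝕘.β y z = ∑ j, (y ᵥ* 𝕘.G) j * z j from dotProduct_mulVec _ _ _, Finset.sum_mul]
  exact Finset.sum_congr rfl fun j _ => by ring

theorem mul_tau (Z : Matrix (Fin k) (Fin k) F) (x y : Fin k → F) : Z * 𝕘.tau x y = 𝕘.tau (Z *ᵥ x) y :=
  Matrix.mul_vecMulVec _ _ _

theorem tau_mul_tau (x y z w : Fin k → F) : 𝕘.tau x y * 𝕘.tau z w = 𝕘.β y z • 𝕘.tau x w := by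
  refine Matrix.ext_iff_mulVec.2 fun v => ?_
  simp only [← mulVec_mulVec, tau_mulVec, smul_mulVec, β_smul_right, smul_smul, mul_comm]

theorem tau_mul_mul_tau (x y z w : Fin k → F) (Z : Matrix (Fin k) (Fin k) F) :
    𝕘.tau x y * Z * 𝕘.tau z w = 𝕘.β y (Z *ᵥ z) • 𝕘.tau x w := by
  rw [mul_assoc, mul_tau, tau_mul_tau]

theorem tau_add_left (x x' y : Fin k → F) : 𝕘.tau (x + x') y = 𝕘.tau x y + 𝕘.tau x' y := add_vecMulVec _ _ _

theorem tau_add_right (x y y' : Fin k → F) : 𝕘.tau x (y + y') = 𝕘.tau x y + 𝕘.tau x y' := by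
  rw [tau, add_vecMul, vecMulVec_add]; rfl

theorem tau_smul_left (c : F) (x y : Fin k → F) : 𝕘.tau (c • x) y = c • 𝕘.tau x y := smul_vecMulVec _ _ _

theorem tau_smul_right (c : F) (x y : Fin k → F) : 𝕘.tau x (c • y) = c • 𝕘.tau x y := by
  rw [tau, smul_vecMul, vecMulVec_smul]; rfl

theorem tau_sub_left (x x' y : Fin k → F) : 𝕘.tau (x - x') y = 𝕘.tau x y - 𝕘.tau x' y := sub_vecMulVec _ _ _

theorem tau_sub_right (x y y' : Fin k → F) : 𝕘.tau x (y - y') = 𝕘.tau x y - 𝕘.tau x y' := by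
  rw [tau, sub_vecMul, vecMulVec_sub]; rfl

theorem tau_zero_left (y : Fin k → F) : 𝕘.tau 0 y = 0 := zero_vecMulVec _

theorem tau_zero_right (x : Fin k → F) : 𝕘.tau x 0 = 0 := by rw [tau, zero_vecMul, vecMulVec_zero]

theorem transpose_tau (x y : Fin k → F) : (𝕘.tau x y)ᵀ * 𝕘.G = -(𝕘.G * 𝕘.tau y x) := by
  rw [tau, tau, transpose_vecMulVec, vecMulVec_mul, mul_vecMulVec,
    show 𝕘.G *ᵥ y = -(y ᵥ* 𝕘.G) by rw [← mulVec_transpose, 𝕘.skew, neg_mulVec, neg_neg],
    neg_vecMulVec, neg_neg]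

theorem tau_ne_zero {x y : Fin k → F} (hx : x ≠ 0) (hy : y ≠ 0) : 𝕘.tau x y ≠ 0 := fun h => by
  obtain ⟨z, hz⟩ := 𝕘.exists_one hy
  have := 𝕘.tau_mulVec x y z
  rw [h, zero_mulVec, hz, one_smul] at this
  exact hx this.symm

/-- The root at `a`. -/
abbrev root (a : Fin k → F) : Matrix (Fin k) (Fin k) F := 𝕘.tau a a

theorem root_mul_root_self (a : Fin k → F) : 𝕘.root a * 𝕘.root a = 0 := by
  rw [tau_mul_tau, β_self, zero_smul]

/-- The Gram matrix of the tensor power. -/
def big (t : ℕ) : Mat F k t := pureMat fun _ => 𝕘.G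

/-- `g` preserves the product form. -/
def Iso (g : Mat F k t) : Prop := gᵀ * 𝕘.big t * g = 𝕘.big t

/-- `Z` is skew for the product form. -/
def IsSkew (Z : Mat F k t) : Prop := Zᵀ * 𝕘.big t = -(𝕘.big t * Z)

theorem big_transpose : (𝕘.big t)ᵀ = (-1 : F) ^ t • 𝕘.big t := by
  ext a c
  simp only [big, pureMat, transpose_apply, Matrix.of_apply, Matrix.smul_apply, smul_eq_mul]
  have h : ∀ i, 𝕘.G (c i) (a i) = (-1 : F) * 𝕘.G (a i) (c i) := fun i => by
    have h1 := congrFun (congrFun 𝕘.skew (a i)) (c i)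
    rw [transpose_apply, Matrix.neg_apply] at h1
    rw [h1]; ring
  rw [Finset.prod_congr rfl fun i _ => h i, Finset.prod_mul_distrib, Finset.prod_const, Finset.card_univ,
    Fintype.card_fin]

theorem isUnit_big : IsUnit (𝕘.big t) := Aschbacher.isUnit_pureMat fun _ => 𝕘.unit

end Gram

/-! ### Slots -/

/-- A matrix in the slot `i`. -/
abbrev sl (i : Fin t) (X : Matrix (Fin k) (Fin k) F) : Mat F k t := slotMat i X

theorem pureMat_update_one (i : Fin t) (X : Matrix (Fin k) (Fin k) F) (a c : Fin t → Fin k) :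
    sl i X a c = if ∀ j, j ≠ i → a j = c j then X (a i) (c i) else 0 := by
  classical
  simp only [sl, slotMat, pureMat, Matrix.of_apply]
  rw [← Finset.mul_prod_erase _ _ (Finset.mem_univ i), Function.update_self]
  split_ifs with h
  · rw [Finset.prod_eq_one, mul_one]
    intro j hj
    rw [Function.update_of_ne (ne_of_mem_erase hj), h j (ne_of_mem_erase hj), one_apply_eq]
  · push Not at h
    obtain ⟨j, hj, hne⟩ := h
    rw [Finset.prod_eq_zero (mem_erase.2 ⟨hj, mem_univ j⟩), mul_zero]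
    rw [Function.update_of_ne hj, one_apply_ne hne]

/-- Left multiplication by a slot. -/
theorem sl_mul_apply (i : Fin t) (X : Matrix (Fin k) (Fin k) F) (Z : Mat F k t) (a c : Fin t → Fin k) :
    (sl i X * Z) a c = ∑ p, X (a i) p * Z (Function.update a i p) c := by
  classical
  rw [Matrix.mul_apply, ← Finset.sum_subset
    (Finset.subset_univ (Finset.univ.image fun p => Function.update a i p))]
  · rw [Finset.sum_image fun p _ q _ h => by simpa using congrFun h i]
    refine Finset.sum_congr rfl fun p _ => ?_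
    rw [pureMat_update_one, if_pos fun j hj => (Function.update_of_ne hj _ _).symm, Function.update_self]
  · intro b _ hb
    rw [pureMat_update_one, if_neg, zero_mul]
    intro h
    refine hb (mem_image.2 ⟨b i, mem_univ _, funext fun j => ?_⟩)
    rcases eq_or_ne j i with rfl | hj
    · rw [Function.update_self]
    · rw [Function.update_of_ne hj, h j hj]

/-- Right multiplication by a slot. -/
theorem mul_sl_apply (i : Fin t) (X : Matrix (Fin k) (Fin k) F) (Z : Mat F k t) (a c : Fin t → Fin k) :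
    (Z * sl i X) a c = ∑ q, Z a (Function.update c i q) * X q (c i) := by
  classical
  rw [Matrix.mul_apply, ← Finset.sum_subset
    (Finset.subset_univ (Finset.univ.image fun q => Function.update c i q))]
  · rw [Finset.sum_image fun p _ q _ h => by simpa using congrFun h i]
    refine Finset.sum_congr rfl fun q _ => ?_
    rw [pureMat_update_one, if_pos fun j hj => Function.update_of_ne hj _ _, Function.update_self]
  · intro b _ hb
    rw [pureMat_update_one, if_neg, mul_zero]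
    intro h
    refine hb (mem_image.2 ⟨b i, mem_univ _, funext fun j => ?_⟩)
    rcases eq_or_ne j i with rfl | hj
    · rw [Function.update_self]
    · rw [Function.update_of_ne hj, h j hj]

theorem sl_mul (i : Fin t) (X Y : Matrix (Fin k) (Fin k) F) : (sl i X : Mat F k t) * sl i Y = sl i (X * Y) := by
  rw [sl, sl, sl, slotMat, slotMat, slotMat, Aschbacher.pureMat_mul]
  congr 1
  funext j
  rcases eq_or_ne j i with rfl | hj
  · simp
  · simp [Function.update_of_ne hj]

theorem sl_comm {i j : Fin t} (h : i ≠ j) (X Y : Matrix (Fin k) (Fin k) F) :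
    (sl i X : Mat F k t) * sl j Y = sl j Y * sl i X := by
  rw [sl, sl, slotMat, slotMat, Aschbacher.pureMat_mul, Aschbacher.pureMat_mul]
  congr 1
  funext l
  rcases eq_or_ne l i with rfl | hl
  · simp [Function.update_of_ne h]
  · simp [Function.update_of_ne hl]

theorem sl_one (i : Fin t) : (sl i 1 : Mat F k t) = 1 := by
  rw [sl, slotMat, Function.update_eq_self, Aschbacher.pureMat_one]

theorem sl_add (i : Fin t) (X Y : Matrix (Fin k) (Fin k) F) : (sl i (X + Y) : Mat F k t) = sl i X + sl i Y := by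
  ext a c
  simp only [pureMat_update_one, Matrix.add_apply]
  split_ifs <;> simp

theorem sl_smul (i : Fin t) (r : F) (X : Matrix (Fin k) (Fin k) F) : (sl i (r • X) : Mat F k t) = r • sl i X := by
  ext a c
  simp only [pureMat_update_one, Matrix.smul_apply]
  split_ifs <;> simp

theorem sl_zero (i : Fin t) : (sl i 0 : Mat F k t) = 0 := by
  ext a c
  simp only [pureMat_update_one, Matrix.zero_apply]
  split_ifs <;> simp

theorem sl_neg (i : Fin t) (X : Matrix (Fin k) (Fin k) F) : (sl i (-X) : Mat F k t) = -sl i X := by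
  rw [← neg_one_smul F, sl_smul, neg_one_smul]

theorem sl_sub (i : Fin t) (X Y : Matrix (Fin k) (Fin k) F) : (sl i (X - Y) : Mat F k t) = sl i X - sl i Y := by
  rw [sub_eq_add_neg, sl_add, sl_neg, sub_eq_add_neg]

theorem sl_transpose (i : Fin t) (X : Matrix (Fin k) (Fin k) F) : (sl i X : Mat F k t)ᵀ = sl i Xᵀ := by
  ext a c
  simp only [transpose_apply, pureMat_update_one]
  refine if_congr ⟨fun h j hj => (h j hj).symm, fun h j hj => (h j hj).symm⟩ rfl rfl

theorem sl_mulVec (i : Fin t) (X : Matrix (Fin k) (Fin k) F) (u : Fin t → Fin k → F) :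
    sl i X *ᵥ pureVec u = pureVec (Function.update u i (X *ᵥ u i)) := by
  rw [sl, slotMat, Aschbacher.pureMat_mulVec]
  congr 1
  funext j
  rcases eq_or_ne j i with rfl | hj
  · simp
  · simp [Function.update_of_ne hj]

theorem sl_injective [NeZero k] (i : Fin t) :
    Function.Injective (fun X => (sl i X : Mat F k t)) := fun X Y h => by
  ext p q
  have h1 := congrFun (congrFun h (Function.update (fun _ => 0) i p)) (Function.update (fun _ => 0) i q)
  simp only [pureMat_update_one, Function.update_self] at h1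
  rwa [if_pos fun j hj => by rw [Function.update_of_ne hj, Function.update_of_ne hj],
    if_pos fun j hj => by rw [Function.update_of_ne hj, Function.update_of_ne hj]] at h1

namespace Gram

variable (𝕘 : Gram F k)

theorem sl_G_comm (i : Fin t) (X : Matrix (Fin k) (Fin k) F) :
    𝕘.big t * sl i X = pureMat (Function.update (fun _ => 𝕘.G) i (𝕘.G * X)) := by
  rw [sl, slotMat, big, Aschbacher.pureMat_mul]
  congr 1
  funext j
  rcases eq_or_ne j i with rfl | hj
  · simp
  · simp [Function.update_of_ne hj]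

theorem sl_G_comm' (i : Fin t) (X : Matrix (Fin k) (Fin k) F) :
    sl i X * 𝕘.big t = pureMat (Function.update (fun _ => 𝕘.G) i (X * 𝕘.G)) := by
  rw [sl, slotMat, big, Aschbacher.pureMat_mul]
  congr 1
  funext j
  rcases eq_or_ne j i with rfl | hj
  · simp
  · simp [Function.update_of_ne hj]

/-- A slot transposes to the slot of the adjoint. -/
theorem sl_adj (i : Fin t) {X Y : Matrix (Fin k) (Fin k) F} (h : Xᵀ * 𝕘.G = 𝕘.G * Y) :
    (sl i X : Mat F k t)ᵀ * 𝕘.big t = 𝕘.big t * sl i Y := by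
  rw [sl_transpose, sl_G_comm', sl_G_comm, h]

theorem isSkew_sl (i : Fin t) {X : Matrix (Fin k) (Fin k) F} (h : Xᵀ * 𝕘.G = -(𝕘.G * X)) :
    𝕘.IsSkew (sl i X : Mat F k t) := by
  rw [IsSkew, 𝕘.sl_adj i (Y := -X) (by rw [h, mul_neg]), sl_neg, mul_neg]

theorem isSkew_root (i : Fin t) (a : Fin k → F) : 𝕘.IsSkew (sl i (𝕘.root a) : Mat F k t) :=
  𝕘.isSkew_sl i (𝕘.transpose_tau a a)

variable {𝕘}

theorem Iso.mul {g h : Mat F k t} (hg : 𝕘.Iso g) (hh : 𝕘.Iso h) : 𝕘.Iso (g * h) := by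
  rw [Iso, transpose_mul, show hᵀ * gᵀ * 𝕘.big t * (g * h) = hᵀ * (gᵀ * 𝕘.big t * g) * h by
    simp only [mul_assoc], hg, hh]

theorem iso_one : 𝕘.Iso (1 : Mat F k t) := by simp [Iso]

theorem Iso.transpose_mul_big {g h : Mat F k t} (hg : 𝕘.Iso g) (hgh : g * h = 1) :
    gᵀ * 𝕘.big t = 𝕘.big t * h := by
  conv_rhs => rw [← hg]
  rw [mul_assoc, hgh, mul_one]

theorem Iso.inv {g : (Mat F k t)ˣ} (hg : 𝕘.Iso (g : Mat F k t)) : 𝕘.Iso ((g⁻¹ : (Mat F k t)ˣ) : Mat F k t) := by
  unfold Iso at *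
  generalize hu : ((g⁻¹ : (Mat F k t)ˣ) : Mat F k t) = h
  have h1 : (g : Mat F k t) * h = 1 := by rw [← hu, g.mul_inv]
  calc hᵀ * 𝕘.big t * h = hᵀ * ((g : Mat F k t)ᵀ * 𝕘.big t * (g : Mat F k t)) * h := by rw [hg]
    _ = ((g : Mat F k t) * h)ᵀ * 𝕘.big t * ((g : Mat F k t) * h) := by simp only [transpose_mul, mul_assoc]
    _ = 𝕘.big t := by rw [h1, transpose_one, one_mul, mul_one]

/-- Conjugation by an isometry preserves skewness. -/
theorem IsSkew.conj {Z : Mat F k t} (hZ : 𝕘.IsSkew Z) {g : (Mat F k t)ˣ} (hg : 𝕘.Iso (g : Mat F k t)) :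
    𝕘.IsSkew ((g : Mat F k t) * Z * ((g⁻¹ : (Mat F k t)ˣ) : Mat F k t)) := by
  have h1 := hg.transpose_mul_big (h := (g⁻¹ : (Mat F k t)ˣ)) g.mul_inv
  have h2 := (Iso.inv hg).transpose_mul_big (h := (g : Mat F k t)) g.inv_mul
  unfold IsSkew at hZ ⊢
  rw [transpose_mul, transpose_mul, ← mul_assoc, mul_assoc _ _ (𝕘.big t), h1, mul_assoc, ← mul_assoc Zᵀ, hZ,
    neg_mul, mul_neg, ← mul_assoc, ← mul_assoc, h2]
  simp only [mul_assoc]

theorem IsSkew.add {Y Z : Mat F k t} (hY : 𝕘.IsSkew Y) (hZ : 𝕘.IsSkew Z) : 𝕘.IsSkew (Y + Z) := by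
  unfold IsSkew at *
  rw [transpose_add, add_mul, hY, hZ, mul_add, neg_add]

theorem IsSkew.smul {Z : Mat F k t} (hZ : 𝕘.IsSkew Z) (r : F) : 𝕘.IsSkew (r • Z) := by
  unfold IsSkew at *
  rw [transpose_smul, smul_mul_assoc, hZ, mul_smul_comm, smul_neg]

end Gram

end Cfsg.Agent.H24.Wreath
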