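import Cfsg.Agent.H24.Wreath.Rad3

/-!
Three elements field: members carrying a root to a multiple of itself respect the slot; involutions commuting with a
root act as a sign on it.
-/

set_option autoImplicit false

namespace Cfsg.Agent.H24.Wreath

open Matrix Finset
open Cfsg.Agent.Aschbacher (pureMat pureVec slotMat)

/-- An idempotent commuting with `P`, whose sign change lies in `G` and which meets `P` exactly, fixes `P`. -/
def Cent {E : Type*} [Ring E] (G : Subgroup Eˣ) (P : E) : Prop :=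
  ∀ e : E, e * e = e → e * P = P * e → (∃ g ∈ G, (g : E) = 1 - e - e) → e * P ≠ 0 →
    (∀ X, e * X = X → P * X = 0 → ∃ W, X = P * W) → e * P = P

theorem Cent.map {E E' : Type*} [Ring E] [Ring E'] {G : Subgroup Eˣ} {P : E} (h : Cent G P) (φ : E ≃+* E') :
    Cent (G.map (Units.map φ.toRingHom.toMonoidHom)) (φ P) := by
  rintro e' he hc ⟨_, ⟨g, hg, rfl⟩, hgv⟩ hne hX
  obtain ⟨e, rfl⟩ := φ.surjective e'
  rw [← map_mul] at he hne ⊢
  rw [← map_mul, ← map_mul] at hc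
  change φ (g : E) = _ at hgv
  rw [← map_one φ, ← map_sub, ← map_sub] at hgv
  refine congrArg φ (h e (φ.injective he) (φ.injective hc) ⟨g, hg, φ.injective hgv⟩
    (fun h0 => hne (by rw [h0, map_zero])) fun X h1 h2 => ?_)
  obtain ⟨W', hW'⟩ := hX (φ X) (by rw [← map_mul, h1]) (by rw [← map_mul, h2, map_zero])
  obtain ⟨W, rfl⟩ := φ.surjective W'
  exact ⟨W, φ.injective (by rw [map_mul]; exact hW')⟩

theorem Cent.conj {E : Type*} [Ring E] {G : Subgroup Eˣ} {P : E} (h : Cent G P) {g : Eˣ} (hg : g ∈ G) :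
    Cent G ((g : E) * P * ((g⁻¹ : Eˣ) : E)) := by
  set g' := ((g⁻¹ : Eˣ) : E) with hg'
  have hl : ∀ X : E, g' * ((g : E) * X) = X := fun X => by rw [hg', ← mul_assoc, g.inv_mul, one_mul]
  have hr : ∀ X : E, (g : E) * (g' * X) = X := fun X => by rw [hg', ← mul_assoc, g.mul_inv, one_mul]
  have hl1 : g' * (g : E) = 1 := g.inv_mul
  have hr1 : (g : E) * g' = 1 := g.mul_inv
  intro e he hc ⟨u, hu, huv⟩ hne hX
  have key := h (g' * e * g) ?_ ?_ ⟨g⁻¹ * u * g, G.mul_mem (G.mul_mem (G.inv_mem hg) hu) hg, ?_⟩ ?_ ?_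
  · calc e * ((g : E) * P * g') = (g : E) * (g' * e * g * P) * g' := by simp only [mul_assoc, hr]
      _ = (g : E) * P * g' := by rw [key]
  · simp only [mul_assoc, hr]
    rw [← mul_assoc e e, he]
  · calc g' * e * g * P = g' * (e * ((g : E) * P * g')) * g := by simp only [mul_assoc, hl1, mul_one]
      _ = g' * ((g : E) * P * g' * e) * g := by rw [hc]
      _ = P * (g' * e * g) := by simp only [mul_assoc, hl]
  · rw [Units.val_mul, Units.val_mul, huv]
    simp only [mul_sub, sub_mul, mul_one, ← hg', hl1, mul_assoc]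
  · intro h0
    refine hne ?_
    calc e * ((g : E) * P * g') = (g : E) * (g' * e * g * P) * g' := by simp only [mul_assoc, hr]
      _ = 0 := by rw [h0, mul_zero, zero_mul]
  · intro X h1 h2
    have k1 : e * ((g : E) * X * g') = (g : E) * X * g' := by
      calc e * ((g : E) * X * g') = (g : E) * (g' * e * g * X) * g' := by simp only [mul_assoc, hr]
        _ = (g : E) * X * g' := by rw [h1]
    have k2 : (g : E) * P * g' * ((g : E) * X * g') = 0 := by
      calc (g : E) * P * g' * ((g : E) * X * g') = (g : E) * (P * X) * g' := by simp only [mul_assoc, hl]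
        _ = 0 := by rw [h2, mul_zero, zero_mul]
    obtain ⟨W, hW⟩ := hX _ k1 k2
    refine ⟨g' * W * g, ?_⟩
    calc X = g' * ((g : E) * X * g') * g := by simp only [mul_assoc, hl, hl1, mul_one]
      _ = P * (g' * W * g) := by rw [hW]; simp only [mul_assoc, hl]

/-- A member carrying `P` to a multiple and fixing the part outside `e` acts on `P` by a scalar. -/
def Slim (F : Type*) [CommSemiring F] {E : Type*} [Ring E] [Algebra F E] (G : Subgroup Eˣ) (P : E) : Prop :=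
  ∀ e : E, e * e = e → e * P = P * e → (∃ g ∈ G, (g : E) = 1 - e - e) → e * P ≠ 0 →
    (∀ X, e * X = X → P * X = 0 → ∃ W, X = P * W) → ∀ g ∈ G, ∀ κ : F, κ ≠ 0 →
      (g : E) * P = κ • (P * g) → (g : E) * (1 - e) = 1 - e → ∃ l : F, (g : E) * P = l • P

theorem Slim.map {F : Type*} [CommSemiring F] {E E' : Type*} [Ring E] [Ring E'] [Algebra F E] [Algebra F E']
    {G : Subgroup Eˣ} {P : E} (h : Slim F G P) (φ : E ≃ₐ[F] E') :
    Slim F (G.map (Units.map φ.toAlgHom.toRingHom.toMonoidHom)) (φ P) := by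
  rintro e' he hc ⟨_, ⟨g, hg, rfl⟩, hgv⟩ hne hX _ ⟨u, hu, rfl⟩ κ hκ huP hue
  obtain ⟨e, rfl⟩ := φ.surjective e'
  rw [← map_mul] at he hne
  rw [← map_mul, ← map_mul] at hc
  change φ (g : E) = _ at hgv
  rw [← map_one φ, ← map_sub, ← map_sub] at hgv
  change φ (u : E) * φ P = κ • (φ P * φ (u : E)) at huP
  change φ (u : E) * (1 - φ e) = 1 - φ e at hue
  rw [← map_mul, ← map_mul, ← map_smul] at huP
  rw [← map_one φ, ← map_sub, ← map_mul] at hue
  obtain ⟨l, hl⟩ := h e (φ.injective he) (φ.injective hc) ⟨g, hg, φ.injective hgv⟩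
    (fun h0 => hne (by rw [h0, map_zero])) (fun X h1 h2 => by
      obtain ⟨W', hW'⟩ := hX (φ X) (by rw [← map_mul, h1]) (by rw [← map_mul, h2, map_zero])
      obtain ⟨W, rfl⟩ := φ.surjective W'
      exact ⟨W, φ.injective (by rw [map_mul]; exact hW')⟩) u hu κ hκ (φ.injective huP) (φ.injective hue)
  refine ⟨l, ?_⟩
  show φ (u : E) * φ P = l • φ P
  rw [← map_mul, hl, map_smul]

variable {F : Type*} [Field F] {k t : ℕ}

namespace Gram

variable (𝕘 : Gram F k)

theorem ct_mid (i : Fin t) (x y a : Fin k → F) (Y : Mat F k t) :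
    𝕘.ct i x y (Y * sl i (𝕘.root a) * Y) = 𝕘.ct i x a Y * 𝕘.ct i a y Y := by
  rcases eq_or_ne x 0 with rfl | hx
  · rw [ct_zero_left, ct_zero_left, zero_mul]
  rcases eq_or_ne y 0 with rfl | hy
  · rw [ct_zero_right, ct_zero_right, mul_zero]
  refine (𝕘.ct_off i x y _).cancel ((𝕘.ct_off i x a Y).mul (𝕘.ct_off i a y Y)) (𝕘.tau_ne_zero hx hy) ?_
  rw [← tau_sandwich 𝕘 i x x y y]
  calc sl i (𝕘.tau x x) * (Y * sl i (𝕘.root a) * Y) * sl i (𝕘.tau y y)
      = sl i (𝕘.tau x x) * Y * sl i (𝕘.tau a a) * Y * sl i (𝕘.tau y y) := by simp only [mul_assoc]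
    _ = 𝕘.ct i x a Y * (sl i (𝕘.tau x a) * Y * sl i (𝕘.tau y y)) := by
      rw [tau_sandwich, 𝕘.ct_off i x a Y]; simp only [mul_assoc]
    _ = _ := by rw [tau_sandwich, ← mul_assoc, ← 𝕘.ct_off i x a Y]; simp only [mul_assoc]

variable {𝕘} {H : Subgroup (Mat F k t)ˣ}
variable [NeZero k] (hk : 4 ≤ k) (h3 : (3 : F) = 0) (hH : 𝕘.Over H) (hno : 𝕘.NoRoot H)
include hk h3 hH hno

/-- A root opposite to a slot root has scalar contractions against its orthogonal. -/
theorem Over.opp_scalar {i : Fin t} {a : Fin k → F} (ha : a ≠ 0) {Y : Mat F k t} (hY : Q (F := F) H Y)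
    (h1 : 𝕘.ct i a a Y = -1) (h2 : Y * sl i (𝕘.root a) * Y = -Y) {d : Fin k → F} (had : 𝕘.β a d = 0) :
    ∃ r r' : F, 𝕘.ct i a d Y = r • 1 ∧ 𝕘.ct i d a Y = r' • 1 := by
  by_cases hind : ∃ c : F, d = c • a
  · obtain ⟨c, rfl⟩ := hind
    exact ⟨-c, -c, by rw [ct_smul_right, h1, smul_neg, neg_smul], by rw [ct_smul_left, h1, smul_neg, neg_smul]⟩
  push Not at hind
  have hda : 𝕘.β d a = 0 := by rw [β_skew, had, neg_zero]
  set P := (sl i (𝕘.root a) : Mat F k t) with hP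
  set N := (sl i (𝕘.root d) : Mat F k t) with hN
  set C₁ := 𝕘.ct i a d Y with hC₁
  set C₂ := 𝕘.ct i d a Y with hC₂
  obtain ⟨gP, hgP, hvP⟩ := (hH.hroot i a).2 1
  obtain ⟨gY, hgY, hvY⟩ := hY.2 1
  obtain ⟨gN, hgN, hvN⟩ := (hH.hroot i d).2 1
  rw [one_smul, ← hP] at hvP
  rw [one_smul] at hvY
  rw [one_smul, ← hN] at hvN
  have hP2 : P * P = 0 := (hH.hroot i a).sq
  have hN2 : N * N = 0 := (hH.hroot i d).sq
  have hPYP : P * Y * P = -P := by rw [hP, tau_sandwich, h1, mul_neg, mul_one]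
  have hPN : P * N = 0 := by rw [hP, hN, sl_mul, tau_mul_tau, had, zero_smul, sl_zero]
  have hNP : N * P = 0 := by rw [hP, hN, sl_mul, tau_mul_tau, hda, zero_smul, sl_zero]
  set S := P * Y + Y * P with hS
  have hS3 : S + S = -S := by
    rw [eq_neg_iff_add_eq_zero, show S + S + S = (3 : F) • S by
      rw [show (3 : F) = 1 + 1 + 1 by norm_num, add_smul, add_smul, one_smul], h3, zero_smul]
  set w := gP * gY * gP
  have hw : (w : Mat F k t) = 1 + P + Y + S := by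
    rw [Units.val_mul, Units.val_mul, hvP, hvY, hS]
    calc (1 + P) * (1 + Y) * (1 + P) = 1 + P + Y + (P * Y + Y * P) + P * P + (P + P * Y * P) := by noncomm_ring
      _ = _ := by rw [hP2, hPYP]; abel
  have hz : ((w * w : (Mat F k t)ˣ) : Mat F k t) = 1 - S := by
    rw [Units.val_mul, hw]
    have e1 : P * S = -P := by rw [hS, mul_add, ← mul_assoc, hP2, zero_mul, zero_add, ← mul_assoc, hPYP]
    have e2 : S * P = -P := by rw [hS, add_mul, hPYP, mul_assoc, hP2, mul_zero, add_zero]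
    have e3 : Y * S = -Y := by rw [hS, mul_add, ← mul_assoc, h2, ← mul_assoc, hY.sq, zero_mul, add_zero]
    have e4 : S * Y = -Y := by rw [hS, add_mul, mul_assoc, hY.sq, mul_zero, zero_add, h2]
    have e5 : S * S = -S := by
      conv_lhs => enter [1]; rw [hS]
      rw [add_mul, mul_assoc, mul_assoc, e3, e1, hS, mul_neg, mul_neg]; abel
    calc (1 + P + Y + S) * (1 + P + Y + S)
        = 1 + (S + S) + (P * P + Y * Y) + (P * Y + Y * P) + (P + P) + (Y + Y) +
            (P * S + S * P) + (Y * S + S * Y) + S * S := by noncomm_ring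
      _ = _ := by rw [hP2, hY.sq, e1, e2, e3, e4, e5, ← hS, hS3]; abel
  have hel : (1 - S) * N * (1 - S) - N = 𝕘.el i a d (-C₁) (-C₂) (C₁ * C₂) := by
    have f1 : S * N = P * Y * N := by rw [hS, add_mul, mul_assoc Y P N, hPN, mul_zero, add_zero]
    have f2 : N * S = N * Y * P := by rw [hS, mul_add, ← mul_assoc, hNP, zero_mul, zero_add, ← mul_assoc]
    have f3 : S * N * S = P * Y * N * Y * P := by
      rw [f1, mul_assoc _ N S, f2]
      simp only [mul_assoc]
    calc (1 - S) * N * (1 - S) - N = S * N * S - S * N - N * S := by noncomm_ring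
      _ = _ := by
        rw [f3, f1, f2, el, hP, hN, tau_sandwich, tau_sandwich, ← hC₁, ← hC₂, 𝕘.ct_off i a d Y,
          mul_assoc _ (sl i (𝕘.tau a d)) Y, mul_assoc C₁ _ (sl i (𝕘.root a)), tau_sandwich, ← hC₂,
          ← mul_assoc, ← 𝕘.ct_off i a d Y, mul_assoc _ C₁ C₂, mul_neg, mul_neg]
        try rw [← 𝕘.ct_off i a d Y]
        abel
  set D := 𝕘.el i a d (-C₁) (-C₂) (C₁ * C₂) with hD
  have hDN : D * N = 0 := by
    have hoff := (𝕘.ct_off i a d Y).neg
    simp only [hD, el, hN, add_mul]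
    rw [← mul_one (sl i (𝕘.root d) : Mat F k t), hoff.sl_mul_sl, (𝕘.ct_off i d a Y).neg.sl_mul_sl,
      ((𝕘.ct_off i a d Y).mul (𝕘.ct_off i d a Y)).sl_mul_sl, tau_mul_tau, tau_mul_tau, root, tau_mul_tau, had,
      β_self, zero_smul, zero_smul, sl_zero]
    simp
  have hIn : In H D := by
    refine ⟨w * w * gN * (w * w) * gN⁻¹, H.mul_mem (H.mul_mem (H.mul_mem ?_ hgN) ?_) (H.inv_mem hgN), ?_⟩
    · exact H.mul_mem (H.mul_mem (H.mul_mem hgP hgY) hgP) (H.mul_mem (H.mul_mem hgP hgY) hgP)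
    · exact H.mul_mem (H.mul_mem (H.mul_mem hgP hgY) hgP) (H.mul_mem (H.mul_mem hgP hgY) hgP)
    · have hz2 : (1 - S) * (1 - S) = 1 := by
        have e1 : P * S = -P := by rw [hS, mul_add, ← mul_assoc, hP2, zero_mul, zero_add, ← mul_assoc, hPYP]
        have e3 : Y * S = -Y := by rw [hS, mul_add, ← mul_assoc, h2, ← mul_assoc, hY.sq, zero_mul, add_zero]
        have e5 : S * S = -S := by
          conv_lhs => enter [1]; rw [hS]
          rw [add_mul, mul_assoc, mul_assoc, e3, e1, hS, mul_neg, mul_neg]; abel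
        calc (1 - S) * (1 - S) = 1 - (S + S) + S * S := by noncomm_ring
          _ = 1 := by rw [e5, hS3]; abel
      rw [Units.val_mul, Units.val_mul, Units.val_mul, hz, inv_val_of gN hN2 hvN, hvN]
      calc (1 - S) * (1 + N) * (1 - S) * (1 - N)
          = ((1 - S) * (1 - S) + N + ((1 - S) * N * (1 - S) - N)) * (1 - N) := by noncomm_ring
        _ = 1 + D - N * N - D * N := by rw [hz2, hel]; noncomm_ring
        _ = 1 + D := by rw [hN2, hDN, sub_zero, sub_zero]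
  obtain ⟨r, r', hr, hr'⟩ := hH.plane_rad hk h3 hno i ha had hind (𝕘.ct_off i a d Y).neg (𝕘.ct_off i d a Y).neg
    ((𝕘.ct_off i a d Y).mul (𝕘.ct_off i d a Y)) hIn
  exact ⟨-r, -r', by rw [neg_smul, ← hr, neg_neg], by rw [neg_smul, ← hr', neg_neg]⟩

/-- A root opposite to a slot root lies in the slot. -/
theorem Over.slot_of_pair {i : Fin t} {a : Fin k → F} (ha : a ≠ 0) {Y : Mat F k t} (hY : Q (F := F) H Y)
    (h1 : 𝕘.ct i a a Y = -1) (h2 : Y * sl i (𝕘.root a) * Y = -Y) : ∃ C, Y = sl i C := by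
  classical
  let x₀ : Fin t → Fin k := fun _ => 0
  let f : (Fin k → F) →ₗ[F] F :=
    { toFun := fun d => 𝕘.ct i a d Y x₀ x₀
      map_add' := fun x y => by rw [ct_add_right, Matrix.add_apply]
      map_smul' := fun c x => by rw [ct_smul_right, Matrix.smul_apply, RingHom.id_apply] }
  let g : (Fin k → F) →ₗ[F] F :=
    { toFun := fun d => 𝕘.ct i d a Y x₀ x₀
      map_add' := fun x y => by rw [ct_add_left, Matrix.add_apply]
      map_smul' := fun c x => by rw [ct_smul_left, Matrix.smul_apply, RingHom.id_apply] }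
  obtain ⟨d, hd0, had, hfd, hgd⟩ := exists_ker_two hk (𝕘.βl a) f g
  change 𝕘.β a d = 0 at had
  change 𝕘.ct i a d Y x₀ x₀ = 0 at hfd
  change 𝕘.ct i d a Y x₀ x₀ = 0 at hgd
  obtain ⟨r, r', hr, hr'⟩ := hH.opp_scalar hk h3 hno ha hY h1 h2 had
  rw [hr, Matrix.smul_apply, one_apply_eq, smul_eq_mul, mul_one] at hfd
  rw [hr', Matrix.smul_apply, one_apply_eq, smul_eq_mul, mul_one] at hgd
  rw [hfd, zero_smul] at hr
  rw [hgd, zero_smul] at hr'
  have hmid : ∀ x y, 𝕘.ct i x y Y = -(𝕘.ct i x a Y * 𝕘.ct i a y Y) := fun x y => by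
    rw [← ct_mid, h2, ct_neg, neg_neg]
  have hxd : ∀ x, 𝕘.ct i x d Y = 0 := fun x => by rw [hmid, hr, mul_zero, neg_zero]
  have hdy : ∀ y, 𝕘.ct i d y Y = 0 := fun y => by rw [hmid, hr', zero_mul, neg_zero]
  have hind : ∀ c : F, a ≠ c • (a + d) := fun c hc => by
    have h := congrArg (fun v => 𝕘.ct i a v Y) hc
    simp only [ct_smul_right, ct_add_right, h1, hr, add_zero, smul_neg] at h
    rw [neg_inj] at h
    have hc1 : c = 1 := by
      have h' := congrFun (congrFun h x₀) x₀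
      simpa using h'.symm
    rw [hc1, one_smul] at hc
    exact hd0 (left_eq_add.1 hc)
  have had0 : a + d ≠ 0 := fun h => hind 1 (absurd h1 (by
    have : 𝕘.ct i a a Y = 0 := by
      rw [show a = -d from eq_neg_of_add_eq_zero_left h, ← neg_one_smul F d, ct_smul_left, ct_smul_right, hxd,
        smul_zero, smul_zero]
    rw [this]
    intro h0
    exact one_ne_zero (α := Mat F k t) (neg_eq_zero.1 h0.symm)))
  have h1' : 𝕘.ct i (a + d) (a + d) Y = -1 := by
    rw [ct_add_left, ct_add_right, ct_add_right, h1, hxd, hdy, hdy, add_zero, add_zero, add_zero]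
  have h2' : Y * sl i (𝕘.root (a + d)) * Y = -Y := 𝕘.ext_ct i fun x y => by
    rw [ct_mid, ct_add_right, ct_add_left, hxd, hdy, add_zero, add_zero, ct_neg, hmid x y, neg_neg]
  obtain ⟨v, hv, hav⟩ := 𝕘.exists_sep hind
  obtain ⟨s, s', hs, hs'⟩ := hH.opp_scalar hk h3 hno had0 hY h1' h2' hv
  rw [ct_add_left, hdy, add_zero] at hs
  rw [ct_add_right, hxd, add_zero] at hs'
  have hline : ∀ y, ∃ u u' : F, 𝕘.ct i a y Y = u • 1 ∧ 𝕘.ct i y a Y = u' • 1 := fun y => by
    obtain ⟨u, u', hu, hu'⟩ := hH.opp_scalar hk h3 hno ha hY h1 h2 (d := y - 𝕘.β a y • v)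
      (by rw [β_sub_right, β_smul_right, hav, mul_one, sub_self])
    refine ⟨u + 𝕘.β a y * s, u' + 𝕘.β a y * s', ?_, ?_⟩
    · rw [add_smul, ← hu, mul_smul, ← hs, ← ct_smul_right, ← ct_add_right, sub_add_cancel]
    · rw [add_smul, ← hu', mul_smul, ← hs', ← ct_smul_left, ← ct_add_left, sub_add_cancel]
  refine eq_sl_of_off i fun j hj X => 𝕘.ext_ct i fun x y => ?_
  obtain ⟨u, u', -, hu⟩ := hline x
  obtain ⟨v', v'', hv', -⟩ := hline y
  rw [ct_off_mul 𝕘 (off_sl hj.symm X), ct_mul_off 𝕘 (off_sl hj.symm X), hmid, hu, hv']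
  simp

/-- A member carrying a root to a multiple of it is a slot times a matrix off it. -/
theorem Over.factor {i : Fin t} {a : Fin k → F} (ha : a ≠ 0) {g : (Mat F k t)ˣ} (hg : g ∈ H) {κ : F} (hκ : κ ≠ 0)
    (hgP : (g : Mat F k t) * sl i (𝕘.root a) * ((g⁻¹ : (Mat F k t)ˣ) : Mat F k t) = κ • sl i (𝕘.root a)) :
    ∃ (θ : Matrix (Fin k) (Fin k) F) (α : Mat F k t), IsUnit θ ∧ Off i α ∧ (g : Mat F k t) = sl i θ * α ∧
      (∃ ν : F, ν ≠ 0 ∧ θ *ᵥ a = ν • a) ∧ ∀ y, 𝕘.β a y = 0 → 𝕘.β a (θ *ᵥ y) = 0 := by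
  classical
  set h := ((g⁻¹ : (Mat F k t)ˣ) : Mat F k t) with hh
  set cj : Mat F k t → Mat F k t := fun X => (g : Mat F k t) * X * h with hcj
  have hcmul : ∀ X Y, cj (X * Y) = cj X * cj Y := fun X Y => by
    simp only [hcj, mul_assoc]
    rw [← mul_assoc h (g : Mat F k t), hh, g.inv_mul, one_mul]
  let S : Matrix (Fin k) (Fin k) F → Prop := fun X => ∃ X', cj (sl i X) = sl i X'
  have hadd : ∀ X Y, S X → S Y → S (X + Y) := fun X Y ⟨X', hX⟩ ⟨Y', hY⟩ =>
    ⟨X' + Y', by rw [sl_add, sl_add, ← hX, ← hY]; simp only [hcj, mul_add, add_mul]⟩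
  have hsmul : ∀ (c : F) X, S X → S (c • X) := fun c X ⟨X', hX⟩ =>
    ⟨c • X', by rw [sl_smul, sl_smul, ← hX]; simp only [hcj, mul_smul_comm, smul_mul_assoc]⟩
  have hmul : ∀ X Y, S X → S Y → S (X * Y) := fun X Y ⟨X', hX⟩ ⟨Y', hY⟩ =>
    ⟨X' * Y', by rw [← sl_mul, ← sl_mul, hcmul, hX, hY]⟩
  have hroot1 : ∀ z, 𝕘.β a z ≠ 0 → S (𝕘.root z) := fun z hz => by
    set b := 𝕘.β a z with hb
    set s := κ / (b * b) with hs
    have hs0 : s ≠ 0 := div_ne_zero hκ (mul_ne_zero hz hz)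
    have hzv : 𝕘.β z a = -b := by rw [β_skew]
    have hQ : Q (F := F) H (s • cj (sl i (𝕘.root z))) := ((hH.hroot i z).map hg).smul s
    have hN : cj (sl i (𝕘.root z)) * cj (sl i (𝕘.root a)) * cj (sl i (𝕘.root z)) =
        (-(b * b)) • cj (sl i (𝕘.root z)) := by
      rw [← hcmul, ← hcmul, sl_mul, sl_mul, tau_mul_tau, smul_mul_assoc, tau_mul_tau, smul_smul, hzv, ← hb,
        sl_smul, show -b * b = -(b * b) by ring]
      simp only [hcj, mul_smul_comm, smul_mul_assoc]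
    have hP : cj (sl i (𝕘.root a)) * cj (sl i (𝕘.root z)) * cj (sl i (𝕘.root a)) =
        (-(b * b)) • cj (sl i (𝕘.root a)) := by
      rw [← hcmul, ← hcmul, sl_mul, sl_mul, tau_mul_tau, smul_mul_assoc, tau_mul_tau, smul_smul, hzv, ← hb,
        sl_smul, show b * -b = -(b * b) by ring]
      simp only [hcj, mul_smul_comm, smul_mul_assoc]
    have hgP' : cj (sl i (𝕘.root a)) = κ • sl i (𝕘.root a) := hgP
    rw [hgP'] at hN hP
    simp only [smul_mul_assoc, mul_smul_comm, smul_smul] at hN hP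
    have h1 : 𝕘.ct i a a (s • cj (sl i (𝕘.root z))) = -1 := by
      refine (𝕘.ct_off i a a _).cancel (off_one i).neg (𝕘.tau_ne_zero ha ha) ?_
      rw [← tau_sandwich, mul_smul_comm, smul_mul_assoc, mul_neg, mul_one]
      have h' := congrArg ((κ * κ)⁻¹ • ·) hP
      simp only [smul_smul, inv_mul_cancel₀ (mul_ne_zero hκ hκ), one_smul] at h'
      rw [h', smul_smul]
      convert neg_one_smul F _ using 2
      rw [hs]; field_simp
    have h2 : s • cj (sl i (𝕘.root z)) * sl i (𝕘.root a) * (s • cj (sl i (𝕘.root z))) =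
        -(s • cj (sl i (𝕘.root z))) := by
      have h' := congrArg (κ⁻¹ • ·) hN
      simp only [smul_smul, inv_mul_cancel₀ hκ, one_smul] at h'
      simp only [smul_mul_assoc, mul_smul_comm, smul_smul, h', ← neg_smul]
      congr 1
      rw [hs]; field_simp
    obtain ⟨C, hC⟩ := hH.slot_of_pair hk h3 hno ha hQ h1 h2
    exact ⟨s⁻¹ • C, by rw [sl_smul, ← hC, smul_smul, inv_mul_cancel₀ hs0, one_smul]⟩
  obtain ⟨a', ha'⟩ := 𝕘.exists_one ha
  have hroot : ∀ z, S (𝕘.root z) := fun z => by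
    by_cases hz : 𝕘.β a z = 0
    · have h1 := hroot1 (z + a') (by rw [β_add_right, hz, ha', zero_add]; exact one_ne_zero)
      have h2 := hroot1 (z - a') (by rw [β_sub_right, hz, ha', zero_sub]; exact neg_ne_zero.2 one_ne_zero)
      have h5 := hsmul (2 : F)⁻¹ _ (hadd _ _ (hadd _ _ h1 h2) (hsmul (-2) _ (hroot1 a' (by
        rw [ha']; exact one_ne_zero))))
      convert h5 using 1
      simp only [root, tau_add_left, tau_add_right, tau_sub_left, tau_sub_right]
      have := 𝕘.two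
      match_scalars <;> field_simp <;> ring
    · exact hroot1 z hz
  have hnon : ∀ x y, 𝕘.β x y ≠ 0 → S (𝕘.tau x y) := fun x y hxy => by
    have h5 := hsmul (𝕘.β x y)⁻¹ _ (hmul _ _ (hroot x) (hroot y))
    rwa [tau_mul_tau, smul_smul, inv_mul_cancel₀ hxy, one_smul] at h5
  have htau : ∀ x y, S (𝕘.tau x y) := fun x y => by
    rcases eq_or_ne x 0 with rfl | hx
    · exact ⟨0, by rw [tau_zero_left, sl_zero]; simp [hcj]⟩
    rcases eq_or_ne y 0 with rfl | hy
    · exact ⟨0, by rw [tau_zero_right, sl_zero]; simp [hcj]⟩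
    by_cases hxy : 𝕘.β x y = 0
    · obtain ⟨z, hxz, hyz⟩ := 𝕘.exists_common hx hy
      have hzw : 𝕘.β z (z + x) ≠ 0 := by
        rw [β_add_right, β_self, zero_add, β_skew]; exact neg_ne_zero.2 hxz
      have hwy : 𝕘.β (z + x) y ≠ 0 := by
        rw [β_add_left, hxy, add_zero, β_skew]; exact neg_ne_zero.2 hyz
      have h5 := hsmul (𝕘.β z (z + x))⁻¹ _ (hmul _ _ (hnon x z hxz) (hnon (z + x) y hwy))
      rwa [tau_mul_tau, smul_smul, inv_mul_cancel₀ hzw, one_smul] at h5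
    · exact hnon x y hxy
  have hall : ∀ X, S X := fun X => by
    obtain ⟨u, hu⟩ := 𝕘.unit
    have e : X = ∑ q, 𝕘.tau (X *ᵥ Pi.single q 1) (Pi.single q 1 ᵥ* (↑u⁻¹ : Matrix (Fin k) (Fin k) F)) := by
      simp only [tau, vecMul_vecMul, ← hu, u.inv_mul, vecMul_one]
      ext p q
      simp [Matrix.sum_apply, vecMulVec_apply, Pi.single_apply]
    rw [e]
    exact Finset.sum_induction _ S hadd ⟨0, by rw [sl_zero]; simp [hcj]⟩ fun q _ => htau _ _
  choose φ hφ using hall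
  have φmul : ∀ X Y, φ (X * Y) = φ X * φ Y := fun X Y => sl_injective i (by
    show sl i (φ (X * Y)) = sl i (φ X * φ Y)
    rw [← hφ, ← sl_mul, hcmul, hφ, hφ, sl_mul])
  have φadd : ∀ X Y, φ (X + Y) = φ X + φ Y := fun X Y => sl_injective i (by
    show sl i (φ (X + Y)) = sl i (φ X + φ Y)
    rw [← hφ, sl_add, sl_add, ← hφ, ← hφ]
    simp only [hcj, mul_add, add_mul])
  have φsmul : ∀ (c : F) X, φ (c • X) = c • φ X := fun c X => sl_injective i (by
    show sl i (φ (c • X)) = sl i (c • φ X)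
    rw [← hφ, sl_smul, sl_smul, ← hφ]
    simp only [hcj, mul_smul_comm, smul_mul_assoc])
  have φinj : ∀ X, φ X = 0 → X = 0 := fun X h0 => by
    have h1 := hφ X
    rw [h0, sl_zero] at h1
    have h2 := congrArg (fun Z => h * Z * (g : Mat F k t)) h1
    simp [hcj, hh, mul_assoc] at h2
    exact sl_injective i (h2.trans (sl_zero i).symm)
  obtain ⟨v₀, hv₀⟩ : ∃ v, φ (𝕘.tau a a) *ᵥ v ≠ 0 := by
    by_contra hc
    push Not at hc
    exact 𝕘.tau_ne_zero ha ha (φinj _ (Matrix.ext_iff_mulVec.2 fun v => by rw [hc, zero_mulVec]))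
  let θl : (Fin k → F) →ₗ[F] Fin k → F :=
    { toFun := fun y => φ (𝕘.tau y a) *ᵥ v₀
      map_add' := fun x y => by rw [tau_add_left, φadd, add_mulVec]
      map_smul' := fun c x => by rw [tau_smul_left, φsmul, smul_mulVec, RingHom.id_apply] }
  set θ := LinearMap.toMatrix' θl with hθ
  have hθv : ∀ y, θ *ᵥ y = φ (𝕘.tau y a) *ᵥ v₀ := fun y => LinearMap.toMatrix'_mulVec _ _
  have hint : ∀ X, θ * X = φ X * θ := fun X => Matrix.ext_iff_mulVec.2 fun y => by
    rw [← mulVec_mulVec, ← mulVec_mulVec, hθv, hθv, mulVec_mulVec, ← φmul, mul_tau]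
  have hinj : Function.Injective θ.mulVec := fun x y hxy => by
    by_contra hne
    obtain ⟨y', hy'⟩ := 𝕘.exists_one (sub_ne_zero.2 hne)
    refine hv₀ ?_
    have h0 : θ *ᵥ (x - y) = 0 := by rw [mulVec_sub]; exact sub_eq_zero.2 hxy
    have h1 : 𝕘.tau a a = 𝕘.tau a (-y') * 𝕘.tau (x - y) a := by
      rw [tau_mul_tau, β_skew, show 𝕘.β (x - y) (-y') = -1 by rw [← neg_one_smul F y', β_smul_right, hy', mul_one], neg_neg, one_smul]
    rw [h1, φmul, ← mulVec_mulVec, ← hθv, h0, mulVec_zero]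
  obtain ⟨u, hu⟩ := Matrix.mulVec_injective_iff_isUnit.1 hinj
  have hgsl : ∀ X, (g : Mat F k t) * sl i X = sl i (φ X) * g := fun X => by
    rw [← hφ]
    simp only [hcj, mul_assoc, hh, g.inv_mul, mul_one]
  set ui := (↑u⁻¹ : Matrix (Fin k) (Fin k) F) with hui
  have hl : ui * θ = 1 := by rw [hui, ← hu, u.inv_mul]
  have hr : θ * ui = 1 := by rw [hui, ← hu, u.mul_inv]
  refine ⟨θ, sl i ui * g, ⟨u, hu⟩, fun X => ?_, ?_, ?_⟩
  · have e : ui * φ X = X * ui := by
      calc ui * φ X = ui * (φ X * θ) * ui := by rw [mul_assoc, mul_assoc, hr, mul_one]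
        _ = X * ui := by rw [← hint, ← mul_assoc ui, hl, one_mul]
    rw [← mul_assoc, sl_mul, mul_assoc, hgsl, ← mul_assoc, sl_mul, e]
  · rw [← mul_assoc, sl_mul, hr, sl_one, one_mul]
  have hφa : φ (𝕘.root a) = κ • 𝕘.root a := sl_injective i (by
    show sl i (φ (𝕘.root a)) = sl i (κ • 𝕘.root a)
    rw [← hφ, sl_smul]; exact hgP)
  have hkey : ∀ y, 𝕘.β a y • (θ *ᵥ a) = (κ * 𝕘.β a (θ *ᵥ y)) • a := fun y => by
    have h1 := congrArg (· *ᵥ y) (hint (𝕘.root a))
    simp only [hφa, smul_mul_assoc, smul_mulVec, ← mulVec_mulVec, tau_mulVec, mulVec_smul, smul_smul] at h1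
    exact h1
  have hθa : θ *ᵥ a ≠ 0 := fun h0 => ha (hinj (h0.trans (mulVec_zero θ).symm))
  refine ⟨⟨κ * 𝕘.β a (θ *ᵥ a'), fun h0 => hθa ?_, ?_⟩, fun y hy => ?_⟩
  · have h1 := hkey a'
    rwa [ha', one_smul, h0, zero_smul] at h1
  · have h1 := hkey a'
    rwa [ha', one_smul] at h1
  · have h1 := hkey y
    rw [hy, zero_smul, eq_comm, smul_eq_zero] at h1
    exact (mul_eq_zero.1 (h1.resolve_right ha)).resolve_left hκ

/-- The sign lemma. -/
theorem Over.cent_form {i : Fin t} {a : Fin k → F} (ha : a ≠ 0) {e : Mat F k t} (he : e * e = e)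
    (hc : e * sl i (𝕘.root a) = sl i (𝕘.root a) * e) (hgH : ∃ g ∈ H, (g : Mat F k t) = 1 - e - e)
    (hne : e * sl i (𝕘.root a) ≠ 0) (hX : ∀ X, e * X = X → sl i (𝕘.root a) * X = 0 → ∃ W, X = sl i (𝕘.root a) * W) :
    e * sl i (𝕘.root a) = sl i (𝕘.root a) ∧ ∃ π, π ≠ 0 ∧ 1 - e = sl i π := by
  classical
  obtain ⟨g, hg, hgv⟩ := hgH
  set P := (sl i (𝕘.root a) : Mat F k t) with hP
  have hg2 : (g : Mat F k t) * g = 1 := by
    rw [hgv, show (1 - e - e) * (1 - e - e) = 1 - e - e - e - e + (e * e + e * e + (e * e + e * e)) by noncomm_ring,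
      he]
    abel
  have hginv : ((g⁻¹ : (Mat F k t)ˣ) : Mat F k t) = (g : Mat F k t) := Units.inv_eq_of_mul_eq_one_right hg2
  have hgP : (g : Mat F k t) * P * ((g⁻¹ : (Mat F k t)ˣ) : Mat F k t) = (1 : F) • P := by
    rw [one_smul, hginv, show (g : Mat F k t) * P = P * g by
      rw [hgv]; simp only [sub_mul, mul_sub, one_mul, mul_one, hc], mul_assoc, hg2, mul_one]
  obtain ⟨θ, α, -, hα, hgθ, ⟨ν, hν, hνa⟩, hperp⟩ := hH.factor hk h3 hno ha hg one_ne_zero hgP
  set θ' := ν⁻¹ • θ with hθ'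
  set α' := ν • α with hα'
  have hα'o : Off i α' := hα.smul ν
  have hg' : (g : Mat F k t) = sl i θ' * α' := by
    rw [hθ', hα', sl_smul, smul_mul_smul_comm, inv_mul_cancel₀ hν, one_smul, hgθ]
  have ha1 : θ' *ᵥ a = a := by rw [hθ', smul_mulVec, hνa, smul_smul, inv_mul_cancel₀ hν, one_smul]
  have hsq : sl i (θ' * θ') * (α' * α') = (1 : Mat F k t) := by rw [← hα'o.sl_mul_sl, ← hg', hg2]
  obtain ⟨a', ha'⟩ := 𝕘.exists_one ha
  have hα2 : α' * α' = 1 := by
    have h1 := congrArg (𝕘.ct i a' a) hsq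
    rw [ct_sl_mul 𝕘 (hα'o.mul hα'o), ← mulVec_mulVec, ha1, ha1, ct_of_off 𝕘 (off_one i)] at h1
    have hb : 𝕘.β a' a ≠ 0 := by rw [β_skew, ha']; exact neg_ne_zero.2 one_ne_zero
    exact smul_right_injective _ hb h1
  rw [hα2, mul_one, ← sl_one i] at hsq
  have hθ2 : θ' * θ' = 1 := sl_injective i hsq
  -- a vector orthogonal to `a`, off its line
  obtain ⟨u, hu0, hau, hu', -⟩ := exists_ker_two hk (𝕘.βl a) (𝕘.βl a') 0
  change 𝕘.β a u = 0 at hau
  change 𝕘.β a' u = 0 at hu'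
  have hua : ∀ c : F, u ≠ c • a := fun c hc => by
    rw [hc, β_smul_right, β_skew, ha', mul_neg, mul_one, neg_eq_zero] at hu'
    exact hu0 (by rw [hc, hu', zero_smul])
  have hθu : 𝕘.β a (θ' *ᵥ u) = 0 := by
    rw [hθ', smul_mulVec, β_smul_right, hperp u hau, mul_zero]
  obtain ⟨w, σ, hσ, haw, hwind, hθw⟩ : ∃ (w : Fin k → F) (σ : F), σ * σ = 1 ∧ 𝕘.β a w = 0 ∧
      (∀ c : F, w ≠ c • a) ∧ θ' *ᵥ w = σ • w := by
    by_cases hp : ∀ c : F, θ' *ᵥ u + u ≠ c • a
    · refine ⟨_, 1, one_mul 1, by rw [β_add_right, hθu, hau, add_zero], hp, ?_⟩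
      rw [mulVec_add, mulVec_mulVec, hθ2, one_mulVec, one_smul, add_comm]
    · push Not at hp
      obtain ⟨c, hc⟩ := hp
      refine ⟨θ' *ᵥ u - u, -1, by ring, by rw [β_sub_right, hθu, hau, sub_zero], fun c' hc' => ?_, ?_⟩
      · refine hua ((2 : F)⁻¹ * (c - c')) ?_
        rw [mul_smul, sub_smul, ← hc, ← hc', show θ' *ᵥ u + u - (θ' *ᵥ u - u) = (2 : F) • u by rw [two_smul]; abel,
          smul_smul, inv_mul_cancel₀ 𝕘.two, one_smul]
      · rw [mulVec_sub, mulVec_mulVec, hθ2, one_mulVec, neg_one_smul, neg_sub]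
  obtain ⟨v, hav, hwv⟩ := 𝕘.exists_sep hwind
  have hα'σ : α' = σ • (1 : Mat F k t) := by
    set M := 1 - σ • α' with hM
    have hMo : Off i M := by rw [hM, sub_eq_add_neg]; exact (off_one i).add (hα'o.smul σ).neg
    set X := sl i (𝕘.tau w a) * M with hXd
    have hgX : (g : Mat F k t) * X = -X := by
      rw [hg', hXd, hα'o.sl_mul_sl, mul_tau, hθw, tau_smul_left, sl_smul, smul_mul_assoc, ← mul_smul_comm, ← mul_neg]
      congr 1
      rw [hM, mul_sub, mul_one, mul_smul_comm, hα2, smul_sub]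
      simp only [smul_smul, hσ, one_smul, hα', neg_sub]
    have heX : e * X = X := by
      rw [hgv, sub_mul, sub_mul, one_mul] at hgX
      have h4 : (2 : F) • (X - e * X) = 0 := by
        rw [two_smul]
        calc X - e * X + (X - e * X) = X - e * X - e * X + X := by abel
          _ = 0 := by rw [hgX, neg_add_cancel]
      exact (sub_eq_zero.1 ((smul_eq_zero.1 h4).resolve_left 𝕘.two)).symm
    have hPX : P * X = 0 := by
      rw [hP, hXd, ← mul_assoc, sl_mul, tau_mul_tau, haw, zero_smul, sl_zero, zero_mul]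
    obtain ⟨W, hW⟩ := hX X heX hPX
    have h5 : sl i (𝕘.tau a v) * X = 0 := by
      rw [hW, ← mul_assoc, hP, sl_mul, tau_mul_tau, show 𝕘.β v a = 0 by rw [β_skew, hav, neg_zero], zero_smul,
        sl_zero, zero_mul]
    rw [hXd, ← mul_assoc, sl_mul, tau_mul_tau, show 𝕘.β v w = -1 by rw [β_skew, hwv], sl_smul, smul_mul_assoc,
      smul_eq_zero] at h5
    have h6 : M = 0 := hMo.cancel (off_one i |>.smul (0 : F)) (𝕘.tau_ne_zero ha ha)
      ((h5.resolve_left (neg_ne_zero.2 one_ne_zero)).trans (by simp)) |>.trans (zero_smul _ _)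
    rw [hM, sub_eq_zero] at h6
    calc α' = (σ * σ) • α' := by rw [hσ, one_smul]
      _ = σ • (1 : Mat F k t) := by rw [mul_smul, ← h6]
  have hgPv : (g : Mat F k t) * P = σ • P := by
    rw [hg', hP, hα'σ, mul_smul_comm, mul_one, smul_mul_assoc, sl_mul, mul_tau, ha1]
  rw [hgv, sub_mul, sub_mul, one_mul] at hgPv
  rcases mul_self_eq_one_iff.1 hσ with rfl | rfl
  · rw [one_smul] at hgPv
    refine absurd ((smul_eq_zero.1 (show (2 : F) • (e * P) = 0 from ?_)).resolve_left 𝕘.two) hne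
    rw [two_smul, ← sub_sub_self P (e * P + e * P), ← sub_sub, hgPv, sub_self]
  · rw [neg_one_smul] at hgPv
    refine ⟨(sub_eq_zero.1 ((smul_eq_zero.1 (show (2 : F) • (P - e * P) = 0 from ?_)).resolve_left 𝕘.two)).symm,
      (2 : F)⁻¹ • (1 - θ'), fun h0 => ?_, ?_⟩
    · rw [two_smul]
      calc P - e * P + (P - e * P) = P - e * P - e * P + P := by abel
        _ = 0 := by rw [hgPv, neg_add_cancel]
    · rw [smul_eq_zero, sub_eq_zero, inv_eq_zero] at h0
      have hθ1 : θ' = 1 := (h0.resolve_left 𝕘.two).symm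
      rw [hθ1, one_mulVec] at hθw
      refine hwind 0 ?_
      rw [zero_smul]
      exact (smul_eq_zero.1 (show (2 : F) • w = 0 by
        rw [two_smul]; nth_rw 1 [hθw]; rw [neg_one_smul, neg_add_cancel])).resolve_left 𝕘.two
    · rw [hg', hα'σ, neg_one_smul, mul_neg, mul_one] at hgv
      rw [sl_smul, sl_sub, sl_one, sub_eq_add_neg _ (sl i θ'), hgv,
        show (1 : Mat F k t) + (1 - e - e) = (2 : F) • (1 - e) by rw [two_smul]; abel,
        smul_smul, inv_mul_cancel₀ 𝕘.two, one_smul]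

theorem Over.cent {i : Fin t} {a : Fin k → F} (ha : a ≠ 0) : Cent H (sl i (𝕘.root a) : Mat F k t) :=
  fun _ he hc hg hne hX => (hH.cent_form hk h3 hno ha he hc hg hne hX).1

/-- A member fixing the part outside an involution and the line of a root acts on it by a scalar. -/
theorem Over.slim {i : Fin t} {a : Fin k → F} (ha : a ≠ 0) : Slim F H (sl i (𝕘.root a) : Mat F k t) := by
  classical
  intro e he hc hg hne hX g hgH κ hκ hgP hge
  obtain ⟨-, π, hπ, hπe⟩ := hH.cent_form hk h3 hno ha he hc hg hne hX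
  obtain ⟨θ, α, hθ, hα, hgθ, ⟨ν, -, hν⟩, -⟩ := hH.factor hk h3 hno ha hgH hκ (by
    rw [hgP, smul_mul_assoc, mul_assoc, g.mul_inv, mul_one])
  rw [hπe, hgθ, mul_assoc, ← hα, ← mul_assoc, sl_mul] at hge
  obtain ⟨x, y, hxy⟩ : ∃ x y, 𝕘.β x ((θ * π) *ᵥ y) ≠ 0 := by
    by_contra hcon
    push Not at hcon
    exact hπ (hθ.mul_left_cancel ((Matrix.ext_iff_mulVec.2 fun y => by
      rw [zero_mulVec]; exact 𝕘.nd fun x => hcon x y).trans (mul_zero θ).symm))
  have h1 := congrArg (𝕘.ct i x y) hge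
  rw [ct_sl_mul 𝕘 hα, ct_sl] at h1
  set r := (𝕘.β x ((θ * π) *ᵥ y))⁻¹ * 𝕘.β x (π *ᵥ y) with hr
  have hαr : α = r • (1 : Mat F k t) := by
    rw [hr, mul_smul, ← h1, smul_smul, inv_mul_cancel₀ hxy, one_smul]
  refine ⟨r * ν, ?_⟩
  rw [hgθ, hαr, mul_smul_comm, mul_one, smul_mul_assoc, sl_mul, mul_tau, hν, tau_smul_left, sl_smul, smul_smul]

end Gram

end Cfsg.Agent.H24.Wreath
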