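import Cfsg.Agent.H24.Wreath.Merge

/-!
From one pure root to the pure transvections.
-/

set_option autoImplicit false

namespace Cfsg.Agent.H24.Wreath

open Matrix Finset
open Cfsg.Agent.Aschbacher (pureMat pureVec slotMat factorPerm)

variable {F : Type*} [Field F] {k t : ℕ}

theorem pureMat_transpose (X : Fin t → Matrix (Fin k) (Fin k) F) :
    (pureMat X : Mat F k t)ᵀ = pureMat fun j => (X j)ᵀ := by
  ext a c
  simp [pureMat]

theorem exists_perm_image {T T' : Finset (Fin t)} (h : T.card = T'.card) :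
    ∃ π : Equiv.Perm (Fin t), ∀ j, π.symm j ∈ T ↔ j ∈ T' := by
  classical
  let e : {x // x ∈ T} ≃ {x // x ∈ T'} := Finset.equivOfCardEq h
  refine ⟨e.extendSubtype, fun j => ⟨fun hj => ?_, fun hj => ?_⟩⟩
  · have := e.extendSubtype_mem _ hj
    rwa [Equiv.apply_symm_apply] at this
  · by_contra hn
    have := e.extendSubtype_not_mem _ hn
    rw [Equiv.apply_symm_apply] at this
    exact this hj

namespace Gram

variable (𝕘 : Gram F k)

theorem root_transpose (a : Fin k → F) : (𝕘.root a)ᵀ * 𝕘.G = (-1 : F) • (𝕘.G * 𝕘.root a) := by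
  rw [neg_one_smul, transpose_tau]

theorem sb_transpose (b c : Fin k → F) : (𝕘.sb b c)ᵀ * 𝕘.G = (1 : F) • (𝕘.G * 𝕘.sb b c) := by
  rw [one_smul, sb, transpose_sub, sub_mul, transpose_tau, transpose_tau, mul_sub]
  abel

/-- The pieces of a state. -/
def pc (T S : Finset (Fin t)) (a b c : Fin t → Fin k → F) (j : Fin t) : Matrix (Fin k) (Fin k) F :=
  if j ∈ T then 𝕘.root (a j) else if j ∈ S then 𝕘.sb (b j) (c j) else 1

/-- A state of the climb. -/
structure State (H : Subgroup (Mat F k t)ˣ) (T S : Finset (Fin t)) (a b c : Fin t → Fin k → F) : Prop where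
  disj : Disjoint T S
  ha : ∀ j ∈ T, a j ≠ 0
  hbc : ∀ j ∈ S, 𝕘.β (b j) (c j) = 0
  hne : ∀ j ∈ S, 𝕘.sb (b j) (c j) ≠ 0
  mem : Q (F := F) H (pureMat (𝕘.pc T S a b c) : Mat F k t)

/-- All pure roots on `T` are there. -/
def Full (H : Subgroup (Mat F k t)ˣ) (T : Finset (Fin t)) : Prop :=
  ∀ a : Fin t → Fin k → F, (∀ j ∈ T, a j ≠ 0) →
    Q (F := F) H (pureMat fun j => if j ∈ T then 𝕘.root (a j) else 1 : Mat F k t)

variable {𝕘} {H : Subgroup (Mat F k t)ˣ} {T S : Finset (Fin t)} {a b c : Fin t → Fin k → F}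

theorem sb_parts {b c : Fin k → F} (h : 𝕘.sb b c ≠ 0) :
    b ≠ 0 ∧ ∃ w, 𝕘.β w b = 0 ∧ 𝕘.β w c ≠ 0 := by
  have hb : b ≠ 0 := fun h0 => h (by rw [h0, sb, tau_zero_left, tau_zero_right, sub_zero])
  refine ⟨hb, ?_⟩
  by_contra hc
  push Not at hc
  obtain ⟨z, hz⟩ := 𝕘.exists_one hb
  refine h (Matrix.ext_iff_mulVec.2 fun x => ?_)
  have key : ∀ w, 𝕘.β w c = 𝕘.β w b * (-𝕘.β z c) := fun w => by
    have h1 := hc (w + 𝕘.β w b • z) (by rw [β_add_left, β_smul_left, 𝕘.β_skew b z, hz]; ring)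
    rw [β_add_left, β_smul_left] at h1
    linear_combination h1
  have hc' : c = (-𝕘.β z c) • b := sub_eq_zero.1 (𝕘.nd fun w => by rw [β_sub_right, β_smul_right, key]; ring)
  rw [hc', zero_mulVec, sb, tau_smul_left, tau_smul_right, sub_self, zero_mulVec]

theorem st_ne_zero {w x : Fin k → F} (h : 𝕘.β w x ≠ 0) : 𝕘.st w x ≠ 0 := fun h0 => h (by
  have := congrArg (𝕘.β w) h0
  rwa [st, β_add_right, β_smul_right, β_self, mul_zero, add_zero, β_zero_right] at this)

theorem mu_root {w e : Fin k → F} :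
    𝕘.root w * (𝕘.root (𝕘.st w e) * 𝕘.root e) * 𝕘.root w =
      (-(𝕘.β w e * 𝕘.β w e) * (𝕘.β w e * 𝕘.β w e)) • 𝕘.root w ∧
    𝕘.root w * (𝕘.root e * 𝕘.root (𝕘.st w e)) * 𝕘.root w =
      ((𝕘.β w e * 𝕘.β w e) * (𝕘.β w e * 𝕘.β w e)) • 𝕘.root w := by
  have h1 : 𝕘.β (𝕘.st w e) e = 𝕘.β w e * 𝕘.β w e := by
    rw [st, β_add_left, β_self, zero_add, β_smul_left]
  have h2 : 𝕘.β w (𝕘.st w e) = 𝕘.β w e := by
    rw [st, β_add_right, β_smul_right, β_self, mul_zero, add_zero]
  simp only [root, tau_mul_tau, smul_mul_assoc, mul_smul_comm, smul_smul, h1, h2,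
    show 𝕘.β e w = -𝕘.β w e from 𝕘.β_skew w e, show 𝕘.β e (𝕘.st w e) = -(𝕘.β w e * 𝕘.β w e) by rw [β_skew, h1],
    show 𝕘.β (𝕘.st w e) w = -𝕘.β w e by rw [β_skew, h2]]
  constructor <;> (congr 1; ring)

theorem mu_sb {w b c : Fin k → F} (hbc : 𝕘.β b c = 0) (hw : 𝕘.β w b = 0) :
    𝕘.sb b (𝕘.st w c) * 𝕘.sb b c = (-(𝕘.β w c * 𝕘.β w c)) • 𝕘.root b ∧
      𝕘.sb b c * 𝕘.sb b (𝕘.st w c) = (𝕘.β w c * 𝕘.β w c) • 𝕘.root b ∧
      𝕘.root b * 𝕘.sb b (𝕘.st w c) = 0 ∧ 𝕘.root b * 𝕘.sb b c = 0 := by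
  have hcb : 𝕘.β c b = 0 := by rw [β_skew, hbc, neg_zero]
  have h1 : 𝕘.β (𝕘.st w c) c = 𝕘.β w c * 𝕘.β w c := by rw [st, β_add_left, β_self, zero_add, β_smul_left]
  have h2 : 𝕘.β b (𝕘.st w c) = 0 := by
    rw [st, β_add_right, β_smul_right, hbc, 𝕘.β_skew w b, hw, neg_zero, mul_zero, add_zero]
  have h3 : 𝕘.β (𝕘.st w c) b = 0 := by rw [β_skew, h2, neg_zero]
  have h4 : 𝕘.β c (𝕘.st w c) = -(𝕘.β w c * 𝕘.β w c) := by rw [β_skew, h1]
  simp only [sb, root, mul_sub, sub_mul, tau_mul_tau, β_self, hbc, hcb, h1, h2, h3, h4, zero_smul, sub_zero,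
    zero_sub, neg_smul, neg_neg, and_self]

theorem State.odd_card [NeZero k] (hH : 𝕘.Over H) (hs : 𝕘.State H T S a b c) : Odd T.card := by
  classical
  have h1 := Q_isSkew hH hs.mem
  let ε : Fin t → F := fun j => if j ∈ T then -1 else 1
  have hε : ∀ j, (𝕘.pc T S a b c j)ᵀ * 𝕘.G = ε j • (𝕘.G * 𝕘.pc T S a b c j) := fun j => by
    simp only [pc, ε]
    split_ifs
    · exact 𝕘.root_transpose _
    · exact 𝕘.sb_transpose _ _
    · rw [transpose_one, one_mul, mul_one, one_smul]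
  have hp : ∏ j, ε j = (-1 : F) ^ T.card := by
    simp only [ε, Finset.prod_ite_mem, univ_inter, prod_const]
  unfold IsSkew at h1
  rw [pureMat_transpose, big, Aschbacher.pureMat_mul, funext hε, pureMat_smul, hp, Aschbacher.pureMat_mul] at h1
  by_contra hodd
  rw [Nat.not_odd_iff_even] at hodd
  rw [hodd.neg_one_pow, one_smul, eq_neg_iff_add_eq_zero, ← two_smul F] at h1
  have h2 := (smul_eq_zero.1 h1).resolve_left 𝕘.two
  rw [← Aschbacher.pureMat_mul] at h2
  have h3 : (pureMat (𝕘.pc T S a b c) : Mat F k t) = 0 :=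
    (Aschbacher.isUnit_pureMat (A := fun _ => 𝕘.G) fun _ => 𝕘.unit).mul_left_cancel (h2.trans (mul_zero _).symm)
  refine Aschbacher.pureMat_ne_zero (fun j => ?_) h3
  simp only [pc]
  split_ifs with h4 h5
  · exact 𝕘.tau_ne_zero (hs.ha j h4) (hs.ha j h4)
  · exact hs.hne j h5
  · exact one_ne_zero

variable [NeZero k] (hH : 𝕘.Over H)
include hH

omit [NeZero k] in
theorem Over.full_of_one (h : Q (F := F) H (pureMat fun j => if j ∈ T then 𝕘.root (a j) else 1 : Mat F k t))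
    (ha : ∀ j ∈ T, a j ≠ 0) : 𝕘.Full H T := by
  classical
  intro a' ha'
  suffices ∀ s : Finset (Fin t), Q (F := F) H
      (pureMat fun j => if j ∈ T then 𝕘.root (if j ∈ s then a' j else a j) else 1 : Mat F k t) by
    simpa using this univ
  intro s
  induction s using Finset.induction with
  | empty => simpa using h
  | insert i s hi ih =>
    by_cases hiT : i ∈ T
    · obtain ⟨g, hg, hv⟩ := (hH.moves i (ha i hiT) (ha' i hiT)).conj_mul
        (M := pureMat (Function.update (fun j => if j ∈ T then 𝕘.root (if j ∈ s then a' j else a j) else 1) i 1))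
        (off_pureMat (Function.update_self i _ _))
      have h1 := ih.map hg
      rw [pureMat_eq_sl_mul _ i] at h1
      simp only [if_pos hiT, if_neg hi] at h1
      rw [hv] at h1
      rw [pureMat_eq_sl_mul _ i]
      simp only [if_pos hiT, Finset.mem_insert_self, if_true]
      convert h1 using 3
      funext j
      rcases eq_or_ne j i with rfl | hj
      · simp
      · simp [hj]
    · convert ih using 3 with j
      split_ifs with h1 h2 h3 h4 <;> first | rfl | grind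

variable (hp : ∀ π : Equiv.Perm (Fin t), ∃ g ∈ H, (g : Mat F k t) = factorPerm π) (ht : Odd t)
include hp

omit [NeZero k] hH in
theorem Over.full_image (h : 𝕘.Full H T) {T' : Finset (Fin t)} (hc : T.card = T'.card) : 𝕘.Full H T' := by
  classical
  obtain ⟨π, hπ⟩ := exists_perm_image hc
  intro a' ha'
  have h1 := Over.Q_perm hp (h (fun j => a' (π j)) fun j hj => ha' _ ((hπ _).1 (by rwa [Equiv.symm_apply_apply]))) π
  convert h1 using 3 with j
  simp only [hπ j, Equiv.apply_symm_apply]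

omit hp

/-- An even number of rank two pieces become roots. -/
theorem Over.absorb (hs : 𝕘.State H T S a b c) (hS : Even S.card) (hS0 : S.Nonempty) : 𝕘.Full H (T ∪ S) := by
  classical
  have hT := hs.odd_card hH
  have hexT : ∀ j, ∃ w, j ∈ T → 𝕘.β w (a j) ≠ 0 := fun j => by
    by_cases hj : j ∈ T
    · obtain ⟨w, hw⟩ := 𝕘.exists_one (hs.ha j hj)
      exact ⟨w, fun _ => by rw [β_skew, hw]; exact neg_ne_zero.2 one_ne_zero⟩
    · exact ⟨0, fun h => absurd h hj⟩
  have hexS : ∀ j, ∃ w, j ∈ S → 𝕘.β w (b j) = 0 ∧ 𝕘.β w (c j) ≠ 0 := fun j => by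
    by_cases hj : j ∈ S
    · obtain ⟨-, w, hw⟩ := sb_parts (hs.hne j hj)
      exact ⟨w, fun _ => hw⟩
    · exact ⟨0, fun h => absurd h hj⟩
  choose u hu using hexT
  choose v hv using hexS
  let w : Fin t → Fin k → F := fun j => if j ∈ T then u j else if j ∈ S then v j else 0
  let p : Fin t → F := fun j =>
    if j ∈ T then -(𝕘.β (u j) (a j) * 𝕘.β (u j) (a j)) * (𝕘.β (u j) (a j) * 𝕘.β (u j) (a j))
    else if j ∈ S then -(𝕘.β (v j) (c j) * 𝕘.β (v j) (c j)) else 1
  let q : Fin t → F := fun j =>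
    if j ∈ T then (𝕘.β (u j) (a j) * 𝕘.β (u j) (a j)) * (𝕘.β (u j) (a j) * 𝕘.β (u j) (a j))
    else if j ∈ S then 𝕘.β (v j) (c j) * 𝕘.β (v j) (c j) else 1
  let y : Fin t → Fin k → F := fun j => if j ∈ T then u j else b j
  have hy : ∀ j ∈ T ∪ S, y j ≠ 0 := fun j hj => by
    simp only [y]
    split_ifs with h
    · exact fun h0 => hu j h (by rw [h0, β_zero_left])
    · exact (sb_parts (hs.hne j ((Finset.mem_union.1 hj).resolve_left h))).1
  refine hH.full_of_one (a := y) ?_ hy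
  have hX' := hH.Q_steps hs.mem w
  have hnT : ∀ j ∈ S, j ∉ T := fun j hj h => Finset.disjoint_left.1 hs.disj h hj
  have eS : ∀ j ∈ S, (1 + 𝕘.root (w j)) * 𝕘.pc T S a b c j * (1 - 𝕘.root (w j)) =
      𝕘.sb (b j) (𝕘.st (v j) (c j)) := fun j hj => by
    simp only [pc, w, if_neg (hnT j hj), if_pos hj, conj_sb]
    rw [show 𝕘.st (v j) (b j) = b j by rw [st, (hv j hj).1, zero_smul, add_zero]]
  obtain ⟨f, hf⟩ := hS0
  refine hH.merge hs.mem hX' T u p q (fun j hj => ?_) (fun j hj => ?_) ⟨f, ?_⟩ ⟨f, ?_⟩ (f := f) (hnT f hf) ?_ ?_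
  · simp only [pc, w, p, q, y, if_pos hj, if_pos (mem_union_left S hj), conj_tau]
    exact mu_root
  · by_cases hjS : j ∈ S
    · rw [eS j hjS]
      simp only [pc, p, q, y, if_neg hj, if_pos hjS, if_pos (mem_union_right T hjS)]
      exact ⟨(mu_sb (hs.hbc j hjS) (hv j hjS).1).1, (mu_sb (hs.hbc j hjS) (hv j hjS).1).2.1⟩
    · simp [pc, w, p, q, hj, hjS, tau_zero_left, Gram.root]
  · rw [eS f hf]
    simp only [pc, if_neg (hnT f hf), if_pos hf]
    rw [(mu_sb (hs.hbc f hf) (hv f hf).1).1, smul_mul_assoc, (mu_sb (hs.hbc f hf) (hv f hf).1).2.2.1, smul_zero]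
  · rw [eS f hf]
    simp only [pc, if_neg (hnT f hf), if_pos hf]
    rw [(mu_sb (hs.hbc f hf) (hv f hf).1).2.1, smul_mul_assoc, (mu_sb (hs.hbc f hf) (hv f hf).1).2.2.2, smul_zero]
  · simp only [if_pos (mem_union_right T hf)]
    exact 𝕘.root_mul_root_self _
  · have e : ∀ j, p j = (if j ∈ T ∪ S then -1 else 1) * q j := fun j => by
      simp only [p, q, Finset.mem_union]
      split_ifs <;> first | ring1 | (exfalso; tauto)
    have hq : ∏ j, q j ≠ 0 := Finset.prod_ne_zero_iff.2 fun j _ => by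
      simp only [q]
      split_ifs with h1 h2
      · exact mul_ne_zero (mul_ne_zero (hu j h1) (hu j h1)) (mul_ne_zero (hu j h1) (hu j h1))
      · exact mul_ne_zero (hv j h2).2 (hv j h2).2
      · exact one_ne_zero
    rw [Finset.prod_congr rfl fun j _ => e j, Finset.prod_mul_distrib, Finset.prod_ite_mem, univ_inter, prod_const,
      Finset.card_union_of_disjoint hs.disj, (hT.add_even hS).neg_one_pow, neg_one_mul]
    intro h0
    exact hq ((mul_eq_zero.1 (show (2 : F) * ∏ j, q j = 0 by linear_combination -h0)).resolve_left 𝕘.two)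

include hp ht

/-- An odd number of rank two pieces. -/
theorem Over.absorb_odd (hs : 𝕘.State H T S a b c) (hS : Odd S.card) : ∃ T', 𝕘.Full H T' ∧ 2 ≤ T'.card := by
  classical
  have hT := hs.odd_card hH
  obtain ⟨l, hl⟩ := Finset.card_pos.1 hS.pos
  obtain ⟨f, hf⟩ : ∃ f, f ∉ T ∪ S := by
    by_contra hc
    push Not at hc
    have h1 : (T ∪ S).card = t := by rw [Finset.eq_univ_iff_forall.2 hc, card_univ, Fintype.card_fin]
    rw [Finset.card_union_of_disjoint hs.disj] at h1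
    exact Nat.not_even_iff_odd.2 ht (h1 ▸ hT.add_odd hS)
  rw [Finset.mem_union, not_or] at hf
  have hnT : ∀ j ∈ S, j ∉ T := fun j hj h => Finset.disjoint_left.1 hs.disj h hj
  have hlf : f ≠ l := fun h => hf.2 (h ▸ hl)
  have hexT : ∀ j, ∃ w, j ∈ T → 𝕘.β w (a j) ≠ 0 := fun j => by
    by_cases hj : j ∈ T
    · obtain ⟨w, hw⟩ := 𝕘.exists_one (hs.ha j hj)
      exact ⟨w, fun _ => by rw [β_skew, hw]; exact neg_ne_zero.2 one_ne_zero⟩
    · exact ⟨0, fun h => absurd h hj⟩
  have hexS : ∀ j, ∃ w, j ∈ S → 𝕘.β w (b j) = 0 ∧ 𝕘.β w (c j) ≠ 0 := fun j => by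
    by_cases hj : j ∈ S
    · obtain ⟨-, w, hw⟩ := sb_parts (hs.hne j hj)
      exact ⟨w, fun _ => hw⟩
    · exact ⟨0, fun h => absurd h hj⟩
  choose u hu using hexT
  choose v hv using hexS
  let S₀ := S.erase l
  let w : Fin t → Fin k → F := fun j => if j ∈ T then u j else if j ∈ S₀ then v j else 0
  let p : Fin t → F := fun j =>
    if j ∈ T then -(𝕘.β (u j) (a j) * 𝕘.β (u j) (a j)) * (𝕘.β (u j) (a j) * 𝕘.β (u j) (a j))
    else if j ∈ S₀ then -(𝕘.β (v j) (c j) * 𝕘.β (v j) (c j)) else 1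
  let q : Fin t → F := fun j =>
    if j ∈ T then (𝕘.β (u j) (a j) * 𝕘.β (u j) (a j)) * (𝕘.β (u j) (a j) * 𝕘.β (u j) (a j))
    else if j ∈ S₀ then 𝕘.β (v j) (c j) * 𝕘.β (v j) (c j) else 1
  let y : Fin t → Fin k → F := fun j => if j ∈ T then u j else b j
  have hX' := hH.Q_steps (Over.Q_perm hp hs.mem (Equiv.swap l f)) w
  simp only [Equiv.symm_swap] at hX'
  have hwl : w l = 0 := by simp [w, S₀, hnT l hl]
  have hwf : w f = 0 := by simp [w, S₀, hf.1, hf.2]
  have hs' : 𝕘.State H (T ∪ S₀) {l, f} y (fun _ => b l) (fun _ => c l) := by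
    refine ⟨?_, fun j hj => ?_, fun j _ => hs.hbc l hl, fun j _ => hs.hne l hl, ?_⟩
    · rw [Finset.disjoint_left]
      intro j hj hj'
      rcases Finset.mem_insert.1 hj' with rfl | hj'
      · simp [S₀, hnT j hl] at hj
      · rw [Finset.mem_singleton] at hj'
        subst hj'
        simp [S₀, hf.1, hf.2] at hj
    · simp only [y]
      split_ifs with h
      · exact fun h0 => hu j h (by rw [h0, β_zero_left])
      · exact (sb_parts (hs.hne j (mem_of_mem_erase ((Finset.mem_union.1 hj).resolve_left h)))).1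
    have eS : ∀ j ∈ S₀, (1 + 𝕘.root (w j)) * 𝕘.pc T S a b c (Equiv.swap l f j) * (1 - 𝕘.root (w j)) =
        𝕘.sb (b j) (𝕘.st (v j) (c j)) := fun j hj => by
      have hjS := mem_of_mem_erase hj
      rw [Equiv.swap_apply_of_ne_of_ne (ne_of_mem_erase hj) fun h => hf.2 (by rwa [h] at hjS)]
      simp only [pc, w, if_neg (hnT j hjS), if_pos hjS, if_pos hj, conj_sb]
      rw [show 𝕘.st (v j) (b j) = b j by rw [st, (hv j hjS).1, zero_smul, add_zero]]
    refine hH.merge hs.mem hX' T u p q (fun j hj => ?_) (fun j hj => ?_) ⟨f, ?_⟩ ⟨l, ?_⟩ (f := l) (hnT l hl) ?_ ?_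
    · rw [Equiv.swap_apply_of_ne_of_ne (fun h => hnT l hl (by rwa [h] at hj)) fun h => hf.1 (by rwa [h] at hj)]
      simp only [pc, w, p, q, y, if_pos hj, if_pos (mem_union_left S₀ hj), conj_tau]
      exact mu_root
    · by_cases hjS : j ∈ S₀
      · rw [eS j hjS]
        simp only [pc, p, q, y, if_neg hj, if_pos (mem_of_mem_erase hjS), if_pos hjS, if_pos (mem_union_right T hjS)]
        exact ⟨(mu_sb (hs.hbc j (mem_of_mem_erase hjS)) (hv j (mem_of_mem_erase hjS)).1).1,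
          (mu_sb (hs.hbc j (mem_of_mem_erase hjS)) (hv j (mem_of_mem_erase hjS)).1).2.1⟩
      · rcases eq_or_ne j l with rfl | hjl
        · simp [pc, p, q, hwl, hf, hj, hjS, hl, hlf, Gram.root, tau_zero_left]
        rcases eq_or_ne j f with rfl | hjf
        · simp [pc, p, q, hwf, hj, hjS, hl, hlf, hf.2, hnT l hl, Gram.root, tau_zero_left]
        have hjS' : j ∉ S := fun h => hjS (mem_erase.2 ⟨hjl, h⟩)
        simp [pc, w, p, q, hj, hjS, hjS', hjl, hjf, Equiv.swap_apply_of_ne_of_ne hjl hjf, Gram.root, tau_zero_left]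
    · simp [pc, hwf, hf.1, hf.2, hl, hnT l hl, Gram.root, tau_zero_left, 𝕘.sb_mul_self (hs.hbc l hl)]
    · simp [pc, hwl, hf.1, hf.2, hl, hnT l hl, Gram.root, tau_zero_left, 𝕘.sb_mul_self (hs.hbc l hl)]
    · simp [pc, S₀, hnT l hl, 𝕘.sb_mul_self (hs.hbc l hl)]
    · have e : ∀ j, p j = (if j ∈ T ∪ S₀ then -1 else 1) * q j := fun j => by
        simp only [p, q, Finset.mem_union]
        split_ifs <;> first | ring1 | (exfalso; tauto)
      have hq : ∏ j, q j ≠ 0 := Finset.prod_ne_zero_iff.2 fun j _ => by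
        simp only [q]
        split_ifs with h1 h2
        · exact mul_ne_zero (mul_ne_zero (hu j h1) (hu j h1)) (mul_ne_zero (hu j h1) (hu j h1))
        · exact mul_ne_zero (hv j (mem_of_mem_erase h2)).2 (hv j (mem_of_mem_erase h2)).2
        · exact one_ne_zero
      have hdS : Disjoint T S₀ := hs.disj.mono_right (erase_subset l S)
      have hev : Even S₀.card := by
        rw [Finset.card_erase_of_mem hl]
        exact Nat.Odd.sub_odd hS odd_one
      rw [Finset.prod_congr rfl fun j _ => e j, Finset.prod_mul_distrib, Finset.prod_ite_mem, univ_inter, prod_const,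
        Finset.card_union_of_disjoint hdS, (hT.add_even hev).neg_one_pow, neg_one_mul]
      intro h0
      exact hq ((mul_eq_zero.1 (show (2 : F) * ∏ j, q j = 0 by linear_combination -h0)).resolve_left 𝕘.two)
  refine ⟨_, hH.absorb hs' ?_ (by simp), ?_⟩
  · rw [Finset.card_pair hlf.symm]; exact even_two
  · rw [Finset.card_union_of_disjoint hs'.disj, Finset.card_pair hlf.symm]
    omega

/-- A longer pure root. -/
theorem Over.grow (h : 𝕘.Full H T) (h2 : 2 ≤ T.card) (hlt : T.card < t) :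
    ∃ T', 𝕘.Full H T' ∧ T.card < T'.card := by
  classical
  obtain ⟨e, he⟩ : ∃ e : Fin k → F, e ≠ 0 := ⟨Pi.single ⟨0, Nat.pos_of_ne_zero (NeZero.ne k)⟩ 1, by simp⟩
  obtain ⟨z, hz⟩ := 𝕘.exists_one he
  have hze : 𝕘.β z e = -1 := by rw [β_skew, hz]
  have hodd : Odd T.card := by
    have hs : 𝕘.State H T ∅ (fun _ => e) (fun _ => e) (fun _ => e) :=
      ⟨disjoint_empty_right T, fun _ _ => he, by simp, by simp, by
        convert h (fun _ => e) fun _ _ => he using 2
        funext j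
        simp [pc]⟩
    exact hs.odd_card hH
  set s := T.card with hs
  let m := if 2 * s ≤ t + 1 then 1 else 2 * s - t
  have hm : 1 ≤ m ∧ m < s ∧ 2 * s - m ≤ t ∧ Odd m := by
    simp only [m]
    split_ifs with hc
    · exact ⟨le_rfl, by omega, by omega, odd_one⟩
    · refine ⟨by omega, by omega, by omega, ?_⟩
      obtain ⟨x, hx⟩ := ht
      exact ⟨s - x - 1, by omega⟩
  obtain ⟨O, hO, hOc⟩ := Finset.exists_subset_card_eq (show m ≤ T.card by omega)
  obtain ⟨U, hU, hUc⟩ := Finset.exists_subset_card_eq (s := Tᶜ) (n := s - m)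
    (by rw [Finset.card_compl, Fintype.card_fin]; omega)
  have hUT : ∀ j ∈ U, j ∉ T := fun j hj => Finset.mem_compl.1 (hU hj)
  have hdOU : Disjoint O U := Finset.disjoint_left.2 fun j hj hj' => hUT j hj' (hO hj)
  have h' := Over.full_image hp h (T' := O ∪ U) (by rw [Finset.card_union_of_disjoint hdOU, hOc, hUc]; omega)
  obtain ⟨f, hfT, hfO⟩ : ∃ f, f ∈ T ∧ f ∉ O := Finset.exists_of_ssubset (Finset.ssubset_iff_subset_ne.2
    ⟨hO, fun h0 => by rw [h0] at hOc; omega⟩)
  obtain ⟨g, hg⟩ := Finset.card_pos.1 (show 0 < U.card by omega)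
  have hst : 𝕘.st z e ≠ 0 := st_ne_zero (by rw [hze]; exact neg_ne_zero.2 one_ne_zero)
  let x : Fin t → Fin k → F := fun j => if j ∈ O then 𝕘.st z e else e
  let y : Fin t → Fin k → F := fun j => if j ∈ O then z else e
  let p : Fin t → F := fun j => if j ∈ O then -1 else 1
  have hz0 : z ≠ 0 := fun h0 => by rw [h0, β_zero_right] at hz; exact zero_ne_one hz
  have hyj : ∀ j ∈ T ∪ U, y j ≠ 0 := fun j _ => by
    simp only [y]
    split_ifs
    exacts [hz0, he]
  refine ⟨T ∪ U, hH.full_of_one ?_ hyj, ?_⟩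
  · refine hH.merge (h (fun _ => e) fun _ _ => he)
      (h' x fun j _ => by simp only [x]; split_ifs; exacts [hst, he]) O (fun _ => z) p (fun _ => 1)
      (fun j hj => ?_) (fun j hj => ?_) ⟨g, ?_⟩ ⟨f, ?_⟩ (f := f) hfO ?_ ?_
    · have h1 := mu_root (𝕘 := 𝕘) (w := z) (e := e)
      rw [hze] at h1
      simpa [x, y, p, hj, hO hj] using h1
    · by_cases hjT : j ∈ T
      · have hjU : j ∉ U := fun h => hUT j h hjT
        simp [p, hj, hjT, hjU, y]
      · by_cases hjU : j ∈ U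
        · simp [x, p, hj, hjT, hjU, y]
        · simp [p, hj, hjT, hjU]
    · simp [x, hg, hUT g hg, fun h => Finset.disjoint_left.1 hdOU h hg, 𝕘.root_mul_root_self]
    · simp [hfT, hfO, show f ∉ U from fun h => hUT f h hfT, 𝕘.root_mul_root_self]
    · simp [hfT, 𝕘.root_mul_root_self]
    · simp only [p]
      rw [Finset.prod_ite_mem, univ_inter, prod_const, hOc, hm.2.2.2.neg_one_pow, Finset.prod_const_one]
      intro h0
      exact 𝕘.two (by linear_combination -h0)
  · rw [Finset.card_union_of_disjoint (Finset.disjoint_left.2 fun j hj hj' => hUT j hj' hj), hUc]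
    omega

/-- The end of the climb. -/
theorem Over.full_univ (h : 𝕘.Full H T) (h2 : 2 ≤ T.card) : 𝕘.Full H univ := by
  classical
  have key : ∀ n, ∀ T : Finset (Fin t), t - T.card = n → 2 ≤ T.card → 𝕘.Full H T → 𝕘.Full H univ := by
    intro n
    induction n using Nat.strong_induction_on with
    | _ n ih =>
      intro T hn h2 h
      rcases lt_or_ge T.card t with hlt | hge
      · obtain ⟨T', h', hlt'⟩ := hH.grow hp ht h h2 hlt
        have := Finset.card_le_univ T'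
        rw [Fintype.card_fin] at this
        exact ih _ (by omega) T' rfl (by omega) h'
      · rwa [Finset.eq_univ_of_card T (le_antisymm (Finset.card_le_univ T) (by rwa [Fintype.card_fin]))] at h
  exact key _ T rfl h2 h

/-- A root that is not in one slot gives all pure transvections. -/
theorem Over.climb (hno : ¬𝕘.NoRoot H) : 𝕘.Full H univ := by
  classical
  unfold NoRoot at hno
  push Not at hno
  obtain ⟨i, a, M, hM, hex, hne⟩ := hno
  have hQ := hH.Q_of_mem hM hex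
  have ha : a ≠ 0 := fun h => hne 0 (by rw [h, Gram.root, tau_zero_left, sl_zero, zero_mul, smul_zero])
  have hM0 : M ≠ 0 := fun h => hne 0 (by rw [h, mul_zero, zero_smul])
  obtain ⟨X, M', ⟨hoff, hQ'⟩, hM'0, hX, hM', hid⟩ := 𝕘.exists_pieces (univ.erase i)
    (fun Z => Off i Z ∧ Q (F := F) H (sl i (𝕘.root a) * Z)) (fun j hj b Z hZ => by
      have hji := ne_of_mem_erase hj
      have hP : Off i (sl j (𝕘.root b) : Mat F k t) := off_sl hji.symm _
      obtain ⟨h1, h2⟩ := hH.fam_ops hji b (𝕘.root_mul_root_self a) hZ.1 hZ.2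
      refine ⟨⟨?_, h1⟩, (hP.mul hZ.1).mul hP, h2⟩
      rw [sub_eq_add_neg]
      exact (hP.mul hZ.1).add (hZ.1.mul hP).neg) ⟨hM, hQ⟩ hM0
  have hXi : X i = 1 := (hX i).resolve_right fun h => notMem_erase i univ h.1
  have hR := off_pureMat (k := k) hXi
  have hXne : ∀ j, X j ≠ 0 := fun j => by
    rcases hX j with h | ⟨-, ⟨d, hd, h⟩ | ⟨b, c, -, h, h0⟩⟩
    · rw [h]; exact one_ne_zero
    · rw [h]; exact 𝕘.tau_ne_zero hd hd
    · exact h0
  obtain ⟨Y, rfl⟩ := eq_sl_of_off i fun j hj => hM' j (mem_erase.2 ⟨hj, mem_univ j⟩)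
  have hY : ∀ Z, Z * Y = Y * Z := fun Z => by
    by_contra hc
    refine mul_ne_zero_of_off (sub_ne_zero.2 hc) hR (Aschbacher.pureMat_ne_zero hXne) ?_
    have h1 := hoff Z
    rw [← mul_assoc, hR, mul_assoc, sl_mul, mul_assoc, sl_mul] at h1
    rw [hR, sl_sub, mul_sub, h1, sub_self]
  obtain ⟨c, hc⟩ : Y ∈ Set.range (Matrix.scalar (Fin k)) :=
    Matrix.mem_range_scalar_of_commute_single fun p q _ => hY _
  have hYc : (sl i Y : Mat F k t) = c • 1 := by
    rw [← hc, Matrix.scalar_apply, ← Matrix.smul_one_eq_diagonal, sl_smul, sl_one]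
  rw [hYc] at hM'0 hQ'
  have hc0 : c ≠ 0 := fun h => hM'0 (by rw [h, zero_smul])
  rw [mul_smul_comm, mul_one, mul_smul_comm] at hQ'
  have hQ2 : Q (F := F) H (sl i (𝕘.root a) * pureMat X) := by
    have := hQ'.smul c⁻¹
    rwa [smul_smul, inv_mul_cancel₀ hc0, one_smul] at this
  let T₀ := univ.filter fun j => j = i ∨ ∃ d, d ≠ 0 ∧ X j = 𝕘.root d
  let S₀ := univ.filter fun j => j ∉ T₀ ∧ X j ≠ 1
  have hexa : ∀ j, ∃ d, j ∈ T₀ → d ≠ 0 ∧ Function.update X i (𝕘.root a) j = 𝕘.root d := fun j => by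
    rcases eq_or_ne j i with rfl | hj
    · exact ⟨a, fun _ => ⟨ha, Function.update_self _ _ _⟩⟩
    by_cases hT : j ∈ T₀
    · obtain ⟨d, hd, h⟩ := ((mem_filter.1 hT).2).resolve_left hj
      exact ⟨d, fun _ => ⟨hd, by rw [Function.update_of_ne hj, h]⟩⟩
    · exact ⟨0, fun h => absurd h hT⟩
  have hexb : ∀ j, ∃ b c, j ∈ S₀ → 𝕘.β b c = 0 ∧ X j = 𝕘.sb b c ∧ X j ≠ 0 := fun j => by
    by_cases hS : j ∈ S₀
    · obtain ⟨hnT, hne1⟩ := (mem_filter.1 hS).2
      rcases hX j with h | ⟨-, ⟨d, hd, h⟩ | ⟨b, c, h⟩⟩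
      · exact absurd h hne1
      · exact absurd (mem_filter.2 ⟨mem_univ j, Or.inr ⟨d, hd, h⟩⟩) hnT
      · exact ⟨b, c, fun _ => h⟩
    · exact ⟨0, 0, fun h => absurd h hS⟩
  choose a' ha' using hexa
  choose b' c' hb' using hexb
  have hiT : i ∈ T₀ := mem_filter.2 ⟨mem_univ i, Or.inl rfl⟩
  have hsi : ∀ j ∈ S₀, j ≠ i := fun j hj h => (mem_filter.1 hj).2.1 (h ▸ hiT)
  have hs : 𝕘.State H T₀ S₀ a' b' c' := by
    refine ⟨Finset.disjoint_left.2 fun j hj hj' => (mem_filter.1 hj').2.1 hj, fun j hj => (ha' j hj).1,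
      fun j hj => (hb' j hj).1, fun j hj => (hb' j hj).2.1 ▸ (hb' j hj).2.2, ?_⟩
    convert hQ2 using 1
    rw [pureMat_eq_sl_mul (𝕘.pc T₀ S₀ a' b' c') i]
    have e : ∀ j, 𝕘.pc T₀ S₀ a' b' c' j = Function.update X i (𝕘.root a) j := fun j => by
      simp only [pc]
      split_ifs with h1 h2
      · exact (ha' j h1).2.symm
      · rw [Function.update_of_ne (hsi j h2)]; exact (hb' j h2).2.1.symm
      · have hj : j ≠ i := fun h => h1 (h ▸ hiT)
        rw [Function.update_of_ne hj]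
        by_contra hne'
        exact h2 (mem_filter.2 ⟨mem_univ j, h1, fun h => hne' h.symm⟩)
    rw [e, Function.update_self, funext e, Function.update_idem, ← hXi, Function.update_eq_self]
  have hbig : 2 ≤ T₀.card + S₀.card := by
    obtain ⟨j, hj⟩ : ∃ j, X j ≠ 1 := by
      by_contra hc'
      push Not at hc'
      have hall : ∀ j, Off j M := fun j => by
        rcases eq_or_ne j i with rfl | hj
        exacts [hM, hid hc' j (mem_erase.2 ⟨hj, mem_univ j⟩)]
      obtain ⟨r, hr⟩ := eq_smul_one_of_off hall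
      exact hne r (by rw [hr, mul_smul_comm, mul_one])
    have hji : j ≠ i := fun h => hj (h ▸ hXi)
    rw [← Finset.card_union_of_disjoint hs.disj]
    refine Finset.one_lt_card.2 ⟨i, mem_union_left _ hiT, j, ?_, hji.symm⟩
    by_cases hT : j ∈ T₀
    exacts [mem_union_left _ hT, mem_union_right _ (mem_filter.2 ⟨mem_univ j, hT, hj⟩)]
  rcases Nat.even_or_odd S₀.card with hev | hodd
  · rcases S₀.eq_empty_or_nonempty with h0 | h0
    · refine hH.full_univ hp ht (T := T₀) (hH.full_of_one ?_ hs.ha) (by rw [h0, card_empty, add_zero] at hbig; exact hbig)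
      convert hs.mem using 2
      funext j
      simp [pc, h0]
    · exact hH.full_univ hp ht (hH.absorb hs hev h0) (by rwa [Finset.card_union_of_disjoint hs.disj])
  · obtain ⟨T', h', h2⟩ := hH.absorb_odd hp ht hs hodd
    exact hH.full_univ hp ht h' h2

end Gram

end Cfsg.Agent.H24.Wreath
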