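import Cfsg.Agent.H24.Wreath.Basic

/-!
Contraction of a matrix of the tensor power in one slot, and the test for lying in the span of the slots.
-/

set_option autoImplicit false

namespace Cfsg.Agent.H24.Wreath

open Matrix Finset
open Cfsg.Agent.Aschbacher (pureMat pureVec slotMat)

variable {F : Type*} [Field F] {k t : ℕ}

/-- `M` commutes with the whole slot `i`. -/
def Off (i : Fin t) (M : Mat F k t) : Prop := ∀ X, sl i X * M = M * sl i X

/-- The shape of a matrix commuting with a slot. -/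
theorem Off.apply {i : Fin t} {M : Mat F k t} (h : Off i M) (a c : Fin t → Fin k) (p q r : Fin k) :
    M (Function.update a i r) (Function.update c i q) =
      if q = r then M (Function.update a i p) (Function.update c i p) else 0 := by
  classical
  have h1 := congrFun (congrFun (h (Matrix.single p r 1)) (Function.update a i p)) (Function.update c i q)
  rw [sl_mul_apply, mul_sl_apply] at h1
  simp only [Function.update_self, Function.update_idem, Matrix.single_apply, ite_mul, mul_ite, zero_mul, mul_zero,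
    one_mul, mul_one, true_and] at h1
  rw [Finset.sum_ite_eq, if_pos (mem_univ _)] at h1
  rw [h1]
  rcases eq_or_ne q r with rfl | hqr
  · simp
  · simp [hqr, Ne.symm hqr]

theorem Off.mul {i : Fin t} {M N : Mat F k t} (hM : Off i M) (hN : Off i N) : Off i (M * N) := fun X => by
  rw [← mul_assoc, hM, mul_assoc, hN, mul_assoc]

theorem Off.smul {i : Fin t} {M : Mat F k t} (hM : Off i M) (r : F) : Off i (r • M) := fun X => by
  rw [mul_smul_comm, smul_mul_assoc, hM]

theorem Off.add {i : Fin t} {M N : Mat F k t} (hM : Off i M) (hN : Off i N) : Off i (M + N) := fun X => by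
  rw [mul_add, add_mul, hM, hN]

theorem Off.neg {i : Fin t} {M : Mat F k t} (hM : Off i M) : Off i (-M) := fun X => by
  rw [mul_neg, neg_mul, hM]

theorem off_one (i : Fin t) : Off i (1 : Mat F k t) := fun X => by rw [mul_one, one_mul]

theorem off_sl {i j : Fin t} (h : i ≠ j) (Y : Matrix (Fin k) (Fin k) F) : Off i (sl j Y : Mat F k t) :=
  fun X => sl_comm h X Y

/-- Two matrices off the slot `i` agree when their products with a non-zero slot do. -/
theorem Off.cancel {i : Fin t} {A B : Mat F k t} (hA : Off i A) (hB : Off i B) {X : Matrix (Fin k) (Fin k) F}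
    (hX : X ≠ 0) (h : sl i X * A = sl i X * B) : A = B := by
  classical
  obtain ⟨p, r, hpr⟩ : ∃ p r, X p r ≠ 0 := by
    by_contra hc
    push Not at hc
    exact hX (Matrix.ext hc)
  ext a c
  have key : ∀ M : Mat F k t, Off i M → (sl i X * M) (Function.update a i p) (Function.update c i r) =
      X p r * M (Function.update a i r) (Function.update c i r) := fun M hM => by
    rw [sl_mul_apply, Finset.sum_eq_single r]
    · rw [Function.update_self, Function.update_idem]
    · intro s _ hs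
      rw [Function.update_idem, hM.apply a c r r s, if_neg (Ne.symm hs), mul_zero]
    · exact fun h => absurd (mem_univ r) h
  have h1 := congrFun (congrFun h (Function.update a i p)) (Function.update c i r)
  rw [key A hA, key B hB] at h1
  have h2 := mul_left_cancel₀ hpr h1
  have e1 := hA.apply a c r (c i) (a i)
  have e2 := hB.apply a c r (c i) (a i)
  rw [Function.update_eq_self, Function.update_eq_self] at e1 e2
  rw [e1, e2, h2]

namespace Gram

variable (𝕘 : Gram F k)

/-- The contraction of the slot `i` of `Z` against `x` and `y`. -/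
def ct (i : Fin t) (x y : Fin k → F) (Z : Mat F k t) : Mat F k t :=
  Matrix.of fun a c => if a i = c i then
    ∑ p, ∑ q, x p * ((sl i 𝕘.G * Z) (Function.update a i p) (Function.update c i q) * y q) else 0

theorem ct_apply (i : Fin t) (x y : Fin k → F) (Z : Mat F k t) (a c : Fin t → Fin k) :
    𝕘.ct i x y Z a c = if a i = c i then
      ∑ p, ∑ q, x p * ((sl i 𝕘.G * Z) (Function.update a i p) (Function.update c i q) * y q) else 0 := rfl

theorem ct_off (i : Fin t) (x y : Fin k → F) (Z : Mat F k t) : Off i (𝕘.ct i x y Z) := fun X => by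
  classical
  ext a c
  rw [sl_mul_apply, mul_sl_apply, Finset.sum_eq_single (c i), Finset.sum_eq_single (a i)]
  · rw [ct_apply, ct_apply, if_pos (by rw [Function.update_self]), if_pos (by rw [Function.update_self])]
    simp only [Function.update_idem]
    ring
  · intro q _ hq
    rw [ct_apply, if_neg (by rw [Function.update_self]; exact Ne.symm hq), zero_mul]
  · exact fun h => absurd (mem_univ _) h
  · intro p _ hp
    rw [ct_apply, if_neg (by rw [Function.update_self]; exact hp), mul_zero]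
  · exact fun h => absurd (mem_univ _) h

/-- Sandwiching by rank one maps in one slot. -/
theorem tau_sandwich (i : Fin t) (x w z y : Fin k → F) (Z : Mat F k t) :
    sl i (𝕘.tau x w) * Z * sl i (𝕘.tau z y) = sl i (𝕘.tau x y) * 𝕘.ct i w z Z := by
  classical
  ext a c
  have hR : (sl i (𝕘.tau x y) * 𝕘.ct i w z Z) a c =
      𝕘.tau x y (a i) (c i) * 𝕘.ct i w z Z (Function.update a i (c i)) c := by
    rw [sl_mul_apply, Finset.sum_eq_single (c i)]
    · intro p _ hp
      rw [ct_apply, if_neg (by rw [Function.update_self]; exact hp), mul_zero]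
    · exact fun h => absurd (mem_univ _) h
  rw [hR, mul_sl_apply, ct_apply, if_pos (by rw [Function.update_self])]
  simp only [sl_mul_apply, Function.update_idem, Function.update_self, Gram.tau, vecMulVec_apply]
  rw [Finset.mul_sum]
  conv_rhs => enter [2, p]; rw [Finset.mul_sum]
  rw [Finset.sum_comm (γ := Fin k) (t := univ) (f := fun p q => x (a i) * (y ᵥ* 𝕘.G) (c i) *
    (w p * ((∑ r, 𝕘.G p r * Z (Function.update a i r) (Function.update c i q)) * z q)))]
  refine Finset.sum_congr rfl fun q _ => ?_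
  have hw : ∀ r, (w ᵥ* 𝕘.G) r = ∑ p, w p * 𝕘.G p r := fun r => rfl
  simp only [hw, Finset.mul_sum, Finset.sum_mul]
  rw [Finset.sum_comm]
  exact Finset.sum_congr rfl fun p _ => Finset.sum_congr rfl fun r _ => by ring

theorem ct_add_left (i : Fin t) (x x' y : Fin k → F) (Z : Mat F k t) :
    𝕘.ct i (x + x') y Z = 𝕘.ct i x y Z + 𝕘.ct i x' y Z := by
  ext a c
  simp only [Matrix.add_apply, ct_apply, Pi.add_apply]
  split_ifs
  · simp only [add_mul, Finset.sum_add_distrib]
  · rw [add_zero]

theorem ct_add_right (i : Fin t) (x y y' : Fin k → F) (Z : Mat F k t) :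
    𝕘.ct i x (y + y') Z = 𝕘.ct i x y Z + 𝕘.ct i x y' Z := by
  ext a c
  simp only [Matrix.add_apply, ct_apply, Pi.add_apply]
  split_ifs
  · simp only [mul_add, Finset.sum_add_distrib]
  · rw [add_zero]

theorem ct_smul_left (i : Fin t) (r : F) (x y : Fin k → F) (Z : Mat F k t) :
    𝕘.ct i (r • x) y Z = r • 𝕘.ct i x y Z := by
  ext a c
  simp only [Matrix.smul_apply, ct_apply, Pi.smul_apply, smul_eq_mul]
  split_ifs
  · simp only [Finset.mul_sum, mul_assoc]
  · rw [mul_zero]

theorem ct_smul_right (i : Fin t) (r : F) (x y : Fin k → F) (Z : Mat F k t) :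
    𝕘.ct i x (r • y) Z = r • 𝕘.ct i x y Z := by
  ext a c
  simp only [Matrix.smul_apply, ct_apply, Pi.smul_apply, smul_eq_mul]
  split_ifs
  · simp only [Finset.mul_sum]
    exact Finset.sum_congr rfl fun p _ => Finset.sum_congr rfl fun q _ => by ring
  · rw [mul_zero]

theorem ct_add (i : Fin t) (x y : Fin k → F) (Z W : Mat F k t) :
    𝕘.ct i x y (Z + W) = 𝕘.ct i x y Z + 𝕘.ct i x y W := by
  ext a c
  simp only [Matrix.add_apply, ct_apply, mul_add]
  split_ifs
  · simp only [add_mul, mul_add, Finset.sum_add_distrib]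
  · rw [add_zero]

theorem ct_smul (i : Fin t) (r : F) (x y : Fin k → F) (Z : Mat F k t) :
    𝕘.ct i x y (r • Z) = r • 𝕘.ct i x y Z := by
  ext a c
  simp only [Matrix.smul_apply, ct_apply, mul_smul_comm, smul_eq_mul]
  split_ifs
  · simp only [Finset.mul_sum]
    exact Finset.sum_congr rfl fun p _ => Finset.sum_congr rfl fun q _ => by ring
  · rw [mul_zero]

theorem ct_zero (i : Fin t) (x y : Fin k → F) : 𝕘.ct i x y (0 : Mat F k t) = 0 := by
  rw [← zero_smul F (0 : Mat F k t), ct_smul, zero_smul, zero_smul]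

theorem ct_zero_left (i : Fin t) (y : Fin k → F) (Z : Mat F k t) : 𝕘.ct i 0 y Z = 0 := by
  rw [← zero_smul F (0 : Fin k → F), ct_smul_left, zero_smul]

theorem ct_zero_right (i : Fin t) (x : Fin k → F) (Z : Mat F k t) : 𝕘.ct i x 0 Z = 0 := by
  rw [← zero_smul F (0 : Fin k → F), ct_smul_right, zero_smul]

theorem ct_neg (i : Fin t) (x y : Fin k → F) (Z : Mat F k t) : 𝕘.ct i x y (-Z) = -𝕘.ct i x y Z := by
  rw [← neg_one_smul F Z, ct_smul, neg_one_smul]

theorem ct_sub (i : Fin t) (x y : Fin k → F) (Z W : Mat F k t) :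
    𝕘.ct i x y (Z - W) = 𝕘.ct i x y Z - 𝕘.ct i x y W := by
  rw [sub_eq_add_neg, ct_add, ct_neg, sub_eq_add_neg]

theorem ct_sum {α : Type*} (s : Finset α) (i : Fin t) (x y : Fin k → F) (Z : α → Mat F k t) :
    𝕘.ct i x y (∑ l ∈ s, Z l) = ∑ l ∈ s, 𝕘.ct i x y (Z l) := by
  classical
  induction s using Finset.induction with
  | empty => rw [Finset.sum_empty, Finset.sum_empty, ct_zero]
  | insert l s hl ih => rw [Finset.sum_insert hl, Finset.sum_insert hl, ct_add, ih]

/-- A factor off the slot passes through a contraction. -/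
theorem ct_off_mul {i : Fin t} {M : Mat F k t} (hM : Off i M) (x y : Fin k → F) (Z : Mat F k t) :
    𝕘.ct i x y (M * Z) = M * 𝕘.ct i x y Z := by
  rcases eq_or_ne x 0 with rfl | hx
  · rw [ct_zero_left, ct_zero_left, mul_zero]
  refine (𝕘.ct_off i x y _).cancel (hM.mul (𝕘.ct_off i x y Z)) (𝕘.tau_ne_zero hx hx) ?_
  rw [← tau_sandwich, ← mul_assoc _ M, hM, mul_assoc M _ Z, mul_assoc M, ← mul_assoc _ M, hM, mul_assoc M,
    ← tau_sandwich]

theorem ct_mul_off {i : Fin t} {M : Mat F k t} (hM : Off i M) (x y : Fin k → F) (Z : Mat F k t) :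
    𝕘.ct i x y (Z * M) = 𝕘.ct i x y Z * M := by
  rcases eq_or_ne x 0 with rfl | hx
  · rw [ct_zero_left, ct_zero_left, zero_mul]
  refine (𝕘.ct_off i x y _).cancel ((𝕘.ct_off i x y Z).mul hM) (𝕘.tau_ne_zero hx hx) ?_
  rw [← tau_sandwich, ← mul_assoc _ (𝕘.ct i x y Z), ← tau_sandwich]
  simp only [mul_assoc]
  rw [← hM (𝕘.tau y x)]

/-- The contraction of a product of a slot and a factor off it. -/
theorem ct_sl_mul {i : Fin t} {M : Mat F k t} (hM : Off i M) (x y : Fin k → F) (X : Matrix (Fin k) (Fin k) F) :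
    𝕘.ct i x y (sl i X * M) = 𝕘.β x (X *ᵥ y) • M := by
  rcases eq_or_ne x 0 with rfl | hx
  · rw [ct_zero_left, β_zero_left, zero_smul]
  refine (𝕘.ct_off i x y _).cancel (hM.smul _) (𝕘.tau_ne_zero hx hx) ?_
  rw [← tau_sandwich, ← mul_assoc, sl_mul, mul_assoc, ← hM, ← mul_assoc, sl_mul, tau_mul_mul_tau, sl_smul,
    smul_mul_assoc, mul_smul_comm]

theorem ct_of_off {i : Fin t} {M : Mat F k t} (hM : Off i M) (x y : Fin k → F) :
    𝕘.ct i x y M = 𝕘.β x y • M := by
  have := 𝕘.ct_sl_mul hM x y 1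
  rwa [sl_one, one_mul, one_mulVec] at this

theorem ct_sl (i : Fin t) (x y : Fin k → F) (X : Matrix (Fin k) (Fin k) F) :
    𝕘.ct i x y (sl i X : Mat F k t) = 𝕘.β x (X *ᵥ y) • (1 : Mat F k t) := by
  have := 𝕘.ct_sl_mul (off_one i) x y X
  rwa [mul_one] at this

theorem ct_single (i : Fin t) (Z : Mat F k t) (p q z : Fin k) (a c : Fin t → Fin k) :
    𝕘.ct i (Pi.single p 1) (Pi.single q 1) Z (Function.update a i z) (Function.update c i z) =
      (sl i 𝕘.G * Z) (Function.update a i p) (Function.update c i q) := by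
  classical
  rw [ct_apply, if_pos (by rw [Function.update_self, Function.update_self]), Finset.sum_eq_single p,
    Finset.sum_eq_single q]
  · simp [Function.update_idem]
  · intro r _ hr; simp [hr]
  · exact fun h => absurd (mem_univ _) h
  · intro r _ hr; simp [hr]
  · exact fun h => absurd (mem_univ _) h

theorem ext_ct (i : Fin t) {Z W : Mat F k t} (h : ∀ x y, 𝕘.ct i x y Z = 𝕘.ct i x y W) : Z = W := by
  have h1 : sl i 𝕘.G * Z = sl i 𝕘.G * W := by
    ext a c
    have h2 := congrFun (congrFun (h (Pi.single (a i) 1) (Pi.single (c i) 1)) (Function.update a i (a i)))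
      (Function.update c i (a i))
    rw [ct_single, ct_single, Function.update_eq_self, Function.update_eq_self] at h2
    exact h2
  have hu : IsUnit (sl i 𝕘.G : Mat F k t) := by
    refine Aschbacher.isUnit_pureMat fun j => ?_
    rcases eq_or_ne j i with rfl | hj
    · rw [Function.update_self]; exact 𝕘.unit
    · rw [Function.update_of_ne hj]; exact isUnit_one
  exact hu.mul_left_cancel h1

/-- A matrix with alternating contractions vanishing on orthogonal pairs lies off the slot. -/
theorem off_of_alt (i : Fin t) {Z : Mat F k t} (h0 : ∀ b, 𝕘.ct i b b Z = 0)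
    (h1 : ∀ d b, 𝕘.β d b = 0 → 𝕘.ct i d b Z = 0) : Off i Z := by
  have hsk : ∀ x y, 𝕘.ct i y x Z = -𝕘.ct i x y Z := fun x y => by
    have h := h0 (x + y)
    rw [ct_add_left, ct_add_right, ct_add_right, h0, h0, zero_add, add_zero] at h
    exact eq_neg_of_add_eq_zero_right h
  have hdec : ∀ x y y', 𝕘.β x y' = 1 → 𝕘.ct i x y Z = 𝕘.β x y • 𝕘.ct i x y' Z := fun x y y' hy' => by
    have h := h1 x (y - 𝕘.β x y • y') (by rw [β_sub_right, β_smul_right, hy', mul_one, sub_self])
    rw [show y - 𝕘.β x y • y' = y + (-𝕘.β x y) • y' by rw [neg_smul, sub_eq_add_neg], ct_add_right, ct_smul_right,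
      neg_smul, ← sub_eq_add_neg, sub_eq_zero] at h
    exact h
  by_cases hk : ∀ x : Fin k → F, x = 0
  · have hZ : Z = 0 := 𝕘.ext_ct i fun x y => by rw [hk x, ct_zero_left, ct_zero_left]
    intro X
    rw [hZ, mul_zero, zero_mul]
  push Not at hk
  obtain ⟨e, he⟩ := hk
  obtain ⟨e', he'⟩ := 𝕘.exists_one he
  set M := 𝕘.ct i e e' Z with hM
  have hall : ∀ x y, 𝕘.ct i x y Z = 𝕘.β x y • M := fun x y => by
    rcases eq_or_ne x 0 with rfl | hx
    · rw [ct_zero_left, β_zero_left, zero_smul]
    obtain ⟨x', hx'⟩ := 𝕘.exists_one hx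
    rw [hdec x y x' hx']
    congr 1
    obtain ⟨w, hw1, hw2⟩ := 𝕘.exists_common hx he
    have hxw : 𝕘.ct i x w Z = 𝕘.β x w • 𝕘.ct i x x' Z := hdec x w x' hx'
    have hew : 𝕘.ct i e w Z = 𝕘.β e w • M := hdec e w e' he'
    have hwx : 𝕘.ct i w x Z = 𝕘.β w x • 𝕘.ct i w ((𝕘.β w e)⁻¹ • e) Z := hdec w x _ (by
      rw [β_smul_right, inv_mul_cancel₀]
      rw [β_skew]
      exact neg_ne_zero.2 hw2)
    rw [ct_smul_right, hsk x w, hxw, hsk e w, hew, 𝕘.β_skew x w, 𝕘.β_skew e w, ← neg_smul, ← neg_smul, smul_smul,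
      smul_smul] at hwx
    rw [show -𝕘.β x w * (-𝕘.β e w)⁻¹ * -𝕘.β e w = -𝕘.β x w by
      rw [mul_assoc, inv_mul_cancel₀ (neg_ne_zero.2 hw2), mul_one]] at hwx
    exact smul_right_injective _ (neg_ne_zero.2 hw1) hwx
  have hM' : Off i M := 𝕘.ct_off i e e' Z
  have hZ : Z = M := 𝕘.ext_ct i fun x y => by rw [hall, 𝕘.ct_of_off hM']
  rwa [hZ]

/-- The double bracket of an alternating matrix with two orthogonal roots is pure in the slot. -/
theorem bracket_bracket (i : Fin t) {Z : Mat F k t} (h0 : ∀ b, 𝕘.ct i b b Z = 0) {d b : Fin k → F}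
    (hdb : 𝕘.β d b = 0) :
    sl i (𝕘.root d) * (sl i (𝕘.root b) * Z - Z * sl i (𝕘.root b)) -
        (sl i (𝕘.root b) * Z - Z * sl i (𝕘.root b)) * sl i (𝕘.root d) =
      sl i (𝕘.tau b d - 𝕘.tau d b) * 𝕘.ct i d b Z := by
  have hbd : 𝕘.β b d = 0 := by rw [β_skew, hdb, neg_zero]
  have h : 𝕘.ct i b d Z = -𝕘.ct i d b Z := by
    have h := h0 (d + b)
    rw [ct_add_left, ct_add_right, ct_add_right, h0, h0, zero_add, add_zero] at h
    exact eq_neg_of_add_eq_zero_right h
  rw [mul_sub, sub_mul, ← mul_assoc, sl_mul, tau_mul_tau, hdb, zero_smul, sl_zero, zero_mul, zero_sub,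
    mul_assoc Z, sl_mul, tau_mul_tau, hbd, zero_smul, sl_zero, mul_zero, sub_zero, ← mul_assoc,
    tau_sandwich, tau_sandwich, h, sl_sub, sub_mul, mul_neg]
  abel

/-- A skew matrix all whose root contractions are scalar is a sum of skew slots. -/
theorem exists_slots {X : Mat F k t} (hX : 𝕘.IsSkew X)
    (h : ∀ i a, ∃ r : F, 𝕘.ct i a a X = r • (1 : Mat F k t)) :
    ∃ C : Fin t → Matrix (Fin k) (Fin k) F, (∀ i, (C i)ᵀ * 𝕘.G = -(𝕘.G * C i)) ∧ X = ∑ i, sl i (C i) := by
  classical
  rcases isEmpty_or_nonempty (Fin t → Fin k) with hemp | ⟨⟨a₀⟩⟩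
  · exact ⟨0, fun i => by simp, Matrix.ext fun a => (IsEmpty.false a).elim⟩
  let cq : Fin t → (Fin k → F) → (Fin k → F) → F := fun i x y =>
    (2 : F)⁻¹ * (𝕘.ct i x y X a₀ a₀ + 𝕘.ct i y x X a₀ a₀)
  have hcq : ∀ i x y, 𝕘.ct i x y X + 𝕘.ct i y x X = (2 * cq i x y) • (1 : Mat F k t) := fun i x y => by
    obtain ⟨r₁, h₁⟩ := h i x
    obtain ⟨r₂, h₂⟩ := h i y
    obtain ⟨r₃, h₃⟩ := h i (x + y)
    rw [ct_add_left, ct_add_right, ct_add_right, h₁, h₂] at h₃
    have h₄ : 𝕘.ct i x y X + 𝕘.ct i y x X = (r₃ - r₁ - r₂) • (1 : Mat F k t) := by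
      rw [sub_smul, sub_smul, ← h₃]; abel
    rw [h₄]
    congr 1
    show _ = 2 * ((2 : F)⁻¹ * _)
    rw [← mul_assoc, mul_inv_cancel₀ 𝕘.two, one_mul, ← Matrix.add_apply, h₄]
    simp
  obtain ⟨u, hu⟩ := 𝕘.unit
  let Cq : Fin t → Matrix (Fin k) (Fin k) F := fun i => Matrix.of fun p q => cq i (Pi.single p 1) (Pi.single q 1)
  let C : Fin t → Matrix (Fin k) (Fin k) F := fun i => (↑u⁻¹ : Matrix (Fin k) (Fin k) F) * Cq i
  have hGC : ∀ i, 𝕘.G * C i = Cq i := fun i => by rw [← mul_assoc, ← hu, u.mul_inv, one_mul]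
  have hsym : ∀ i, (Cq i)ᵀ = Cq i := fun i => by
    ext p q
    simp only [Cq, transpose_apply, Matrix.of_apply, cq]
    rw [add_comm]
  have hCskew : ∀ i, (C i)ᵀ * 𝕘.G = -(𝕘.G * C i) := fun i => by
    have h1 := hsym i
    rw [← hGC, transpose_mul, 𝕘.skew, mul_neg] at h1
    rw [← neg_neg ((C i)ᵀ * 𝕘.G), h1]
  refine ⟨C, hCskew, ?_⟩
  set X' := X - ∑ i, sl i (C i) with hX'
  have hskew' : 𝕘.IsSkew X' := by
    unfold IsSkew at hX ⊢
    rw [hX', transpose_sub, sub_mul, hX, transpose_sum, Finset.sum_mul,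
      Finset.sum_congr rfl fun i _ => (𝕘.isSkew_sl i (hCskew i) : _), Finset.sum_neg_distrib, mul_sub,
      Finset.mul_sum]
    abel
  have hanti : ∀ i p q, 𝕘.ct i (Pi.single p 1) (Pi.single q 1) X' +
      𝕘.ct i (Pi.single q 1) (Pi.single p 1) X' = 0 := fun i p q => by
    have hsum : ∀ x y : Fin k → F, 𝕘.ct i x y (∑ j, sl j (C j) : Mat F k t) =
        𝕘.β x (C i *ᵥ y) • (1 : Mat F k t) + 𝕘.β x y • ∑ j ∈ univ.erase i, sl j (C j) := fun x y => by
      rw [ct_sum, ← Finset.add_sum_erase _ _ (mem_univ i), ct_sl, Finset.smul_sum]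
      congr 1
      exact Finset.sum_congr rfl fun j hj => 𝕘.ct_of_off (off_sl (ne_of_mem_erase hj).symm _) x y
    have hβ : ∀ p q, 𝕘.β (Pi.single p 1) (C i *ᵥ Pi.single q 1) = Cq i p q := fun p q => by
      rw [β, mulVec_mulVec, hGC, mulVec_single_one, single_dotProduct, one_mul]
      rfl
    rw [hX', ct_sub, ct_sub, hsum, hsum, hβ, hβ, 𝕘.β_skew (Pi.single p 1) (Pi.single q 1), neg_smul]
    have h1 := hcq i (Pi.single p 1) (Pi.single q 1)
    have h2 : Cq i q p = Cq i p q := congrFun (congrFun (hsym i) p) q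
    rw [h2]
    calc _ = (𝕘.ct i (Pi.single p 1) (Pi.single q 1) X + 𝕘.ct i (Pi.single q 1) (Pi.single p 1) X) -
          (Cq i p q + Cq i p q) • (1 : Mat F k t) := by rw [add_smul]; abel
      _ = 0 := by rw [h1, ← two_mul, sub_eq_zero]; rfl
  set Y := 𝕘.big t * X' with hY
  have hswap : ∀ (i : Fin t) (a c : Fin t → Fin k),
      Y (Function.update a i (c i)) (Function.update c i (a i)) = -Y a c := by
    intro i a c
    set R : Mat F k t := pureMat (Function.update (fun _ => 𝕘.G) i 1) with hR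
    have hRoff : Off i R := fun Z => by
      rw [hR, sl, slotMat, Aschbacher.pureMat_mul, Aschbacher.pureMat_mul]
      congr 1
      funext j
      rcases eq_or_ne j i with rfl | hj
      · simp
      · simp [Function.update_of_ne hj]
    have hbig : Y = sl i 𝕘.G * (R * X') := by
      rw [hY, ← mul_assoc, hR, sl, slotMat, Aschbacher.pureMat_mul, big]
      congr 2
      funext j
      rcases eq_or_ne j i with rfl | hj
      · simp
      · simp [Function.update_of_ne hj]
    have h1 : 𝕘.ct i (Pi.single (a i) 1) (Pi.single (c i) 1) (R * X') +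
        𝕘.ct i (Pi.single (c i) 1) (Pi.single (a i) 1) (R * X') = 0 := by
      rw [ct_off_mul 𝕘 hRoff, ct_off_mul 𝕘 hRoff, ← mul_add, hanti, mul_zero]
    have h2 := congrFun (congrFun h1 (Function.update a i (a i))) (Function.update c i (a i))
    rw [Matrix.add_apply, Matrix.zero_apply, ct_single, ct_single, ← hbig, Function.update_eq_self,
      Function.update_eq_self] at h2
    exact eq_neg_of_add_eq_zero_right h2
  have hall : ∀ (s : Finset (Fin t)) (a c : Fin t → Fin k),
      Y (fun j => if j ∈ s then c j else a j) (fun j => if j ∈ s then a j else c j) = (-1 : F) ^ s.card * Y a c := by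
    intro s
    induction s using Finset.induction with
    | empty => intro a c; simp
    | insert i s hi ih =>
      intro a c
      rw [Finset.card_insert_of_notMem hi, pow_succ', mul_assoc, ← ih a c, neg_one_mul,
        ← hswap i (fun j => if j ∈ s then c j else a j) (fun j => if j ∈ s then a j else c j)]
      congr 1 <;> funext j <;> rcases eq_or_ne j i with rfl | hj <;> simp [hi, *]
  have hT : Yᵀ = -((-1 : F) ^ t • Y) := by
    unfold IsSkew at hskew'
    rw [hY, transpose_mul, 𝕘.big_transpose, mul_smul_comm, hskew', smul_neg]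
  have hY0 : Y = 0 := by
    ext a c
    have h1 := hall univ a c
    simp only [Finset.mem_univ, if_true, Finset.card_univ, Fintype.card_fin] at h1
    have h2 := congrFun (congrFun hT a) c
    rw [transpose_apply, Matrix.neg_apply, Matrix.smul_apply, smul_eq_mul, h1] at h2
    rw [Matrix.zero_apply]
    have hs : (-1 : F) ^ t * (-1 : F) ^ t = 1 := by rw [← mul_pow]; simp
    exact (mul_eq_zero.1 (show (2 : F) * Y a c = 0 by
      linear_combination ((-1 : F) ^ t) * h2 - (2 * Y a c) * hs)).resolve_left 𝕘.two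
  have hX0 : X' = 0 := (𝕘.isUnit_big (t := t)).mul_left_cancel (by rw [← hY, hY0, mul_zero])
  exact sub_eq_zero.1 hX0

end Gram

end Cfsg.Agent.H24.Wreath
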