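import Cfsg.Agent.H24.Wreath.PairThree

/-!
Conjugates of roots pass the test over the field with three elements.
-/

set_option autoImplicit false

namespace Cfsg.Agent.H24.Wreath

open Matrix
open Cfsg.Agent.Aschbacher (pureMat slotMat)

variable {F : Type*} [Field F] {k t : ℕ}

namespace Gram

variable {𝕘 : Gram F k} {H : Subgroup (Mat F k t)ˣ}

theorem Over.flat_three [Finite F] [NeZero k] (hk : 4 ≤ k) (h3 : Nat.card F = 3) (hH : 𝕘.Over H)
    (hno : 𝕘.NoRoot H) : 𝕘.Flat H := by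
  intro g hg i a j b
  rcases eq_or_ne b 0 with rfl | hb
  · exact ⟨0, by rw [ct_zero_left, zero_smul]⟩
  rcases eq_or_ne a 0 with rfl | ha
  · exact ⟨0, by rw [root, tau_zero_left, sl_zero, mul_zero, zero_mul, ct_zero, zero_smul]⟩
  have h30 := Pair3.three_zero h3
  set Y := (g : Mat F k t) * sl i (𝕘.root a) * ((g⁻¹ : (Mat F k t)ˣ) : Mat F k t) with hYdef
  have hY : Q (F := F) H Y := (hH.hroot i a).map hg
  let φ := Matrix.toLinAlgEquiv' (R := F) (n := Fin t → Fin k)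
  have hA := (hH.hroot j b).toLin
  have hB := hY.toLin
  have hthin : Pair.Thin (H.map (Units.map φ.toAlgHom.toRingHom.toMonoidHom))
      (φ (sl j (𝕘.root b) : Mat F k t)) := by
    rintro Z ⟨_, ⟨u, hu, rfl⟩, hv⟩
    obtain ⟨Z, rfl⟩ := φ.surjective Z
    change φ (u : Mat F k t) = _ at hv
    rw [← map_one φ, ← map_mul, ← map_mul, ← map_add, tau_sandwich] at hv
    obtain ⟨c, hc⟩ := hno j b _ (𝕘.ct_off j b b Z) ⟨u, hu, φ.injective hv⟩
    exact ⟨c, by rw [← map_mul, ← map_mul, tau_sandwich, hc, map_smul]⟩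
  obtain ⟨c, hc⟩ : ∃ c : F, φ (sl j (𝕘.root b)) * φ Y * φ (sl j (𝕘.root b)) = c • φ (sl j (𝕘.root b) : Mat F k t) := by
    by_cases hn : IsNilpotent (φ (sl j (𝕘.root b)) * φ Y + φ Y * φ (sl j (𝕘.root b) : Mat F k t))
    · exact ⟨0, by rw [zero_smul]; exact Pair.nilp 𝕘.two hA hB hthin hn⟩
    obtain ⟨c⟩ := H88.exists_coords hA.sq hB.sq hn
    exact Pair3.pair h3 hA hB hthin ((hH.cent hk h30 hno hb).map φ.toRingEquiv)
      (((hH.cent hk h30 hno ha).conj hg).map φ.toRingEquiv) ((hH.slim hk h30 hno hb).map φ) c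
  rw [← map_mul, ← map_mul, ← map_smul] at hc
  have h1 := φ.injective hc
  rw [tau_sandwich] at h1
  exact ⟨c, (𝕘.ct_off j b b Y).cancel ((off_one j).smul c) (𝕘.tau_ne_zero hb hb)
    (by rw [h1, mul_smul_comm, mul_one])⟩

end Gram

end Cfsg.Agent.H24.Wreath
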