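import Cfsg.Agent.H88.SL2Gen
import Cfsg.Agent.H24.Nilp
import Cfsg.Agent.Linear.Simple
import Cfsg.Agent.Linear.TwoSL

/-!
A subgroup of `SL₂` of a finite algebra with one generator, containing the two root groups and a normal subgroup
whose upper part is constant and which covers `SL₂` of every residue field, forces the generator to be constant.
-/

set_option autoImplicit false

namespace Cfsg.Agent.H24.Wreath.Rigid

open Matrix
open Cfsg.Agent.H88 (uu vv sl2_ext sl2_mul sl2_det sl2_inv uu_inv vv_inv uu_add)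

universe u

variable {R : Type u} [CommRing R]

local notation "SL2" => Matrix.SpecialLinearGroup (Fin 2) R

theorem of_comm_uu {g : SL2} {s : R} (hs : IsUnit s) (h : g * uu s = uu s * g) :
    g 1 0 = 0 ∧ g 0 0 = g 1 1 ∧ g 0 0 * g 0 0 = 1 := by
  have e1 := congrArg (fun m : SL2 => m 0 0) h
  have e2 := congrArg (fun m : SL2 => m 0 1) h
  simp only [sl2_mul] at e1 e2
  simp at e1 e2
  have hc : g 1 0 = 0 := hs.mul_right_eq_zero.1 (by linear_combination e1)
  have had : g 0 0 = g 1 1 := sub_eq_zero.1 (hs.mul_right_eq_zero.1 (by linear_combination e2))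
  refine ⟨hc, had, ?_⟩
  linear_combination sl2_det g + g 0 0 * had + g 0 1 * hc

theorem of_comm_vv {g : SL2} {s : R} (hs : IsUnit s) (h : g * vv s = vv s * g) :
    g 0 1 = 0 ∧ g 0 0 = g 1 1 ∧ g 0 0 * g 0 0 = 1 := by
  have e1 := congrArg (fun m : SL2 => m 0 0) h
  have e2 := congrArg (fun m : SL2 => m 1 0) h
  simp only [sl2_mul] at e1 e2
  simp at e1 e2
  have hb : g 0 1 = 0 := hs.mul_right_eq_zero.1 (by linear_combination e1)
  have had : g 0 0 = g 1 1 := sub_eq_zero.1 (hs.mul_right_eq_zero.1 (by linear_combination -e2))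
  refine ⟨hb, had, ?_⟩
  linear_combination sl2_det g + g 0 0 * had + g 1 0 * hb

theorem pow_diag {g : SL2} (h : g 1 0 = 0 ∨ g 0 1 = 0) (n : ℕ) :
    (g ^ n) 0 0 = g 0 0 ^ n ∧ (g 1 0 = 0 → (g ^ n) 1 0 = 0) ∧ (g 0 1 = 0 → (g ^ n) 0 1 = 0) := by
  induction n with
  | zero => simp
  | succ n ih =>
    obtain ⟨i0, i1, i2⟩ := ih
    rw [pow_succ]
    refine ⟨?_, fun hc => ?_, fun hb => ?_⟩
    · rw [sl2_mul, i0]
      rcases h with hc | hb
      · rw [hc, mul_zero, add_zero, pow_succ]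
      · rw [i2 hb, zero_mul, add_zero, pow_succ]
    · rw [sl2_mul, i1 hc, hc]; ring
    · rw [sl2_mul, i2 hb, hb]; ring

theorem diag_eq_one {g : SL2} (h : g 1 0 = 0 ∨ g 0 1 = 0) (ha : g 0 0 * g 0 0 = 1) {n : ℕ} (hn : Odd n)
    (hg : g ^ n = 1) : g 0 0 = 1 := by
  obtain ⟨m, rfl⟩ := hn
  have h1 := (pow_diag h (2 * m + 1)).1
  rw [hg] at h1
  simp at h1
  rw [pow_succ, pow_mul, pow_two, ha, one_pow, one_mul] at h1
  exact h1.symm

theorem eq_uu {g : SL2} {s : R} (hs : IsUnit s) (h : g * uu s = uu s * g) {n : ℕ} (hn : Odd n) (hg : g ^ n = 1) :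
    g = uu (g 0 1) := by
  obtain ⟨h1, h2, h3⟩ := of_comm_uu hs h
  have h4 := diag_eq_one (Or.inl h1) h3 hn hg
  refine sl2_ext ?_ ?_ ?_ ?_ <;> simp [h1, ← h2, h4]

theorem eq_vv {g : SL2} {s : R} (hs : IsUnit s) (h : g * vv s = vv s * g) {n : ℕ} (hn : Odd n) (hg : g ^ n = 1) :
    g = vv (g 1 0) := by
  obtain ⟨h1, h2, h3⟩ := of_comm_vv hs h
  have h4 := diag_eq_one (Or.inr h1) h3 hn hg
  refine sl2_ext ?_ ?_ ?_ ?_ <;> simp [h1, ← h2, h4]

theorem uu_pow (s : R) (n : ℕ) : uu s ^ n = uu ((n : R) * s) := by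
  induction n with
  | zero => simp [H88.uu_zero]
  | succ n ih => rw [pow_succ, ih, ← uu_add]; congr 1; push_cast; ring

theorem vv_pow (s : R) (n : ℕ) : vv s ^ n = vv ((n : R) * s) := by
  induction n with
  | zero => simp [H88.vv_zero]
  | succ n ih => rw [pow_succ, ih, ← H88.vv_add]; congr 1; push_cast; ring

/-- An element congruent to one modulo the nilradical has prime power order. -/
theorem pow_eq_one_of_nilp {p : ℕ} [Fact p.Prime] [CharP R p] {g : SL2}
    (h : ∀ i j, IsNilpotent (g i j - (1 : Matrix (Fin 2) (Fin 2) R) i j)) : ∃ n, g ^ p ^ n = 1 := by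
  set M : Matrix (Fin 2) (Fin 2) R := (g : Matrix (Fin 2) (Fin 2) R) - 1 with hM
  have hn : ∀ i j, IsNilpotent (M i j) := fun i j => h i j
  have e : M * M = (M 0 0 + M 1 1) • M + (-(M 0 0 * M 1 1 - M 0 1 * M 1 0)) • 1 := by
    ext i j
    fin_cases i <;> fin_cases j <;> simp [Matrix.mul_apply, Fin.sum_univ_two] <;> ring
  have h1 : IsNilpotent (M 0 0 + M 1 1) := (Commute.all _ _).isNilpotent_add (hn 0 0) (hn 1 1)
  have h2 : IsNilpotent (-(M 0 0 * M 1 1 - M 0 1 * M 1 0)) :=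
    ((Commute.all _ _).isNilpotent_sub ((Commute.all _ _).isNilpotent_mul_right (hn 0 0))
      ((Commute.all _ _).isNilpotent_mul_right (hn 0 1))).neg
  have h3 : IsNilpotent ((M 0 0 + M 1 1) • M) := by
    obtain ⟨a, ha⟩ := h1
    exact ⟨a, by rw [smul_pow, ha, zero_smul]⟩
  have h4 : IsNilpotent ((-(M 0 0 * M 1 1 - M 0 1 * M 1 0)) • (1 : Matrix (Fin 2) (Fin 2) R)) := by
    obtain ⟨a, ha⟩ := h2
    exact ⟨a, by rw [smul_pow, ha, zero_smul]⟩
  obtain ⟨a, ha⟩ := (Commute.smul_right (Commute.one_right _) _).isNilpotent_add h3 h4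
  rw [← e, ← pow_two, ← pow_mul] at ha
  refine ⟨2 * a, Subtype.ext ((Matrix.SpecialLinearGroup.coe_pow g _).trans ?_)⟩
  rw [
    show (g : Matrix (Fin 2) (Fin 2) R) = 1 + M by rw [hM]; abel,
    add_pow_char_pow_of_commute p _ (Commute.one_left M), one_pow]
  have hle : 2 * a ≤ p ^ (2 * a) := (Nat.lt_pow_self (Fact.out : p.Prime).one_lt).le
  rw [pow_eq_zero_of_le hle ha, add_zero]
  rfl

variable {k : Type u} [Field k] [Algebra k R]

/-- The generator is constant. -/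
theorem rigid [Finite k] (h2 : (2 : k) ≠ 0) (h3 : Nat.card k ≠ 3) [Nontrivial R] [Finite R] {x : R}
    (hx : IsUnit x) (hgen : Algebra.adjoin k {x} = ⊤) (Γ D : Subgroup SL2)
    (hu : ∀ c : k, uu (algebraMap k R c) ∈ Γ) (hv : ∀ c : k, vv (algebraMap k R c * x) ∈ Γ) (hDle : D ≤ Γ)
    (hnorm : ∀ g ∈ Γ, ∀ d ∈ D, g * d * g⁻¹ ∈ D)
    (hcov : ∀ (K : Type u) [Field K] [Algebra k K] (π : R →ₐ[k] K),
      Γ.map (SpecialLinearGroup.map π.toRingHom) = ⊤ → D.map (SpecialLinearGroup.map π.toRingHom) = ⊤)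
    (hA : ∀ s, uu s ∈ D → ∃ c, s = algebraMap k R c) :
    ∃ l : k, x = algebraMap k R l ∧ ∃ c : k, c ≠ 0 ∧ uu (algebraMap k R c) ∈ D := by
  classical
  obtain ⟨p, hp⟩ := CharP.exists k
  have hprime : Fact p.Prime := ⟨(CharP.char_is_prime_or_zero k p).resolve_right fun h0 => by
    subst h0
    have := CharP.charP_to_charZero k
    exact not_finite k⟩
  have hinj : Function.Injective (algebraMap k R) := (algebraMap k R).injective
  have : CharP R p := charP_of_injective_algebraMap hinj p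
  have hodd : Odd p := hprime.out.odd_of_ne_two fun e => h2 (by subst e; exact_mod_cast CharP.cast_eq_zero k 2)
  -- residue fields
  have hfull : ∀ (K : Type u) [Field K] [Algebra k K] (π : R →ₐ[k] K), Function.Surjective π →
      D.map (SpecialLinearGroup.map π.toRingHom) = ⊤ := by
    intro K _ _ π hπ
    have : Finite K := Finite.of_surjective π hπ
    have : Module.Finite k K := Module.Finite.of_finite
    have hint : IsIntegral k (π x) := Algebra.IsIntegral.isIntegral _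
    have htop : Algebra.adjoin k {π x} = ⊤ := by
      have h := congrArg (Subalgebra.map π) hgen
      rwa [AlgHom.map_adjoin, Set.image_singleton, Algebra.map_top, (AlgHom.range_eq_top π).2 hπ] at h
    have hI : IntermediateField.adjoin k {π x} = ⊤ := by
      rw [← IntermediateField.toSubalgebra_inj, IntermediateField.adjoin_simple_toSubalgebra_of_isAlgebraic hint.isAlgebraic, htop,
        IntermediateField.top_toSubalgebra]
    let pb := (IntermediateField.adjoin.powerBasis hint).map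
      ((IntermediateField.equivOfEq hI).trans IntermediateField.topEquiv)
    have hg : pb.gen = π x := rfl
    refine hcov K π (H88.sl2_gen_eq_top pb h2 h3 (by rw [hg]; exact (hx.map π).ne_zero) _
      (fun c => ⟨_, hu c, ?_⟩) (fun c => ⟨_, hv c, ?_⟩))
    · refine sl2_ext ?_ ?_ ?_ ?_ <;> simp [SpecialLinearGroup.map_apply_coe]
    · refine sl2_ext ?_ ?_ ?_ ?_ <;> simp [SpecialLinearGroup.map_apply_coe, hg]
  -- elements of prime power order lifting those of order p
  have lift : ∀ (K : Type u) [Field K] [Algebra k K] (π : R →ₐ[k] K), Function.Surjective π →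
      ∀ z : SpecialLinearGroup (Fin 2) K, z ^ p = 1 →
        ∃ d ∈ D, (∃ n, d ^ p ^ n = 1) ∧ SpecialLinearGroup.map π.toRingHom d = z := by
    intro K _ _ π hπ z hz
    obtain ⟨d, hd, he⟩ := (hfull K π hπ ▸ Subgroup.mem_top z : z ∈ D.map _)
    have hN : orderOf d ≠ 0 := (orderOf_pos d).ne'
    obtain ⟨a, b, hb, hab⟩ := Nat.exists_eq_pow_mul_and_not_dvd hN p hprime.out.ne_one
    have hcop : Nat.Coprime b p := (hprime.out.coprime_iff_not_dvd.2 hb).symm
    refine ⟨d ^ b ^ (p - 1), D.pow_mem hd _, ⟨a, ?_⟩, ?_⟩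
    · rw [← pow_mul]
      refine orderOf_dvd_iff_pow_eq_one.1 ?_
      rw [hab, mul_comm]
      exact Nat.mul_dvd_mul_right (dvd_pow_self b (by have := hprime.out.two_le; omega)) _
    · rw [map_pow, he]
      have h1 : b ^ (p - 1) ≡ 1 [MOD p] := by
        have := Nat.ModEq.pow_totient hcop
        rwa [Nat.totient_prime hprime.out] at this
      conv_rhs => rw [← pow_one z]
      exact pow_eq_pow_iff_modEq.2 (h1.of_dvd (orderOf_dvd_of_pow_eq_one hz))
  have huu_p : ∀ {S : Type u} [CommRing S] [CharP S p] (s : S), (uu s) ^ p = 1 := fun {S} _ _ s => by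
    rw [uu_pow, CharP.cast_eq_zero, zero_mul, H88.uu_zero]
  have hvv_p : ∀ {S : Type u} [CommRing S] [CharP S p] (s : S), (vv s) ^ p = 1 := fun {S} _ _ s => by
    rw [vv_pow, CharP.cast_eq_zero, zero_mul, H88.vv_zero]
  -- a Sylow subgroup
  let U : Subgroup Γ :=
    { carrier := {g | ∃ c, g.1 = uu (algebraMap k R c)}
      one_mem' := ⟨0, by simp [H88.uu_zero]⟩
      mul_mem' := by
        rintro g h ⟨c, hc⟩ ⟨d, hd⟩
        exact ⟨c + d, by rw [Subgroup.coe_mul, hc, hd, ← uu_add, map_add]⟩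
      inv_mem' := by
        rintro g ⟨c, hc⟩
        exact ⟨-c, by rw [Subgroup.coe_inv, hc, uu_inv, map_neg]⟩ }
  have hU : IsPGroup p U := fun g => ⟨1, by
    obtain ⟨c, hc⟩ := g.2
    refine Subtype.ext (Subtype.ext ?_)
    rw [pow_one]
    push_cast
    rw [hc, huu_p]⟩
  obtain ⟨T, hT⟩ := hU.exists_le_sylow
  have hpow : ∀ {g : SL2}, (∃ hg : g ∈ Γ, (⟨g, hg⟩ : Γ) ∈ T) → ∃ n, g ^ p ^ n = 1 := fun {g} ⟨hg, h⟩ => by
    obtain ⟨n, hn⟩ := T.2 ⟨_, h⟩
    exact ⟨n, by simpa using congrArg (fun y : (T : Subgroup Γ) => (y.1 : SL2)) hn⟩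
  have hDn : (D.subgroupOf Γ).Normal := ⟨fun n hn g => hnorm g g.2 n hn⟩
  -- a central element of the Sylow subgroup inside D
  have hmax : ∃ m : Ideal R, m.IsMaximal := Ideal.exists_maximal R
  obtain ⟨m₀, hm₀⟩ := hmax
  letI := Ideal.Quotient.field m₀
  let π₁ := Ideal.Quotient.mkₐ k m₀
  have hπ₁ : Function.Surjective π₁ := Ideal.Quotient.mkₐ_surjective k m₀
  have hconj : ∀ {d : SL2}, d ∈ D → (∃ n, d ^ p ^ n = 1) →
      ∃ (g : SL2) (e : Γ), g ∈ Γ ∧ e ∈ T ∧ e.1 ∈ D ∧ d = g * e.1 * g⁻¹ := fun {d} hd hpd => by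
    obtain ⟨n, hn⟩ := hpd
    let dd : Γ := ⟨d, hDle hd⟩
    have hz : IsPGroup p (Subgroup.zpowers dd) := by
      rintro ⟨y, i, rfl⟩
      refine ⟨n, Subtype.ext ?_⟩
      push_cast
      rw [← zpow_natCast, ← _root_.zpow_mul, mul_comm, _root_.zpow_mul, zpow_natCast,
        show dd ^ p ^ n = 1 from Subtype.ext (by simpa using hn), _root_.one_zpow]
    obtain ⟨S, hS⟩ := hz.exists_le_sylow
    obtain ⟨g, rfl⟩ := MulAction.exists_smul_eq Γ T S
    have h1 := hS (Subgroup.mem_zpowers dd)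
    rw [Sylow.coe_subgroup_smul, Subgroup.mem_pointwise_smul_iff_inv_smul_mem] at h1
    refine ⟨g.1, g⁻¹ * dd * g, g.2, by simp at h1; exact h1, ?_, ?_⟩
    · simpa using hnorm g.1⁻¹ (Γ.inv_mem g.2) d hd
    · simp [dd, mul_assoc]
  obtain ⟨d₁, hd₁, hd₁p, hd₁e⟩ := lift _ π₁ hπ₁ (uu 1) (by
    have : CharP (R ⧸ m₀) p := charP_of_injective_algebraMap (algebraMap k (R ⧸ m₀)).injective p
    exact huu_p _)
  obtain ⟨g₁, e₁, -, he₁T, he₁D, rfl⟩ := hconj hd₁ hd₁p
  have hne : (D.subgroupOf Γ).subgroupOf (T : Subgroup Γ) ≠ ⊥ := fun h => by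
    have h1 : (⟨e₁, he₁T⟩ : (T : Subgroup Γ)) ∈ (D.subgroupOf Γ).subgroupOf (T : Subgroup Γ) := he₁D
    rw [h, Subgroup.mem_bot] at h1
    have h2 : e₁.1 = 1 := congrArg (fun y : (T : Subgroup Γ) => (y.1 : SL2)) h1
    rw [h2, mul_one, mul_inv_cancel, map_one] at hd₁e
    have := congrArg (fun y : SpecialLinearGroup (Fin 2) (R ⧸ m₀) => y 0 1) hd₁e
    simp at this
  have : Group.IsNilpotent (T : Subgroup Γ) := T.isPGroup'.isNilpotent
  obtain ⟨z, hz, hz1⟩ := (Subgroup.bot_or_exists_ne_one _).resolve_left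
    (inf_center_ne_bot ((D.subgroupOf Γ).subgroupOf (T : Subgroup Γ)) hne)
  have hzD : z.1.1 ∈ D := hz.1
  have hcomm : ∀ y : (T : Subgroup Γ), y.1.1 * z.1.1 = z.1.1 * y.1.1 := fun y =>
    congrArg (fun w : (T : Subgroup Γ) => (w.1 : SL2)) (Subgroup.mem_center_iff.1 hz.2 y)
  have h11 : (⟨uu (algebraMap k R 1), hu 1⟩ : Γ) ∈ T := hT ⟨1, rfl⟩
  obtain ⟨nz, hnz⟩ := hpow ⟨z.1.2, z.2⟩
  have hzuu := eq_uu (g := z.1.1) (s := algebraMap k R 1) (by simp) (hcomm ⟨_, h11⟩).symm hodd.pow hnz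
  obtain ⟨c₀, hc₀⟩ := hA _ (hzuu ▸ hzD)
  rw [hc₀] at hzuu
  have hc0 : c₀ ≠ 0 := fun h => hz1 (Subtype.ext (Subtype.ext (by rw [hzuu, h, map_zero, H88.uu_zero]; rfl)))
  have hc0D : uu (algebraMap k R c₀) ∈ D := hzuu ▸ hzD
  have hTuu : ∀ {e : Γ}, e ∈ T → e.1 = uu (e.1 0 1) := fun {e} he => by
    obtain ⟨n, hn⟩ := hpow ⟨e.2, he⟩
    have := hcomm ⟨e, he⟩
    rw [hzuu] at this
    exact eq_uu ((Ne.isUnit hc0).map _) this hodd.pow hn
  have hform : ∀ {d : SL2}, d ∈ D → (∃ n, d ^ p ^ n = 1) →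
      ∃ (g : SL2) (c : k), d = g * uu (algebraMap k R c) * g⁻¹ := fun {d} hd hpd => by
    obtain ⟨g, e, -, he, heD, rfl⟩ := hconj hd hpd
    obtain ⟨c, hc⟩ := hA _ (hTuu he ▸ heD)
    exact ⟨g, c, by rw [hTuu he, hc]⟩
  -- every residue field is k
  have hKk : ∀ (K : Type u) [Field K] [Algebra k K] (π : R →ₐ[k] K), Function.Surjective π →
      Function.Surjective (algebraMap k K) := by
    intro K _ _ π hπ
    have : Finite K := Finite.of_surjective π hπ
    have : CharP K p := charP_of_injective_algebraMap (algebraMap k K).injective p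
    let f : D →* SpecialLinearGroup (Fin 2) K := (SpecialLinearGroup.map π.toRingHom).comp D.subtype
    have hf : Function.Surjective f := fun y => by
      obtain ⟨d, hd, he⟩ := (hfull K π hπ ▸ Subgroup.mem_top y : y ∈ D.map _)
      exact ⟨⟨d, hd⟩, he⟩
    let UK : Subgroup (SpecialLinearGroup (Fin 2) K) :=
      { carrier := Set.range (uu (R := K))
        one_mem' := ⟨0, H88.uu_zero⟩
        mul_mem' := by rintro _ _ ⟨a, rfl⟩ ⟨b, rfl⟩; exact ⟨a + b, uu_add a b⟩
        inv_mem' := by rintro _ ⟨a, rfl⟩; exact ⟨-a, (uu_inv a).symm⟩ }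
    have hUK : IsPGroup p UK := fun g => ⟨1, by
      obtain ⟨a, ha⟩ := g.2
      refine Subtype.ext ?_
      rw [pow_one]
      push_cast
      rw [← ha, huu_p]⟩
    obtain ⟨SD⟩ : Nonempty (Sylow p D) := inferInstance
    obtain ⟨SK, hSK⟩ := hUK.exists_le_sylow
    have hc1 : Nat.card K ≤ Nat.card SK := by
      refine Nat.card_le_card_of_injective (fun a => ⟨uu a, hSK ⟨a, rfl⟩⟩) fun a b h => ?_
      exact H88.uu_injective (congrArg Subtype.val h)
    have hc2 : Nat.card SK = Nat.card (SD.mapSurjective hf) := by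
      rw [Sylow.card_eq_multiplicity, Sylow.card_eq_multiplicity]
    have hc3 : Nat.card (SD.mapSurjective hf) ≤ Nat.card SD := by
      rw [Sylow.coe_mapSurjective]
      exact Nat.le_of_dvd Nat.card_pos (Subgroup.card_map_dvd (SD : Subgroup D) f)
    let S' : Subgroup Γ := (SD : Subgroup D).map (Subgroup.inclusion hDle)
    obtain ⟨S, hS⟩ := (SD.isPGroup'.map (Subgroup.inclusion hDle)).exists_le_sylow
    obtain ⟨g, rfl⟩ := MulAction.exists_smul_eq Γ T S
    have hmem : ∀ d : SD, ∃ c : k, g.1⁻¹ * d.1.1 * g.1 = uu (algebraMap k R c) := fun d => by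
      have h1 := hS (Subgroup.mem_map_of_mem _ d.2)
      rw [Sylow.coe_subgroup_smul, Subgroup.mem_pointwise_smul_iff_inv_smul_mem] at h1
      simp at h1
      have h2 := hTuu h1
      have h3 : g.1⁻¹ * d.1.1 * g.1 ∈ D := by simpa using hnorm g.1⁻¹ (Γ.inv_mem g.2) _ d.1.2
      simp at h2
      rw [h2] at h3 ⊢
      obtain ⟨c, hc⟩ := hA _ h3
      exact ⟨c, by rw [hc]⟩
    choose φ hφ using hmem
    have hc4 : Nat.card SD ≤ Nat.card k := Nat.card_le_card_of_injective φ fun d d' h => by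
      have := (hφ d).trans ((congrArg (fun c => uu (algebraMap k R c)) h).trans (hφ d').symm)
      exact Subtype.ext (Subtype.ext (mul_left_cancel (mul_right_cancel this)))
    exact ((Nat.bijective_iff_injective_and_card _).2 ⟨(algebraMap k K).injective,
      le_antisymm (Nat.card_le_card_of_injective _ (algebraMap k K).injective) (by omega)⟩).2
  have hpoint : ∀ r : R, (∀ π : R →ₐ[k] k, π r = 0) → IsNilpotent r := fun r hr => by
    refine nilpotent_iff_mem_prime.2 fun P hP => ?_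
    have := IsArtinianRing.isMaximal_of_isPrime P
    letI := Ideal.Quotient.field P
    let e := AlgEquiv.ofBijective (Algebra.ofId k (R ⧸ P))
      ⟨(algebraMap k (R ⧸ P)).injective, hKk _ (Ideal.Quotient.mkₐ k P) (Ideal.Quotient.mkₐ_surjective k P)⟩
    have h1 := hr ((e.symm : R ⧸ P →ₐ[k] k).comp (Ideal.Quotient.mkₐ k P))
    rw [AlgHom.comp_apply, AlgEquiv.coe_toAlgHom, map_eq_zero_iff _ e.symm.injective] at h1
    exact Ideal.Quotient.eq_zero_iff_mem.1 h1
  obtain ⟨π₀⟩ : Nonempty (R →ₐ[k] k) := ⟨((AlgEquiv.ofBijective (Algebra.ofId k (R ⧸ m₀))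
      ⟨(algebraMap k (R ⧸ m₀)).injective, hKk _ π₁ hπ₁⟩).symm : R ⧸ m₀ →ₐ[k] k).comp π₁⟩
  have hsurj : ∀ π : R →ₐ[k] k, Function.Surjective π := fun π c => ⟨algebraMap k R c, π.commutes c⟩
  let res : (R →ₐ[k] k) → SL2 →* SpecialLinearGroup (Fin 2) k := fun π => SpecialLinearGroup.map π.toRingHom
  have hres : ∀ π s, res π (uu (algebraMap k R s)) = uu s ∧ res π (vv (algebraMap k R s)) = vv s := fun π s => by
    constructor <;> refine sl2_ext ?_ ?_ ?_ ?_ <;> simp [res, SpecialLinearGroup.map_apply_coe]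
  -- the kernel of one residue map is central
  have hcop : ∀ n ∈ D, res π₀ n = 1 → ∀ j, n ^ p ^ j = 1 → n = 1 := fun n hn h1 j hj => by
    obtain ⟨g, c, rfl⟩ := hform hn ⟨j, hj⟩
    rw [map_mul, map_mul, (hres π₀ c).1, map_inv, mul_inv_eq_one, mul_eq_left] at h1
    have := congrArg (fun m : SpecialLinearGroup (Fin 2) k => m 0 1) h1
    simp at this
    rw [this, map_zero, H88.uu_zero, mul_one, mul_inv_cancel]
  have hord : ∀ n ∈ D, res π₀ n = 1 → ¬ p ∣ orderOf n := fun n hn h1 hdvd => by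
    have ho := orderOf_pow_orderOf_div (orderOf_pos n).ne' hdvd
    have h3 := hcop (n ^ (orderOf n / p)) (D.pow_mem hn _) (by rw [map_pow, h1, one_pow]) 1
      (by rw [pow_one]; exact orderOf_dvd_iff_pow_eq_one.1 ho.dvd)
    rw [h3, orderOf_one] at ho
    exact hprime.out.ne_one ho.symm
  have hsc : ∀ n ∈ D, res π₀ n = 1 → ∀ π, res π n ∈ Subgroup.center (SpecialLinearGroup (Fin 2) k) := by
    intro n hn h1 π
    have h5 := H88.five_le_card h2 h3
    have := Linear.isSimpleGroup_PSL_fin (F := k) le_rfl fun _ => by omega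
    let M := (D ⊓ (res π₀).ker).map (res π)
    have hM : M.Normal := by
      refine ⟨?_⟩
      rintro _ ⟨m, hm, rfl⟩ y
      obtain ⟨d, hd, rfl⟩ := (hfull k π (hsurj π) ▸ Subgroup.mem_top y : y ∈ D.map _)
      refine ⟨d * m * d⁻¹, ⟨D.mul_mem (D.mul_mem hd hm.1) (D.inv_mem hd), ?_⟩, by simp [res]⟩
      simp [(MonoidHom.mem_ker).1 hm.2]
    let q := QuotientGroup.mk' (Subgroup.center (SpecialLinearGroup (Fin 2) k))
    have hMq : (M.map q).Normal := hM.map q (QuotientGroup.mk'_surjective _)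
    rcases hMq.eq_bot_or_eq_top with h | h
    · rw [Subgroup.map_eq_bot_iff, QuotientGroup.ker_mk'] at h
      exact h ⟨n, ⟨hn, h1⟩, rfl⟩
    · exfalso
      obtain ⟨_, ⟨m, hm, rfl⟩, he⟩ := (h ▸ Subgroup.mem_top (q (uu 1)) : q (uu 1) ∈ M.map q)
      have ho : orderOf (q (uu (1 : k))) = p := by
        refine orderOf_eq_prime (by rw [← map_pow, huu_p, map_one]) fun h0 => ?_
        rw [QuotientGroup.mk'_apply, QuotientGroup.eq_one_iff, Linear.mem_center_SL_two] at h0
        rcases h0 with h0 | h0 <;>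
          have := congrArg (fun m : SpecialLinearGroup (Fin 2) k => m 0 1) h0 <;> simp at this
      rw [← he] at ho
      exact hord m hm.1 hm.2 (ho ▸ (orderOf_map_dvd q _).trans (orderOf_map_dvd (res π) m))
  have hcen : ∀ n ∈ D, res π₀ n = 1 → ∀ d ∈ D, n * d = d * n := by
    intro n hn h1 d hd
    have he : res π₀ (n * d * n⁻¹ * d⁻¹) = 1 := by simp [h1]
    have hD' : n * d * n⁻¹ * d⁻¹ ∈ D := D.mul_mem (D.mul_mem (D.mul_mem hn hd) (D.inv_mem hn)) (D.inv_mem hd)
    obtain ⟨j, hj⟩ := pow_eq_one_of_nilp (p := p) (g := n * d * n⁻¹ * d⁻¹) fun i l => hpoint _ fun π => by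
      have h4 : res π (n * d * n⁻¹ * d⁻¹) = 1 := by
        rw [map_mul, map_mul, map_mul, (Subgroup.mem_center_iff.1 (hsc n hn h1 π) (res π d)).symm, map_inv, map_inv,
          mul_inv_cancel_right, mul_inv_cancel]
      have h5 := congrArg (fun m : SpecialLinearGroup (Fin 2) k => m i l) h4
      simp only [res, SpecialLinearGroup.map_apply_coe] at h5
      rw [map_sub]
      fin_cases i <;> fin_cases l <;> simp at h5 ⊢ <;> simp [h5]
    have := hcop _ hD' he j hj
    rwa [mul_inv_eq_one, mul_inv_eq_iff_eq_mul] at this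
  have huniq : ∀ d ∈ D, ∀ d' ∈ D, (∃ n, d ^ p ^ n = 1) → (∃ n, d' ^ p ^ n = 1) → res π₀ d = res π₀ d' → d = d' := by
    intro d hd d' hd' ⟨i, hi⟩ ⟨j, hj⟩ he
    have hn : d⁻¹ * d' ∈ D := D.mul_mem (D.inv_mem hd) hd'
    have h1 : res π₀ (d⁻¹ * d') = 1 := by rw [map_mul, map_inv, he, inv_mul_cancel]
    have h2 := hcen _ hn h1 d hd
    have hc : Commute d⁻¹ d' := by
      refine Commute.inv_left ?_
      have h3 := congrArg (d * ·) h2
      simp [← mul_assoc] at h3
      exact h3.symm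
    have h3 := hcop _ hn h1 (i + j) (by
      rw [hc.mul_pow, inv_pow, pow_add, pow_mul, hi, one_pow, inv_one, one_mul, mul_comm, pow_mul, hj, one_pow])
    exact (inv_mul_eq_one.1 h3)
  -- the conclusion
  set l := π₀ x
  have hl : l ≠ 0 := (hx.map π₀).ne_zero
  have hvx : vv x ∈ Γ := by simpa using hv 1
  obtain ⟨v, hvD, hvp, hve⟩ := lift k π₀ (hsurj π₀) (vv l) (hvv_p l)
  have hvcomm : v * vv x = vv x * v := by
    have h1 := huniq _ (hnorm _ hvx v hvD) v hvD
      (by obtain ⟨n, hn⟩ := hvp; exact ⟨n, by rw [conj_pow, hn, mul_one, mul_inv_cancel]⟩) hvp (by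
        have hx' : res π₀ (vv x) = vv l := by
          refine sl2_ext ?_ ?_ ?_ ?_ <;> simp [res, l, SpecialLinearGroup.map_apply_coe]
        rw [map_mul, map_mul, map_inv, hx', show res π₀ v = vv l from hve, mul_inv_cancel_right])
    exact (mul_inv_eq_iff_eq_mul.1 h1).symm
  obtain ⟨nv, hnv⟩ := hvp
  have hvz := eq_vv hx hvcomm hodd.pow hnv
  set z' := v 1 0
  have hlw : π₀ z' = l := by
    have := congrArg (fun m : SpecialLinearGroup (Fin 2) k => m 1 0) hve
    simpa [SpecialLinearGroup.map_apply_coe] using this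
  set w := algebraMap k R (-l⁻¹) with hw
  set g := uu w * v * uu w with hgdef
  have hgΓ : g ∈ Γ := Γ.mul_mem (Γ.mul_mem (hu _) (hDle hvD)) (hu _)
  obtain ⟨v', hv'D, hv'p, hv'e⟩ := lift k π₀ (hsurj π₀) (vv (-(l * l * c₀))) (hvv_p _)
  have hv'comm : v' * vv x = vv x * v' := by
    have h1 := huniq _ (hnorm _ hvx v' hv'D) v' hv'D
      (by obtain ⟨n, hn⟩ := hv'p; exact ⟨n, by rw [conj_pow, hn, mul_one, mul_inv_cancel]⟩) hv'p (by
        have hx' : res π₀ (vv x) = vv l := by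
          refine sl2_ext ?_ ?_ ?_ ?_ <;> simp [res, l, SpecialLinearGroup.map_apply_coe]
        rw [map_mul, map_mul, map_inv, hx', show res π₀ v' = _ from hv'e, mul_inv_eq_iff_eq_mul,
          ← H88.vv_add, ← H88.vv_add, add_comm])
    exact (mul_inv_eq_iff_eq_mul.1 h1).symm
  obtain ⟨nv', hnv'⟩ := hv'p
  have hv'z := eq_vv hx hv'comm hodd.pow hnv'
  have hp1 : ∀ c : k, uu (algebraMap k R c) ^ p ^ 1 = 1 := fun c => by rw [pow_one, huu_p]
  have hgc := huniq _ (hnorm g hgΓ _ hc0D) v' hv'D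
    ⟨1, by rw [conj_pow, hp1, mul_one, mul_inv_cancel]⟩ ⟨nv', hnv'⟩ (by
      rw [show res π₀ v' = _ from hv'e, hgdef, map_mul, map_mul, map_inv, map_mul, map_mul, hw, (hres π₀ _).1,
        show res π₀ v = vv l from hve, (hres π₀ _).1]
      refine sl2_ext ?_ ?_ ?_ ?_ <;>
        simp [sl2_mul, Matrix.adjugate_fin_two] <;> field_simp <;> ring)
  rw [hv'z] at hgc
  have hu0 : IsUnit (algebraMap k R c₀) := (Ne.isUnit hc0).map _
  have e00 := congrArg (fun m : SL2 => m 0 0) hgc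
  have e01 := congrArg (fun m : SL2 => m 0 1) hgc
  simp [sl2_mul, Matrix.adjugate_fin_two] at e00 e01
  have ha : g 0 0 * g 0 0 = 0 := hu0.mul_left_eq_zero.1 (by linear_combination e01)
  have hac : g 0 0 * g 1 0 = 0 := hu0.mul_left_eq_zero.1 (by linear_combination -e00 + sl2_det g)
  have ha0 : g 0 0 = 0 := by linear_combination g 1 1 * ha - g 0 1 * hac - g 0 0 * sl2_det g
  have hzl : z' = algebraMap k R l := by
    have hg00 : g 0 0 = 1 + w * z' := by
      rw [hgdef, hvz]; simp [sl2_mul]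
    have hwl : w * algebraMap k R l = -1 := by rw [hw, ← map_mul, neg_mul, inv_mul_cancel₀ hl, map_neg, map_one]
    linear_combination (-(algebraMap k R l)) * (ha0.symm.trans hg00).symm + z' * hwl
  have hlD : vv (algebraMap k R l) ∈ D := by rw [← hzl, ← hvz]; exact hvD
  have hfin := huniq _ (hnorm _ hvx _ hc0D) _ (hnorm _ (hDle hlD) _ hc0D)
    ⟨1, by rw [conj_pow, hp1, mul_one, mul_inv_cancel]⟩ ⟨1, by rw [conj_pow, hp1, mul_one, mul_inv_cancel]⟩ (by
      simp only [map_mul, map_inv]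
      rw [(hres π₀ l).2, show res π₀ (vv x) = vv l from by
        refine sl2_ext ?_ ?_ ?_ ?_ <;> simp [res, l, SpecialLinearGroup.map_apply_coe]])
  have e := congrArg (fun m : SL2 => m 0 0) hfin
  simp [sl2_mul, Matrix.adjugate_fin_two] at e
  exact ⟨l, hu0.mul_right_cancel (by linear_combination e), c₀, hc0, hc0D⟩

end Cfsg.Agent.H24.Wreath.Rigid
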