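import Cfsg.Agent.H88.QPair
import Cfsg.Agent.H24.Wreath.PairRigid

/-!
Two square-zero endomorphisms with their scalar families in a group `G`: if `G` meets `1 + A End A` only in the family
of `A`, then `A B A` is a multiple of `A`.
-/

set_option autoImplicit false
set_option maxHeartbeats 1000000

namespace Cfsg.Agent.H24.Wreath.Pair

open Matrix Polynomial
open Cfsg.Agent.H88

universe u v

variable {k : Type u} [Field k] {M : Type v} [AddCommGroup M] [Module k M]
  {G : Subgroup (LinearMap.GeneralLinearGroup k M)}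

/-- `G` meets `1 + A End A` only in the family of `A`. -/
def Thin (G : Subgroup (LinearMap.GeneralLinearGroup k M)) (A : Module.End k M) : Prop :=
  ∀ Z : Module.End k M, (∃ g ∈ G, (g : Module.End k M) = 1 + A * Z * A) → ∃ c : k, A * Z * A = c • A

theorem pow_mul_eq' (A B : Module.End k M) (hA : A * A = 0) (j : ℕ) :
    (A * B + B * A) ^ j * A = (A * B) ^ j * A := by
  induction j with
  | zero => simp
  | succ j ih =>
    have h1 : (A * B + B * A) * A = A * B * A := by rw [add_mul, mul_assoc B A A, hA]; simp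
    have hc : (A * B + B * A) * (A * B) = A * B * (A * B) := by
      rw [add_mul, show B * A * (A * B) = B * (A * A) * B by noncomm_ring, hA]; simp
    rw [pow_succ', mul_assoc, ih]
    have : ∀ n : ℕ, (A * B + B * A) * ((A * B) ^ n * A) = A * B * ((A * B) ^ n * A) := by
      intro n
      cases n with
      | zero => simpa using h1
      | succ n => rw [pow_succ', mul_assoc, ← mul_assoc (A * B + B * A), hc]; noncomm_ring
    rw [this, pow_succ', mul_assoc]
    simp only [mul_assoc]

/-- The nilpotent case. -/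
theorem nilp (hk : (2 : k) ≠ 0) {A B : Module.End k M} (hA : Rt G A) (hB : Rt G B) (hthin : Thin G A)
    (hn : IsNilpotent (A * B + B * A)) : A * B * A = 0 := by
  obtain ⟨j, hj⟩ := hn
  have key : ∀ j : ℕ, ∀ B : Module.End k M, Rt G B → (A * B) ^ j * A = 0 → A * B * A = 0 := by
    intro j
    induction j using Nat.strong_induction_on with
    | _ j ih =>
      intro B hB h
      set A' := (1 + B) * A * (1 - B) with hA'
      have hA'r : Rt G A' := hA.conjOneAdd hB
      have e1 : ∀ Z : Module.End k M, A * A' * (A * Z) = -(A * B * (A * B) * (A * Z)) := by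
        intro Z
        rw [hA']
        calc A * ((1 + B) * A * (1 - B)) * (A * Z)
            = (A * A) * A * Z - (A * A) * B * A * Z + A * B * (A * A) * Z
                - A * B * (A * B) * (A * Z) := by noncomm_ring
          _ = _ := by rw [hA.sq]; simp
      have e2 : ∀ i : ℕ, (A * A') ^ i * A = (-1 : k) ^ i • ((A * B) ^ (2 * i) * A) := by
        intro i
        induction i with
        | zero => simp
        | succ i ihi =>
          rw [pow_succ', mul_assoc, ihi, mul_smul_comm]
          have h2 : ∀ n : ℕ, A * A' * ((A * B) ^ n * A) = -(A * B * (A * B) * ((A * B) ^ n * A)) := by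
            intro n
            cases n with
            | zero => simpa using e1 1
            | succ n => simpa [pow_succ', mul_assoc] using e1 (B * ((A * B) ^ n * A))
          rw [h2, show 2 * (i + 1) = 2 * i + 1 + 1 by omega, pow_succ' _ (2 * i + 1),
            pow_succ' _ (2 * i), pow_succ' (-1 : k) i, mul_smul, neg_smul, one_smul, smul_neg]
          simp only [mul_assoc]
      have h2 : A * B * A * B * A = 0 := by
        by_cases hj : j ≤ 2
        · have : (A * B) ^ (2 : ℕ) * A = 0 := by
            obtain ⟨t, ht⟩ := Nat.exists_eq_add_of_le hj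
            rw [ht, Nat.add_comm j t, pow_add, mul_assoc, h, mul_zero]
          simpa [pow_two, mul_assoc] using this
        · have hlt : (j + 1) / 2 < j := by omega
          have h0 : (A * A') ^ ((j + 1) / 2) * A = 0 := by
            obtain ⟨t, ht⟩ := Nat.exists_eq_add_of_le (show j ≤ 2 * ((j + 1) / 2) by omega)
            rw [e2, ht, Nat.add_comm j t, pow_add, mul_assoc, h, mul_zero, smul_zero]
          have := ih _ hlt A' hA'r h0
          have e := e2 1
          rw [pow_one, this, pow_one, show 2 * 1 = 2 from rfl, pow_two, neg_one_smul] at e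
          simpa [mul_assoc] using e.symm
      have hA2 := hA.sq
      have hB2 := hB.sq
      have k1 : ∀ Z : Module.End k M, A * (B * (A * (B * (A * Z)))) = 0 := fun Z => by
        simpa [mul_assoc] using congrArg (· * Z) h2
      have k1' : A * (B * (A * (B * A))) = 0 := by simpa [mul_assoc] using h2
      have k2 : ∀ Z : Module.End k M, A * (A * Z) = 0 := fun Z => by rw [← mul_assoc, hA2, zero_mul]
      have k3 : ∀ Z : Module.End k M, B * (B * Z) = 0 := fun Z => by rw [← mul_assoc, hB2, zero_mul]
      have hN : ∀ s : k, Rt G ((2 * s) • (A * B * A) + (s * s) • (B * A * B * A - A * B * A * B)) := by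
        intro s
        have hs : Rt G ((1 + s • B) * A * (1 - s • B)) := hA.conjOneAdd (hB.smul s)
        have h1 : A * ((1 + s • B) * A * (1 - s • B)) * A = 0 := by
          simp only [mul_add, add_mul, mul_sub, sub_mul, one_mul, mul_one, smul_mul_assoc,
            mul_smul_comm, mul_assoc, k1', k2, k3, hA2, hB2, mul_zero, zero_mul, smul_zero]
          simp
        have h3 : ((1 + s • B) * A * (1 - s • B)) * A * ((1 + s • B) * A * (1 - s • B)) = 0 := by
          simp only [mul_add, add_mul, mul_sub, sub_mul, one_mul, mul_one, smul_mul_assoc,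
            mul_smul_comm, mul_assoc, k1, k1', k2, k3, hA2, hB2, mul_zero, zero_mul, smul_zero]
          simp
        convert hA.commutator hs h1 h3 using 1
        simp only [mul_add, add_mul, mul_sub, sub_mul, one_mul, mul_one, smul_mul_assoc,
          mul_smul_comm, mul_assoc, k2, k3, hA2, hB2, mul_zero, zero_mul, smul_zero, smul_sub,
          smul_add, two_mul, add_smul, mul_smul]
        abel
      set Y := A * B * A with hY
      set Q := B * A * B * A - A * B * A * B with hQ
      have p1 : Y * Y = 0 := by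
        rw [hY]; simp only [mul_assoc, k2, hA2, mul_zero]
      have p2 : Y * Q = 0 := by
        rw [hY, hQ]; simp only [mul_sub, mul_assoc, k1, k1', k2, hA2, mul_zero, sub_zero]
      have p3 : Q * Y = 0 := by
        rw [hY, hQ]; simp only [sub_mul, mul_assoc, k1, k1', k2, hA2, mul_zero, sub_zero]
      have p4 : Q * Q = 0 := by
        rw [hQ]; simp only [mul_sub, sub_mul, mul_assoc, k1, k1', k2, k3, hA2, hB2, mul_zero, sub_zero]
      have hsum : Rt G ((4 : k) • Y) := by
        have ha := hN 1
        have hb := (hN (-1)).neg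
        convert ha.add hb ?_ ?_ using 1
        · simp only [mul_neg, neg_mul, mul_one, neg_neg, one_smul, neg_smul]
          rw [show (4 : k) = 2 + 2 by norm_num, add_smul]
          abel
        all_goals
          simp only [mul_add, add_mul, smul_mul_assoc, mul_smul_comm, mul_neg, neg_mul, p1, p2, p3,
            p4, smul_zero, add_zero, neg_zero]
      obtain ⟨g, hg, hgv⟩ := hsum.2 (4 : k)⁻¹
      rw [smul_smul, inv_mul_cancel₀ (by rw [show (4 : k) = 2 * 2 by norm_num]; exact mul_ne_zero hk hk),
        one_smul, hY] at hgv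
      obtain ⟨c, hc⟩ := hthin B ⟨g, hg, hgv⟩
      have e : (c * c) • A = 0 := by
        calc (c * c) • A = c • Y := by rw [hY, hc, smul_smul]
          _ = A * B * Y := by
            conv_rhs => rw [hY, hc, mul_smul_comm]
          _ = 0 := by rw [hY]; simp only [mul_assoc]; exact k1'
      rcases smul_eq_zero.1 e with h | h
      · rw [hY, hc, mul_self_eq_zero.1 h, zero_smul]
      · rw [hY, h, mul_zero]
  exact key j B hB (by rw [← pow_mul_eq' A B hA.sq, hj, zero_mul])

/-- The pair lemma. -/
theorem pair [FiniteDimensional k M] [Finite k] (h2 : (2 : k) ≠ 0) (h3 : Nat.card k ≠ 3) {A B : Module.End k M}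
    (hA : Rt G A) (hB : Rt G B) (hthin : Thin G A) : ∃ c : k, A * B * A = c • A := by
  classical
  by_cases hn : IsNilpotent (A * B + B * A)
  · exact ⟨0, by rw [zero_smul]; exact nilp h2 hA hB hthin hn⟩
  obtain ⟨c⟩ := exists_coords hA.sq hB.sq hn
  have : Module.Finite k (AdjoinRoot c.g) := (AdjoinRoot.powerBasis c.monic.ne_zero).finite
  have : Finite (AdjoinRoot c.g) := Module.finite_of_finite k
  have : Nontrivial (AdjoinRoot c.g) := AdjoinRoot.nontrivial c.g
    (fun hd => c.not_unit (isUnit_iff_degree_eq_zero.2 hd))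
  set R := AdjoinRoot c.g
  set x : R := AdjoinRoot.root c.g with hx
  set Γ := c.pairGroup.map (MonoidHom.snd _ _) with hΓ
  let D0 : Subgroup ((Module.End k M)ˣ × Matrix.SpecialLinearGroup (Fin 2) R) :=
    { carrier := {p | p ∈ c.pairGroup ∧ (p.1 : Module.End k M) * (1 - c.P) = 1 - c.P}
      one_mem' := ⟨c.pairGroup.one_mem, by simp⟩
      mul_mem' := by
        rintro p q ⟨hp, hp'⟩ ⟨hq, hq'⟩
        exact ⟨c.pairGroup.mul_mem hp hq, by rw [Prod.fst_mul, Units.val_mul, mul_assoc, hq', hp']⟩
      inv_mem' := by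
        rintro p ⟨hp, hp'⟩
        refine ⟨c.pairGroup.inv_mem hp, ?_⟩
        conv_lhs => rw [← hp', ← mul_assoc, Prod.fst_inv, Units.inv_mul, one_mul] }
  set D := D0.map (MonoidHom.snd _ _) with hD
  have hDle : D ≤ Γ := Subgroup.map_mono fun p hp => hp.1
  have hnorm : ∀ g ∈ Γ, ∀ d ∈ D, g * d * g⁻¹ ∈ D := by
    rintro _ ⟨p, hp, rfl⟩ _ ⟨q, ⟨hq, hq'⟩, rfl⟩
    refine ⟨p * q * p⁻¹, ⟨c.pairGroup.mul_mem (c.pairGroup.mul_mem hp hq) (c.pairGroup.inv_mem hp), ?_⟩, by simp⟩
    obtain ⟨hc1, -⟩ := c.pairGroup_dev (c.pairGroup.inv_mem hp)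
    rw [Prod.fst_mul, Prod.fst_mul, Units.val_mul, Units.val_mul, mul_assoc, hc1.eq, mul_assoc, ← mul_assoc (q.1 : Module.End k M),
      hq', ← hc1.eq, ← mul_assoc, Prod.fst_inv, Units.mul_inv, one_mul]
  have hA' : ∀ s : R, uu s ∈ D → ∃ cc : k, s = algebraMap k R cc ∧ A * c.ev s = cc • A := by
    rintro s ⟨p, ⟨hp, hp'⟩, hps⟩
    obtain ⟨-, e2⟩ := c.pairGroup_spec hp
    change p.2 = uu s at hps
    rw [hps, c.Φ_uu] at e2
    have e : (p.1 : Module.End k M) = 1 + A * c.ev s := by
      calc (p.1 : Module.End k M) = (p.1 : Module.End k M) * (1 - c.P) + (p.1 : Module.End k M) * c.P := by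
            rw [← mul_add, sub_add_cancel, mul_one]
        _ = _ := by rw [hp', e2]; abel
    have hZ : A * c.ev s = A * (B * c.ev (c.xi * s)) * A := by
      rw [mul_assoc, mul_assoc, ← (c.commA _).eq, ← mul_assoc B, ← mul_assoc, ← mul_assoc A B, ← c.A_C, mul_assoc,
        c.C_mul_ev, ← mul_assoc x, hx, c.root_mul, one_mul]
    obtain ⟨cc, hcc⟩ := hthin (B * c.ev (c.xi * s)) ⟨p.1, c.pairGroup_le hA hB hp, by rw [e, hZ]⟩
    rw [← hZ] at hcc
    refine ⟨cc, ?_, hcc⟩
    have h1 : c.Φ !![0, s; 0, 0] = c.Φ !![0, algebraMap k R cc; 0, 0] := by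
      rw [c.Φ_upper, c.Φ_upper, c.ev_algebraMap, mul_smul_comm, ← smul_mul_assoc, ← hcc, mul_assoc, c.mul_P]
    have h4 : c.Φ (!![0, s; 0, 0] - !![0, algebraMap k R cc; 0, 0]) = 0 := by
      have := c.Φ_add (!![0, s; 0, 0] - !![0, algebraMap k R cc; 0, 0]) !![0, algebraMap k R cc; 0, 0]
      rw [sub_add_cancel, h1] at this
      exact right_eq_add.1 this
    have h5 := congrFun (congrFun (c.Φ_inj h4) 0) 1
    simpa [sub_eq_zero] using h5
  have hcov : ∀ (K : Type u) [Field K] [Algebra k K] (π : R →ₐ[k] K),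
      Γ.map (SpecialLinearGroup.map π.toRingHom) = ⊤ → D.map (SpecialLinearGroup.map π.toRingHom) = ⊤ := by
    intro K _ _ π htop
    obtain ⟨a, ha0, ha1⟩ := exists_sq_ne_one h2 h3
    have hperf : commutator (SpecialLinearGroup (Fin 2) K) = ⊤ :=
      SL2.commutator_eq_top (a := algebraMap k K a) (by simpa using ha0)
        (by rw [← map_pow, ← map_one (algebraMap k K)]; exact fun e => ha1 ((algebraMap k K).injective e))
    obtain ⟨L, hL⟩ := c.nilGens_words
    let ψ := ((SpecialLinearGroup.map π.toRingHom).comp (MonoidHom.snd _ _)).comp c.pairGroup.subtype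
    have hψ : Function.Surjective ψ := fun γ => by
      obtain ⟨_, ⟨p, hp, rfl⟩, e⟩ := (htop ▸ Subgroup.mem_top γ : γ ∈ Γ.map _)
      exact ⟨⟨p, hp⟩, e⟩
    refine Subgroup.eq_top_iff' _ |>.2 fun γ => ?_
    obtain ⟨p, hp, e⟩ := exists_deep c.Q_sq hL ((MonoidHom.fst _ _).comp c.pairGroup.subtype) ψ hψ hperf
      (fun p => c.pairGroup_dev p.2) γ
    exact ⟨_, ⟨p.1, ⟨p.2, e⟩, rfl⟩, hp⟩
  obtain ⟨l, hl, c₀, hc0, hc0D⟩ := Rigid.rigid h2 h3 (x := x) (IsUnit.of_mul_eq_one c.xi c.root_mul)
    AdjoinRoot.adjoinRoot_eq_top Γ D (fun t => ⟨_, c.genA_mem t, rfl⟩) (fun t => ⟨_, c.genB_mem t, rfl⟩) hDle hnorm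
    hcov fun s hs => (hA' s hs).imp fun cc h => h.1
  obtain ⟨cc, hcc, hcA⟩ := hA' _ hc0D
  rw [c.ev_algebraMap, mul_smul_comm, ← (algebraMap k R).injective hcc] at hcA
  have hAP : A * c.P = A := smul_right_injective _ hc0 hcA
  refine ⟨l, ?_⟩
  calc A * B * A = A * (A * B + B * A) := c.A_C.symm
    _ = A * c.P * (A * B + B * A) := by rw [hAP]
    _ = A * ((A * B + B * A) * c.P) := by
      rw [mul_assoc, (c.commute_P (Commute.refl (A * B + B * A))).eq]
    _ = A * c.ev x := by rw [c.ev_root, Coords.P]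
    _ = l • (A * c.P) := by rw [hl, c.ev_algebraMap, mul_smul_comm]
    _ = l • A := by rw [hAP]

end Cfsg.Agent.H24.Wreath.Pair
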