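import Cfsg.Agent.H24.Wreath.Climb
import Cfsg.Agent.H24.Wreath.Lie
import Cfsg.Agent.H24.Wreath.Pair
import Cfsg.Agent.H24.Tensor.Closure

/-!
The dichotomy for a group containing the decomposition stabiliser: monomial, or all transvections.
-/

set_option autoImplicit false

namespace Cfsg.Agent.H24.Wreath

open Matrix Finset
open Cfsg.Agent.Aschbacher (pureMat pureVec slotMat factorPerm)

variable {F : Type*} [Field F] {k t : ℕ}

theorem Q.toLin {H : Subgroup (Mat F k t)ˣ} {Y : Mat F k t} (h : Q (F := F) H Y) :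
    H88.Rt (H.map (Units.map (Matrix.toLinAlgEquiv' (R := F) (n := Fin t → Fin k)).toAlgHom.toRingHom.toMonoidHom))
      (Matrix.toLinAlgEquiv' Y) := by
  refine ⟨by rw [← map_mul, h.1, map_zero], fun c => ?_⟩
  obtain ⟨g, hg, hv⟩ := h.2 c
  refine ⟨_, ⟨g, hg, rfl⟩, ?_⟩
  show Matrix.toLinAlgEquiv' (g : Mat F k t) = _
  rw [hv, map_add, map_one, map_smul]

namespace Gram

variable (𝕘 : Gram F k)

/-- The transvection direction at a vector of the power. -/
def bigTau (v : (Fin t → Fin k) → F) : Mat F k t := vecMulVec v (v ᵥ* 𝕘.big t)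

/-- Every conjugate of a root passes the test, given that the group has no further root. -/
def Test (H : Subgroup (Mat F k t)ˣ) : Prop :=
  ∀ Y : Mat F k t, Q (F := F) H Y → ∀ (i : Fin t) (a : Fin k → F), ∃ r : F, 𝕘.ct i a a Y = r • 1

variable {𝕘} {H : Subgroup (Mat F k t)ˣ}

/-- The test over a field with more than three elements. -/
theorem Over.test_of_pair [Finite F] (h3 : Nat.card F ≠ 3) (hH : 𝕘.Over H) (hno : 𝕘.NoRoot H) : 𝕘.Test H := by
  intro Y hY i a
  rcases eq_or_ne a 0 with rfl | ha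
  · exact ⟨0, by rw [ct_zero_left, zero_smul]⟩
  have hthin : Pair.Thin (H.map (Units.map (Matrix.toLinAlgEquiv' (R := F) (n := Fin t → Fin k)).toAlgHom.toRingHom.toMonoidHom))
      (Matrix.toLinAlgEquiv' (sl i (𝕘.root a) : Mat F k t)) := by
    rintro Z ⟨_, ⟨g, hg, rfl⟩, hv⟩
    obtain ⟨Z, rfl⟩ := (Matrix.toLinAlgEquiv' (R := F) (n := Fin t → Fin k)).surjective Z
    change Matrix.toLinAlgEquiv' (g : Mat F k t) = _ at hv
    rw [← map_one (Matrix.toLinAlgEquiv' (R := F) (n := Fin t → Fin k)), ← map_mul, ← map_mul, ← map_add,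
      tau_sandwich] at hv
    obtain ⟨c, hc⟩ := hno i a _ (𝕘.ct_off i a a Z) ⟨g, hg, Matrix.toLinAlgEquiv'.injective hv⟩
    exact ⟨c, by rw [← map_mul, ← map_mul, tau_sandwich, hc, map_smul]⟩
  obtain ⟨c, hc⟩ := Pair.pair 𝕘.two h3 (hH.hroot i a).toLin hY.toLin hthin
  rw [← map_mul, ← map_mul, ← map_smul] at hc
  have h1 := Matrix.toLinAlgEquiv'.injective hc
  rw [tau_sandwich] at h1
  exact ⟨c, (𝕘.ct_off i a a Y).cancel ((off_one i).smul c) (𝕘.tau_ne_zero ha ha)
    (by rw [h1, mul_smul_comm, mul_one])⟩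

theorem Over.flat_of_test (hH : 𝕘.Over H) (h : 𝕘.Test H) : 𝕘.Flat H :=
  fun _ hg i a j b => h _ ((hH.hroot i a).map hg) j b

theorem big_alt (ht : Odd t) (v : (Fin t → Fin k) → F) : v ⬝ᵥ 𝕘.big t *ᵥ v = 0 := by
  have h : v ⬝ᵥ 𝕘.big t *ᵥ v = -(v ⬝ᵥ 𝕘.big t *ᵥ v) := by
    conv_lhs => rw [dotProduct_mulVec, ← mulVec_transpose, 𝕘.big_transpose, ht.neg_one_pow, neg_one_smul,
      neg_mulVec, dotProduct_comm, dotProduct_neg]
  exact (mul_eq_zero.1 (show (2 : F) * (v ⬝ᵥ 𝕘.big t *ᵥ v) = 0 by linear_combination h)).resolve_left 𝕘.two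

theorem big_pure (a b : Fin t → Fin k → F) :
    pureVec a ⬝ᵥ 𝕘.big t *ᵥ pureVec b = ∏ j, 𝕘.β (a j) (b j) := by
  rw [big, Aschbacher.pureMat_mulVec, Aschbacher.pureVec_dot]
  rfl

theorem bigTau_pure (a : Fin t → Fin k → F) :
    (pureMat fun j => 𝕘.root (a j) : Mat F k t) = 𝕘.bigTau (pureVec a) := by
  rw [pureMat_tau, bigTau]
  congr 1
  rw [← mulVec_transpose, big, pureMat_transpose, Aschbacher.pureMat_mulVec]
  congr 1
  funext j
  rw [mulVec_transpose]

/-- All pure roots give all transvections. -/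
theorem Over.transvections (hH : 𝕘.Over H) (ht : Odd t) [NeZero k] (hfull : 𝕘.Full H univ)
    (v : (Fin t → Fin k) → F) : Q (F := F) H (𝕘.bigTau v) := by
  classical
  have := hH
  let B : ((Fin t → Fin k) → F) →ₗ[F] ((Fin t → Fin k) → F) →ₗ[F] F := Matrix.toLinearMap₂' F (𝕘.big t)
  have hB : ∀ x y, B x y = x ⬝ᵥ 𝕘.big t *ᵥ y := fun x y => Matrix.toLinearMap₂'_apply' _ _ _
  have halt : ∀ x, B x x = 0 := fun x => by rw [hB, big_alt ht]
  have hnd : ∀ x, (∀ y, B x y = 0) → x = 0 := fun x hx => by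
    have h1 : x ᵥ* 𝕘.big t = 0 := funext fun i => by
      have h2 := hx (Pi.single i 1)
      rwa [hB, dotProduct_mulVec, dotProduct_single, mul_one] at h2
    exact Matrix.vecMul_injective_iff_isUnit.2 𝕘.isUnit_big (h1.trans (zero_vecMul _).symm)
  have hmul : ∀ x y : (Fin t → Fin k) → F, 𝕘.bigTau x * 𝕘.bigTau y = B x y • vecMulVec x (y ᵥ* 𝕘.big t) := fun x y => by
    rw [bigTau, bigTau, vecMulVec_mul_vecMulVec, hB, dotProduct_mulVec, vecMulVec_smul]
  have hsp : Submodule.span F (Set.range (pureVec (m := k) (t := t) (F := F))) = ⊤ := by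
    rw [← top_le_iff, ← (Pi.basisFun F (Fin t → Fin k)).span_eq, Submodule.span_le]
    rintro _ ⟨x, rfl⟩
    refine Submodule.subset_span ⟨fun i => Pi.single (x i) 1, ?_⟩
    rw [Pi.basisFun_apply, Aschbacher.pureVec_single]
  refine Tensor.closure_eq_univ 𝕘.two B halt hnd {w | Q (F := F) H (𝕘.bigTau w)} ?_ ?_
    (Set.range (pureVec (m := k) (t := t) (F := F))) ?_ hsp ?_ ?_ v
  · intro c p hp
    show Q (F := F) H (𝕘.bigTau (c • p))
    rw [bigTau, smul_vecMul, vecMulVec_smul, smul_vecMulVec, smul_smul]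
    exact hp.smul _
  · intro p hp q hq hpq μ
    show Q (F := F) H (𝕘.bigTau (p + μ • q))
    have hqp : B q p = -B p q := by
      have h := halt (p + q)
      simp only [map_add, LinearMap.add_apply, halt, zero_add, add_zero] at h
      exact eq_neg_of_add_eq_zero_left h
    have h1 := Q.move hp hq (μ / B q p)
    have hne : B q p ≠ 0 := by rw [hqp]; exact neg_ne_zero.2 hpq
    have e3 : 𝕘.bigTau q * 𝕘.bigTau p * 𝕘.bigTau q = (B q p * B p q) • 𝕘.bigTau q := by
      rw [hmul, smul_mul_assoc, bigTau, vecMulVec_mul_vecMulVec, ← dotProduct_mulVec, ← hB,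
        vecMulVec_smul, smul_smul]
    rw [e3, hmul, hmul, hqp] at h1
    rw [hqp] at hne
    convert h1 using 1
    simp only [bigTau, add_vecMul, smul_vecMul, vecMulVec_add, add_vecMulVec, smul_vecMulVec, vecMulVec_smul,
      smul_smul, smul_sub, smul_add]
    match_scalars <;> field_simp
  · rintro _ ⟨a, rfl⟩
    show Q (F := F) H (𝕘.bigTau (pureVec a))
    by_cases ha : ∀ j, a j ≠ 0
    · rw [← bigTau_pure]
      simpa using hfull a fun j _ => ha j
    · push Not at ha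
      obtain ⟨j, hj⟩ := ha
      rw [bigTau, pureVec_eq_zero_of hj, zero_vecMulVec]
      exact Q.zero
  · obtain ⟨e, he⟩ : ∃ e : Fin k → F, e ≠ 0 := ⟨Pi.single ⟨0, Nat.pos_of_ne_zero (NeZero.ne k)⟩ 1, by simp⟩
    exact ⟨_, ⟨fun _ => e, rfl⟩, pureVec_ne_zero fun _ : Fin t => he⟩
  · rintro _ ⟨a, rfl⟩ ha _ ⟨b, rfl⟩ hb
    have ha' : ∀ j, a j ≠ 0 := fun j h => ha (pureVec_eq_zero_of h)
    have hb' : ∀ j, b j ≠ 0 := fun j h => hb (pureVec_eq_zero_of h)
    choose z hz using fun j => 𝕘.exists_common (ha' j) (hb' j)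
    refine ⟨pureVec z, ⟨z, rfl⟩, ?_, ?_⟩
    · rw [hB, big_pure]; exact Finset.prod_ne_zero_iff.2 fun j _ => (hz j).1
    · rw [hB, big_pure]; exact Finset.prod_ne_zero_iff.2 fun j _ => (hz j).2

/-- The dichotomy. -/
theorem Over.dichotomy (hH : 𝕘.Over H) (ht : Odd t) [NeZero k]
    (hp : ∀ π : Equiv.Perm (Fin t), ∃ g ∈ H, (g : Mat F k t) = factorPerm π)
    (hflat : 𝕘.NoRoot H → 𝕘.Flat H) :
    (∀ g ∈ H, ∃ (A : Fin t → GL (Fin k) F) (σ : Equiv.Perm (Fin t)) (r : F), r ≠ 0 ∧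
      (g : Mat F k t) = r • (pureMat (fun j => (A j : Matrix (Fin k) (Fin k) F)) * factorPerm σ)) ∨
    ∀ v, Q (F := F) H (𝕘.bigTau v) := by
  by_cases hno : 𝕘.NoRoot H
  · exact Or.inl fun g hg => (hflat hno).monomial hH hg
  · exact Or.inr fun v => hH.transvections ht (hH.climb hp ht hno) v

end Gram

end Cfsg.Agent.H24.Wreath
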