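import Cfsg.Agent.H24.Wreath.Rec

/-!
Merging two pure roots into one.
-/

set_option autoImplicit false

namespace Cfsg.Agent.H24.Wreath

open Matrix Finset
open Cfsg.Agent.Aschbacher (pureMat pureVec slotMat factorPerm)

variable {F : Type*} [Field F] {k t : ℕ}

section
variable {H : Subgroup (Mat F k t)ˣ}

theorem sl_mul_family {f : Fin t} {N : Matrix (Fin k) (Fin k) F} (hN : N * N = 0) {M M' : Mat F k t}
    (hM : Off f M) : (sl f N * M) * (sl f N * M') = 0 := by
  rw [mul_assoc, ← mul_assoc M, ← hM, mul_assoc (sl f N) M M', ← mul_assoc, sl_mul, hN, sl_zero, zero_mul]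

theorem Q.fam_sub {f : Fin t} {N : Matrix (Fin k) (Fin k) F} (hN : N * N = 0) {M M' : Mat F k t} (hM : Off f M)
    (hM' : Off f M') (h : Q (F := F) H (sl f N * M)) (h' : Q (F := F) H (sl f N * M')) :
    Q (F := F) H (sl f N * (M - M')) := by
  rw [mul_sub, sub_eq_add_neg]
  refine h.add h'.neg ?_ ?_
  · rw [mul_neg, sl_mul_family hN hM, neg_zero]
  · rw [neg_mul, sl_mul_family hN hM', neg_zero]

/-- Two roots make a root out of their bracket. -/
theorem Q.bracket {Z Z' : Mat F k t} (h : Q (F := F) H Z) (h' : Q (F := F) H Z') (h1 : Z' * Z * Z' = 0)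
    (h2 : Z * Z' * Z = 0) : Q (F := F) H (Z' * Z - Z * Z') := by
  have hm := h.move h' 1
  rw [h1, smul_zero, sub_zero, one_smul] at hm
  have e := hm.add h.neg ?_ ?_
  · rwa [show Z + (Z' * Z - Z * Z') + -Z = Z' * Z - Z * Z' by abel] at e
  · rw [mul_neg, add_mul, sub_mul, mul_assoc Z' Z Z, h.sq, mul_zero, h2, sub_zero, add_zero, neg_zero]
  · rw [neg_mul, mul_add, mul_sub, ← mul_assoc Z Z Z', h.sq, zero_mul, ← mul_assoc Z Z' Z, h2, sub_zero, add_zero,
      neg_zero]

end

namespace Gram

variable {𝕘 : Gram F k} {H : Subgroup (Mat F k t)ˣ} (hH : 𝕘.Over H)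
include hH

/-- A nilpotent slot survives brackets and sandwiches with roots of the other slots. -/
theorem Over.fam_ops {f j : Fin t} (hfj : j ≠ f) (b : Fin k → F) {N : Matrix (Fin k) (Fin k) F} (hN : N * N = 0)
    {M : Mat F k t} (hM : Off f M) (h : Q (F := F) H (sl f N * M)) :
    Q (F := F) H (sl f N * (sl j (𝕘.root b) * M - M * sl j (𝕘.root b))) ∧
      Q (F := F) H (sl f N * (sl j (𝕘.root b) * M * sl j (𝕘.root b))) := by
  set P := (sl j (𝕘.root b) : Mat F k t)
  set D := P * M - M * P with hD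
  set E := P * M * P with hE
  have hP : Off f P := off_sl hfj.symm _
  have hD' : Off f D := by
    rw [hD, sub_eq_add_neg]
    exact (hP.mul hM).add (hM.mul hP).neg
  have hE' : Off f E := (hP.mul hM).mul hP
  have hx : ∀ x : F, Q (F := F) H (sl f N * (M + x • D - (x * x) • E)) := fun x => by
    have h1 := h.move (hH.hroot j b) x
    rw [← mul_assoc, ← hP N] at h1
    convert h1 using 1
    rw [hD, hE]
    simp only [P, mul_add, mul_sub, mul_smul_comm, mul_assoc]
  have hoff : ∀ x : F, Off f (M + x • D - (x * x) • E) := fun x => by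
    rw [sub_eq_add_neg, ← neg_smul]
    exact (hM.add (hD'.smul x)).add (hE'.smul _)
  have h1 := Q.fam_sub hN (hoff 1) (hoff (-1)) (hx 1) (hx (-1))
  have h2 := Q.fam_sub hN hM (hoff 1) h (hx 1)
  have e1 : (M + (1 : F) • D - ((1 : F) * 1) • E) - (M + (-1 : F) • D - ((-1 : F) * -1) • E) = (2 : F) • D := by
    simp only [one_mul, neg_mul_neg, one_smul, neg_one_smul, two_smul]
    abel
  rw [e1, mul_smul_comm] at h1
  have hDQ : Q (F := F) H (sl f N * D) := by
    have := h1.smul (2 : F)⁻¹
    rwa [smul_smul, inv_mul_cancel₀ 𝕘.two, one_smul] at this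
  refine ⟨hDQ, ?_⟩
  have e2 : M - (M + (1 : F) • D - ((1 : F) * 1) • E) = E - D := by
    simp only [one_mul, one_smul]
    abel
  rw [e2] at h2
  have hED : Off f (E - D) := by rw [sub_eq_add_neg]; exact hE'.add hD'.neg
  have h3 := Q.fam_sub hN hED hD'.neg h2 (by rw [mul_neg]; exact hDQ.neg)
  rwa [sub_neg_eq_add, sub_add_cancel] at h3

omit hH

/-- The vector moved by the transvection at `w`. -/
def st (𝕘 : Gram F k) (w x : Fin k → F) : Fin k → F := x + 𝕘.β w x • w

theorem conj_tau (w x y : Fin k → F) :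
    (1 + 𝕘.root w) * 𝕘.tau x y * (1 - 𝕘.root w) = 𝕘.tau (𝕘.st w x) (𝕘.st w y) := by
  simp only [add_mul, mul_sub, one_mul, mul_one, root, tau_mul_tau, smul_mul_assoc, st, tau_add_left, tau_add_right,
    tau_smul_left, tau_smul_right, smul_smul]
  rw [show 𝕘.β y w = -𝕘.β w y from 𝕘.β_skew w y]
  module

theorem conj_sb (w b c : Fin k → F) :
    (1 + 𝕘.root w) * 𝕘.sb b c * (1 - 𝕘.root w) = 𝕘.sb (𝕘.st w b) (𝕘.st w c) := by
  rw [sb, sb, ← conj_tau, ← conj_tau]
  noncomm_ring

include hH

/-- Transvections act on the factors of a pure root. -/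
theorem Over.Q_steps {X : Fin t → Matrix (Fin k) (Fin k) F} (h : Q (F := F) H (pureMat X : Mat F k t))
    (w : Fin t → Fin k → F) :
    Q (F := F) H (pureMat fun j => (1 + 𝕘.root (w j)) * X j * (1 - 𝕘.root (w j)) : Mat F k t) := by
  classical
  suffices ∀ s : Finset (Fin t), Q (F := F) H
      (pureMat fun j => if j ∈ s then (1 + 𝕘.root (w j)) * X j * (1 - 𝕘.root (w j)) else X j : Mat F k t) by
    simpa using this univ
  intro s
  induction s using Finset.induction with
  | empty => simpa using h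
  | insert i s hi ih =>
    obtain ⟨g, hg, hv⟩ := (hH.hroot i (w i)).2 1
    rw [one_smul] at hv
    have h1 := ih.map hg
    rw [inv_val_of g (hH.hroot i (w i)).sq hv, hv, ← sl_one i, ← sl_add, ← sl_sub, sl, sl, slotMat, slotMat,
      Aschbacher.pureMat_mul, Aschbacher.pureMat_mul] at h1
    convert h1 using 2
    funext j
    rcases eq_or_ne j i with rfl | hj
    · simp [hi]
    · simp [hj]

omit hH in
theorem Over.Q_perm (hp : ∀ π : Equiv.Perm (Fin t), ∃ g ∈ H, (g : Mat F k t) = factorPerm π)
    {X : Fin t → Matrix (Fin k) (Fin k) F} (h : Q (F := F) H (pureMat X : Mat F k t)) (π : Equiv.Perm (Fin t)) :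
    Q (F := F) H (pureMat fun j => X (π.symm j) : Mat F k t) := by
  obtain ⟨g, hg, hv⟩ := hp π
  have h1 := h.map hg
  rwa [hv, Aschbacher.factorPerm_conj, mul_assoc, ← hv, g.mul_inv, mul_one] at h1

/-- The merge. -/
theorem Over.merge {X X' Y : Fin t → Matrix (Fin k) (Fin k) F}
    (hX : Q (F := F) H (pureMat X : Mat F k t)) (hX' : Q (F := F) H (pureMat X' : Mat F k t))
    (R : Finset (Fin t)) (d : Fin t → Fin k → F) (p q : Fin t → F)
    (hin : ∀ j ∈ R, 𝕘.root (d j) * (X' j * X j) * 𝕘.root (d j) = p j • Y j ∧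
      𝕘.root (d j) * (X j * X' j) * 𝕘.root (d j) = q j • Y j)
    (hout : ∀ j, j ∉ R → X' j * X j = p j • Y j ∧ X j * X' j = q j • Y j)
    (h1 : ∃ l, X' l * X l * X' l = 0) (h2 : ∃ l, X l * X' l * X l = 0)
    {f : Fin t} (hf : f ∉ R) (hY : Y f * Y f = 0) (hpq : ∏ j, p j ≠ ∏ j, q j) :
    Q (F := F) H (pureMat Y : Mat F k t) := by
  classical
  have hzero : ∀ (Z : Fin t → Matrix (Fin k) (Fin k) F), (∃ l, Z l = 0) → (pureMat Z : Mat F k t) = 0 := by
    rintro Z ⟨l, hl⟩
    ext a c
    exact Finset.prod_eq_zero (mem_univ l) (by rw [hl]; rfl)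
  have hD := hX.bracket hX'
    (by rw [Aschbacher.pureMat_mul, Aschbacher.pureMat_mul]; exact hzero _ h1)
    (by rw [Aschbacher.pureMat_mul, Aschbacher.pureMat_mul]; exact hzero _ h2)
  rw [Aschbacher.pureMat_mul, Aschbacher.pureMat_mul] at hD
  let U : Finset (Fin t) → (Fin t → Matrix (Fin k) (Fin k) F) := fun s j =>
    if j ∈ s then 𝕘.root (d j) * (X' j * X j) * 𝕘.root (d j) else X' j * X j
  let V : Finset (Fin t) → (Fin t → Matrix (Fin k) (Fin k) F) := fun s j =>
    if j ∈ s then 𝕘.root (d j) * (X j * X' j) * 𝕘.root (d j) else X j * X' j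
  have hsl : ∀ s, f ∉ s → (pureMat (U s) - pureMat (V s) : Mat F k t) =
      sl f (Y f) * (p f • pureMat (Function.update (U s) f 1) - q f • pureMat (Function.update (V s) f 1)) := by
    intro s hs
    rw [pureMat_eq_sl_mul (U s) f, pureMat_eq_sl_mul (V s) f]
    simp only [U, V, hs, if_false, (hout f hf).1, (hout f hf).2, sl_smul, smul_mul_assoc, mul_sub, mul_smul_comm]
  have hoff : ∀ s, Off f (p f • (pureMat (Function.update (U s) f 1) : Mat F k t) -
      q f • pureMat (Function.update (V s) f 1)) := fun s => by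
    rw [sub_eq_add_neg]
    exact ((off_pureMat (Function.update_self f _ _)).smul _).add
      ((off_pureMat (Function.update_self f _ _)).smul _).neg
  have key : ∀ s, s ⊆ R → Q (F := F) H (pureMat (U s) - pureMat (V s) : Mat F k t) := by
    intro s
    induction s using Finset.induction with
    | empty => intro _; simpa [U, V] using hD
    | insert i s hi ih =>
      intro hs
      have hfi : i ≠ f := fun h => hf (h ▸ hs (mem_insert_self i s))
      have hfs : f ∉ s := fun h => hf (hs (mem_insert_of_mem h))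
      have h0 := ih fun j hj => hs (mem_insert_of_mem hj)
      rw [hsl s hfs] at h0
      have h3 := (hH.fam_ops hfi (d i) hY (hoff s) h0).2
      have e : ∀ W : Fin t → Matrix (Fin k) (Fin k) F,
          sl i (𝕘.root (d i)) * pureMat W * sl i (𝕘.root (d i)) =
            (pureMat (Function.update W i (𝕘.root (d i) * W i * 𝕘.root (d i))) : Mat F k t) := fun W => by
        rw [sl, slotMat, Aschbacher.pureMat_mul, Aschbacher.pureMat_mul]
        congr 1
        funext j
        rcases eq_or_ne j i with rfl | hj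
        · simp
        · simp [Function.update_of_ne hj]
      have eU : U (insert i s) = Function.update (U s) i (𝕘.root (d i) * U s i * 𝕘.root (d i)) := by
        funext j
        rcases eq_or_ne j i with rfl | hj
        · simp [U, hi]
        · simp [U, hj]
      have eV : V (insert i s) = Function.update (V s) i (𝕘.root (d i) * V s i * 𝕘.root (d i)) := by
        funext j
        rcases eq_or_ne j i with rfl | hj
        · simp [V, hi]
        · simp [V, hj]
      convert h3 using 1
      rw [hsl _ (by rw [Finset.mem_insert, not_or]; exact ⟨hfi.symm, hfs⟩), mul_sub (sl i _), sub_mul,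
        mul_smul_comm, smul_mul_assoc, mul_smul_comm, smul_mul_assoc, e, e, eU, eV,
        Function.update_of_ne hfi, Function.update_of_ne hfi, Function.update_comm hfi.symm,
        Function.update_comm hfi.symm]
  have h3 := key R subset_rfl
  have hU : (pureMat (U R) : Mat F k t) = (∏ j, p j) • pureMat Y := by
    rw [← pureMat_smul]
    congr 1
    funext j
    by_cases hj : j ∈ R
    · simp [U, hj, (hin j hj).1]
    · simp [U, hj, (hout j hj).1]
  have hV : (pureMat (V R) : Mat F k t) = (∏ j, q j) • pureMat Y := by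
    rw [← pureMat_smul]
    congr 1
    funext j
    by_cases hj : j ∈ R
    · simp [V, hj, (hin j hj).2]
    · simp [V, hj, (hout j hj).2]
  rw [hU, hV, ← sub_smul] at h3
  have h4 := h3.smul (∏ j, p j - ∏ j, q j)⁻¹
  rwa [smul_smul, inv_mul_cancel₀ (sub_ne_zero.2 hpq), one_smul] at h4

end Gram

end Cfsg.Agent.H24.Wreath
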