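import Cfsg.Agent.H24.Wreath.Pair
import Cfsg.Agent.H24.Wreath.Cent
import Cfsg.Agent.S0801

/-!
The pair lemma over the field with three elements, given the two sign lemmas.
-/

set_option autoImplicit false
set_option maxHeartbeats 1000000

namespace Cfsg.Agent.H24.Wreath.Pair3

open Matrix Polynomial
open Cfsg.Agent.H88
open Pair (Thin)

universe u v

variable {k : Type u} [Field k] {M : Type v} [AddCommGroup M] [Module k M]

theorem three_zero [Finite k] (h3 : Nat.card k = 3) : (3 : k) = 0 := by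
  haveI := Fintype.ofFinite k
  rw [Nat.card_eq_fintype_card] at h3
  have := FiniteField.cast_card_eq_zero k
  rw [h3] at this
  exact_mod_cast this

theorem two_ne [Finite k] (h3 : Nat.card k = 3) : (2 : k) ≠ 0 := fun h => one_ne_zero (α := k)
  (by linear_combination three_zero h3 - h)

theorem three_elems [Finite k] (h3 : Nat.card k = 3) (c : k) : c = 0 ∨ c = 1 ∨ c = -1 := by
  haveI := Fintype.ofFinite k
  rw [Nat.card_eq_fintype_card] at h3
  have h := FiniteField.pow_card c
  rw [h3] at h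
  have h' : c * ((c - 1) * (c + 1)) = 0 := by linear_combination h
  rcases mul_eq_zero.1 h' with h0 | h0
  · exact Or.inl h0
  rcases mul_eq_zero.1 h0 with h1 | h1
  · exact Or.inr (Or.inl (sub_eq_zero.1 h1))
  · exact Or.inr (Or.inr (eq_neg_of_add_eq_zero_left h1))

/-- Products of two root elements of residue one have order dividing four. -/
theorem four {K : Type*} [CommRing K] (h3 : (3 : K) = 0) : (uu (1 : K) * vv 1) ^ 4 = 1 := by
  set g := uu (1 : K) * vv 1 with hg
  have e : g * g = -1 := by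
    refine sl2_ext ?_ ?_ ?_ ?_ <;> simp [hg, sl2_mul] <;> first | linear_combination h3 | linear_combination (2 : K) * h3
  rw [show g ^ 4 = g * g * (g * g) by simp [pow_succ, mul_assoc], e]
  simp

/-- The exceptional products have order dividing ten. -/
theorem ten {K : Type*} [CommRing K] (h3 : (3 : K) = 0) {y : K} (hy : y * y = -1) : (uu (1 : K) * vv y) ^ 10 = 1 := by
  set g := uu (1 : K) * vv y with hg
  have e : g * g * (g * g) * g = -1 := by
    refine sl2_ext ?_ ?_ ?_ ?_ <;> simp [hg, sl2_mul] <;> grind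
  rw [show g ^ 10 = g * g * (g * g) * g * (g * g * (g * g) * g) by simp [pow_succ, mul_assoc], e]
  simp

theorem map_uu {S S' : Type*} [CommRing S] [CommRing S'] (f : S →+* S') (a : S) :
    SpecialLinearGroup.map f (uu a) = uu (f a) := by
  refine sl2_ext ?_ ?_ ?_ ?_ <;> simp [SpecialLinearGroup.map_apply_coe]

theorem map_vv {S S' : Type*} [CommRing S] [CommRing S'] (f : S →+* S') (a : S) :
    SpecialLinearGroup.map f (vv a) = vv (f a) := by
  refine sl2_ext ?_ ?_ ?_ ?_ <;> simp [SpecialLinearGroup.map_apply_coe]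

theorem weyl_eq {S : Type*} [CommRing S] {l : S} (hl : l * l = 1) :
    vv (-l * l) * (uu (-l) * vv l * uu (-l)) = uu (-l) * vv l * uu (-l) * uu 1 := by
  refine sl2_ext ?_ ?_ ?_ ?_ <;> simp [sl2_mul] <;> grind

theorem weyl_entry {S : Type*} [CommRing S] {x l : S} (hl : l * l = 1)
    (h : vv (-l * x) * (uu (-l) * vv x * uu (-l)) = uu (-l) * vv x * uu (-l) * uu 1) : x = l := by
  have h1 := congrArg (fun z : SpecialLinearGroup (Fin 2) S => z 0 1) h
  simp [sl2_mul] at h1
  grind

variable [FiniteDimensional k M] [Finite k] {G : Subgroup (LinearMap.GeneralLinearGroup k M)}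
  {A B : Module.End k M} (c : Coords A B)

local notation "R" => AdjoinRoot c.g

omit [Finite k] in
theorem Φ_scalar (a : R) : c.Φ (Matrix.scalar (Fin 2) a) = c.ev a := by
  have h1 : c.Φ (Matrix.scalar (Fin 2) a) = c.Φ (Matrix.scalar (Fin 2) 1) * c.ev a := by
    simp only [Coords.Φ, Fin.sum_univ_two, Matrix.scalar_apply, add_mul, mul_assoc, c.ev_mul]
    simp
  rw [h1, map_one, c.Φ_one, c.P_mul]

/-- The action on the part outside `P`. -/
theorem fix_of {p} (hp : p ∈ c.pairGroup) (hAP : A * c.P = A) (hBP : B * c.P = B) :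
    (p.1 : Module.End k M) * (1 - c.P) = 1 - c.P := by
  induction hp using Subgroup.closure_induction with
  | mem p hp =>
    rcases hp with ⟨t, rfl⟩ | ⟨t, rfl⟩
    · rw [oneAdd_val, add_mul, one_mul, smul_mul_assoc, mul_sub, mul_one, hAP, sub_self, smul_zero, add_zero]
    · rw [oneAdd_val, add_mul, one_mul, smul_mul_assoc, mul_sub, mul_one, hBP, sub_self, smul_zero, add_zero]
  | one => simp
  | mul p q _ _ hp hq => rw [Prod.fst_mul, Units.val_mul, mul_assoc, hq, hp]
  | inv p _ hp => conv_lhs => rw [← hp, ← mul_assoc, Prod.fst_inv, Units.inv_mul, one_mul]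

omit [Finite k] [FiniteDimensional k M] in
theorem val_of {p} (hp : p ∈ c.pairGroup) (hq : (p.1 : Module.End k M) * (1 - c.P) = 1 - c.P) :
    (p.1 : Module.End k M) = 1 - c.P + c.Φ (p.2 : Matrix (Fin 2) (Fin 2) R) := by
  rw [← (c.pairGroup_spec hp).2, ← hq, mul_sub, mul_one, sub_add_cancel]

/-- A scalar involution of the pair group other than one covers both maps. -/
theorem sign (h2 : (2 : k) ≠ 0) (hA : Rt G A) (hB : Rt G B) (hcA : Cent G A) (hcB : Cent G B) {p}
    (hp : p ∈ c.pairGroup) (hp2 : p.1 * p.1 = 1) (a : R) (hpa : (p.2 : Matrix (Fin 2) (Fin 2) R) = Matrix.scalar (Fin 2) a)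
    (ha : a * a = 1) (hne : a ≠ 1) :
    A * c.P = A ∧ B * c.P = B ∧ ∃ g ∈ G, (g : Module.End k M) = 1 - c.P - c.P := by
  obtain ⟨L, hL⟩ := c.nilGens_words
  obtain ⟨hcQ, hdev⟩ := c.pairGroup_dev hp
  set n := ((p.1 : Module.End k M) - 1) * (1 - c.P) with hn
  have hsq : (p.1 : Module.End k M) * p.1 = 1 := by rw [← Units.val_mul, hp2, Units.val_one]
  have hnn : n * n = (-2 : k) • n := by
    have hc : Commute ((p.1 : Module.End k M) - 1) (1 - c.P) := hcQ.sub_left (Commute.one_left _)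
    rw [hn, mul_assoc, ← mul_assoc (1 - c.P), ← hc.eq, mul_assoc _ (1 - c.P) (1 - c.P), c.Q_sq, ← mul_assoc,
      show ((p.1 : Module.End k M) - 1) * ((p.1 : Module.End k M) - 1) = (-2 : k) • ((p.1 : Module.End k M) - 1) by
        calc _ = (p.1 : Module.End k M) * p.1 - p.1 - (p.1 - 1) := by noncomm_ring
          _ = _ := by rw [hsq]; module, smul_mul_assoc]
  obtain ⟨j, hj⟩ := isNilpotent_of_mem_wordSpan hL hdev
  have hpow : ∀ j : ℕ, n ^ (j + 1) = (-2 : k) ^ j • n := fun j => by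
    induction j with
    | zero => simp
    | succ j ih => rw [pow_succ, ih, smul_mul_assoc, hnn, smul_smul, ← pow_succ]
  have hn0 : n = 0 := by
    have h1 := hpow j
    rw [pow_succ, show n ^ j = 0 from hj, zero_mul] at h1
    exact (smul_eq_zero.1 h1.symm).resolve_left (pow_ne_zero _ (neg_ne_zero.2 h2))
  have hval : (p.1 : Module.End k M) = 1 - c.P + c.ev a := by
    rw [val_of c hp (by rw [hn, sub_mul, one_mul, sub_eq_zero] at hn0; exact hn0), hpa, Φ_scalar]
  set i2 : R := algebraMap k R (2 : k)⁻¹ with hi2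
  have h22 : i2 * 2 = 1 := by
    rw [hi2, ← map_ofNat (algebraMap k R) 2, ← map_mul, inv_mul_cancel₀ h2, map_one]
  set ε : R := i2 * (1 - a) with hε
  have hεε : ε * ε = ε := by rw [hε]; linear_combination i2 * i2 * ha + i2 * (1 - a) * h22
  have hee : (p.1 : Module.End k M) = 1 - c.ev ε - c.ev ε := by
    rw [hval, show c.ev a = c.ev (1 - ε - ε) from congrArg _ (by rw [hε]; linear_combination (1 - a) * h22),
      map_sub, map_sub, Coords.P]
    abel
  have hε0 : ε ≠ 0 := fun h => hne (by linear_combination (-2 : R) * h + (2 : R) * hε + (1 - a) * h22)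
  have hgG : ∃ g ∈ G, (g : Module.End k M) = 1 - c.ev ε - c.ev ε := ⟨p.1, c.pairGroup_le hA hB hp, hee⟩
  have hCξ : (A * B + B * A) * c.ev c.xi = c.P := by simpa using c.pow_mul_xi 1
  have hPe : c.P * c.ev ε = c.ev ε := c.P_mul ε
  have hXP : ∀ X, c.ev ε * X = X → X = (A * B + B * A) * c.ev c.xi * X := fun X h => by
    rw [hCξ]; nth_rw 2 [← h]; rw [← mul_assoc, hPe, h]
  have hA1 : c.ev ε * A = A := by
    refine hcA _ (by rw [c.ev_mul, hεε]) (c.commA ε).eq.symm hgG (fun h0 => hε0 ?_) fun X h hX => ⟨B * c.ev c.xi * X, ?_⟩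
    · rw [← (c.commA ε).eq, ← c.Φ_upper] at h0
      simpa using congrFun (congrFun (c.Φ_inj h0) 0) 1
    · conv_lhs => rw [hXP X h]
      rw [add_mul, add_mul, mul_assoc B A, (c.commA _).eq, mul_assoc B, mul_assoc _ A X, hX]
      simp [mul_assoc]
  have hAε : A * c.ev ε = A := (c.commA ε).eq.trans hA1
  have hAP : A * c.P = A := by
    nth_rw 1 [← hAε]
    rw [mul_assoc, Coords.P, c.ev_mul, mul_one, hAε]
  have hε1 : ε = 1 := by
    have h1 : c.Φ !![0, 1 - ε; 0, 0] = 0 := by
      rw [c.Φ_upper, map_sub, mul_sub, ← Coords.P, hAP, hAε, sub_self]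
    exact (sub_eq_zero.1 (by simpa using congrFun (congrFun (c.Φ_inj h1) 0) 1)).symm
  rw [hε1] at hgG
  refine ⟨hAP, ?_, hgG⟩
  have hB1 : c.ev ε * B = B := by
    refine hcB _ (by rw [c.ev_mul, hεε]) (c.commB ε).eq.symm (by rw [hε1]; exact hgG) (fun h0 => ?_)
      fun X h hX => ⟨A * c.ev c.xi * X, ?_⟩
    · rw [← (c.commB ε).eq, ← c.Φ_lower, hε1, mul_one] at h0
      refine hε0 ?_
      have h5 : AdjoinRoot.root c.g = 0 := by simpa using congrFun (congrFun (c.Φ_inj h0) 1) 0
      have h6 := c.root_mul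
      rw [h5, zero_mul] at h6
      rw [← mul_one ε, ← h6, mul_zero]
    · conv_lhs => rw [hXP X h]
      rw [add_mul, add_mul, mul_assoc A B, (c.commB _).eq, mul_assoc A, mul_assoc _ B X, hX]
      simp [mul_assoc]
  rw [hε1, ← Coords.P] at hB1
  exact ((c.commB 1).eq).trans hB1

omit [FiniteDimensional k M] in
/-- The residue images of the pair group. -/
theorem residue (h3 : Nat.card k = 3) {K : Type u} [Field K] [Finite K] [Algebra k K] (π : R →ₐ[k] K)
    (hπ : Function.Surjective π) :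
    let ψ := ((SpecialLinearGroup.map π.toRingHom).comp (MonoidHom.snd _ _)).comp c.pairGroup.subtype
    (2 ∣ Nat.card ψ.range) ∧ (ψ.range = ⊤ ∨ π (AdjoinRoot.root c.g) * π (AdjoinRoot.root c.g) = -1) := by
  intro ψ
  haveI := Fintype.ofFinite K
  set y := π (AdjoinRoot.root c.g) with hy
  have h2K : (2 : K) ≠ 0 := by
    rw [← map_ofNat (algebraMap k K) 2]; exact (_root_.map_ne_zero _).2 (two_ne h3)
  have hy0 : y ≠ 0 := ((IsUnit.of_mul_eq_one c.xi c.root_mul).map π).ne_zero
  have hgen : Subfield.closure ({y} : Set K) = ⊤ := by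
    rw [eq_top_iff]
    rintro z -
    obtain ⟨r, rfl⟩ := hπ z
    induction r using AdjoinRoot.induction_on with
    | ih f =>
      have hk : ∀ c₀ : k, algebraMap k K c₀ ∈ Subfield.closure ({y} : Set K) := fun c₀ => by
        rcases three_elems h3 c₀ with rfl | rfl | rfl
        · rw [map_zero]; exact Subfield.zero_mem _
        · rw [map_one]; exact Subfield.one_mem _
        · rw [map_neg, map_one]; exact Subfield.neg_mem _ (Subfield.one_mem _)
      induction f using Polynomial.induction_on' with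
      | add f g hf hg => rw [map_add, map_add]; exact Subfield.add_mem _ hf hg
      | monomial n c₀ =>
        rw [← Polynomial.C_mul_X_pow_eq_monomial, map_mul, map_pow, AdjoinRoot.mk_X, AdjoinRoot.mk_C, map_mul,
          map_pow, ← hy]
        refine Subfield.mul_mem _ ?_ (Subfield.pow_mem _ (Subfield.subset_closure (Set.mem_singleton y)) _)
        rw [← AdjoinRoot.algebraMap_eq, π.commutes]
        exact hk c₀
  let J : SpecialLinearGroup (Fin 2) K := uu 1 * vv (-1) * uu 1
  let D := ψ.range.map (MulAut.conj J).toMonoidHom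
  have hJinv : J⁻¹ = uu (-1) * vv 1 * uu (-1) := by
    simp only [J, _root_.mul_inv_rev, uu_inv, vv_inv, neg_neg, mul_assoc]
  have hlo : Linear.Dickson.loSL (1 : K) ∈ D := by
    refine ⟨_, ⟨⟨_, c.genA_mem (-1)⟩, rfl⟩, ?_⟩
    show J * SpecialLinearGroup.map π.toRingHom (uu (algebraMap k R (-1))) * J⁻¹ = _
    rw [map_uu, hJinv, show π.toRingHom (algebraMap k R (-1)) = -1 by rw [map_neg, map_neg, map_one, map_one]]
    refine sl2_ext ?_ ?_ ?_ ?_ <;> simp [sl2_mul, J, Linear.Dickson.loSL_coe]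
  have hup : Linear.upSL y ∈ D := by
    refine ⟨_, ⟨⟨_, c.genB_mem (-1)⟩, rfl⟩, ?_⟩
    show J * SpecialLinearGroup.map π.toRingHom (vv (algebraMap k R (-1) * AdjoinRoot.root c.g)) * J⁻¹ = _
    rw [map_vv, hJinv, show π.toRingHom (algebraMap k R (-1) * AdjoinRoot.root c.g) = -y by
      rw [map_mul, map_neg, map_neg, map_one, map_one, neg_one_mul]; rfl]
    refine sl2_ext ?_ ?_ ?_ ?_ <;> simp [sl2_mul, J, Linear.upSL_coe]
  have hle : Subgroup.closure ({Linear.Dickson.loSL 1, Linear.upSL y} : Set (SpecialLinearGroup (Fin 2) K)) ≤ D := by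
    rw [Subgroup.closure_le]
    rintro _ (rfl | rfl) <;> assumption
  have hcard : Nat.card D = Nat.card ψ.range :=
    (Nat.card_congr (ψ.range.equivMapOfInjective _ (MulAut.conj J).injective).toEquiv).symm
  rcases Linear.Dickson.two_transvections h2K hy0 hgen with ⟨htop, -⟩ | ⟨-, hsq, h120⟩
  · rw [htop, top_le_iff] at hle
    have htop' : ψ.range = ⊤ := by
      refine Subgroup.eq_top_of_card_eq _ ?_
      rw [← hcard, hle, Subgroup.card_top]
    refine ⟨?_, Or.inl htop'⟩
    rw [htop', Subgroup.card_top]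
    have hord : orderOf (-1 : SpecialLinearGroup (Fin 2) K) = 2 := by
      refine orderOf_eq_prime (by rw [pow_two, neg_mul_neg, mul_one]) fun h => h2K ?_
      have := congrArg (fun z : SpecialLinearGroup (Fin 2) K => z 0 0) h
      simp at this
      linear_combination -this
    have hd := orderOf_dvd_natCard (-1 : SpecialLinearGroup (Fin 2) K)
    rwa [hord] at hd
  · refine ⟨?_, Or.inr (by rw [← pow_two]; exact hsq)⟩
    rw [← hcard]
    exact (show 2 ∣ 120 by norm_num).trans (h120 ▸ Subgroup.card_dvd_of_le hle)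

/-- An involution of the pair group is a scalar other than one. -/
theorem exists_involution (h3 : Nat.card k = 3) :
    ∃ p ∈ c.pairGroup, p.1 * p.1 = 1 ∧ ∃ a : R, (p.2 : Matrix (Fin 2) (Fin 2) R) = Matrix.scalar (Fin 2) a ∧
      a * a = 1 ∧ a ≠ 1 := by
  have : Module.Finite k R := (AdjoinRoot.powerBasis c.monic.ne_zero).finite
  have : Finite R := Module.finite_of_finite k
  have : Finite (Module.End k M) := Module.finite_of_finite k
  obtain ⟨m, hm⟩ : ∃ m : Ideal R, m.IsMaximal := by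
    have : Nontrivial R := AdjoinRoot.nontrivial c.g
      (fun hd => c.not_unit (isUnit_iff_degree_eq_zero.2 hd))
    exact Ideal.exists_maximal R
  letI := Ideal.Quotient.field m
  have : Finite (R ⧸ m) := Finite.of_surjective _ Ideal.Quotient.mk_surjective
  obtain ⟨hev, -⟩ := residue c h3 (Ideal.Quotient.mkₐ k m) (Ideal.Quotient.mkₐ_surjective k m)
  have h2c : 2 ∣ Nat.card c.pairGroup := hev.trans (Subgroup.card_range_dvd _)
  have : Fact (Nat.Prime 2) := ⟨Nat.prime_two⟩
  obtain ⟨⟨p, hp⟩, hord⟩ := exists_prime_orderOf_dvd_card' 2 h2c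
  have hpp : p * p = 1 := by
    have := pow_orderOf_eq_one (⟨p, hp⟩ : c.pairGroup)
    rw [hord, pow_two] at this
    exact congrArg Subtype.val this
  have h2R : IsUnit (2 : R) := by
    rw [← map_ofNat (algebraMap k R) 2]; exact (Ne.isUnit (two_ne h3)).map _
  have hq : p.2⁻¹ = p.2 := inv_eq_of_mul_eq_one_right (congrArg Prod.snd hpp)
  obtain ⟨i0, -, i2, i3⟩ := sl2_inv p.2
  rw [hq] at i0 i2 i3
  have z1 : p.2 0 1 = 0 := h2R.mul_right_eq_zero.1 (by linear_combination i2)
  have z2 : p.2 1 0 = 0 := h2R.mul_right_eq_zero.1 (by linear_combination i3)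
  have hsc : (p.2 : Matrix (Fin 2) (Fin 2) R) = Matrix.scalar (Fin 2) (p.2 0 0) := by
    ext i j; fin_cases i <;> fin_cases j <;> simp [z1, z2, ← i0]
  refine ⟨p, hp, congrArg Prod.fst hpp, p.2 0 0, hsc, ?_, fun ha => ?_⟩
  · linear_combination sl2_det p.2 + p.2 0 0 * i0 + p.2 0 1 * z2
  · have h2p : p.2 = 1 := Subtype.ext (by rw [hsc, ha, map_one]; rfl)
    have hp1 : (p.1 : Module.End k M) = 1 := by
      have hd := (c.pairGroup_dev hp).2
      obtain ⟨L, hL⟩ := c.nilGens_words
      obtain ⟨hcQ, hdev⟩ := c.pairGroup_dev hp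
      set u := (p.1 : Module.End k M) with hu
      have huP : u * c.P = c.P := by rw [hu, (c.pairGroup_spec hp).2, h2p]; exact c.Φ_one
      have hsq : u * u = 1 := by rw [hu, ← Units.val_mul, ← Prod.fst_mul, hpp]; rfl
      have e : (u - 1) * (1 - c.P) = u - 1 := by rw [sub_mul, one_mul, mul_sub, mul_one, huP]; abel
      rw [e] at hdev
      obtain ⟨j, hj⟩ := isNilpotent_of_mem_wordSpan hL hdev
      have hun : IsUnit (u + 1) := by
        have h4 : u + 1 = algebraMap k (Module.End k M) 2 + (u - 1) := by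
          rw [map_ofNat, ← one_add_one_eq_two]; abel
        rw [h4]
        exact IsNilpotent.isUnit_add_left_of_commute ⟨j, hj⟩ ((Ne.isUnit (two_ne h3)).map _)
          (Algebra.commute_algebraMap_left _ _).symm
      refine sub_eq_zero.1 (hun.mul_right_eq_zero.1 ?_)
      calc (u + 1) * (u - 1) = u * u - 1 := by noncomm_ring
        _ = 0 := by rw [hsq, sub_self]
    have : p = 1 := Prod.ext (Units.ext hp1) h2p
    subst this
    rw [show (⟨1, hp⟩ : c.pairGroup) = 1 from rfl, orderOf_one] at hord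
    norm_num at hord

/-- The pair lemma. -/
theorem pair (h3 : Nat.card k = 3) (hA : Rt G A) (hB : Rt G B) (hthin : Thin G A) (hcA : Cent G A) (hcB : Cent G B)
    (hslim : Slim k G A) (c : Coords A B) : ∃ l : k, A * B * A = l • A := by
  classical
  have h30 := three_zero h3
  obtain ⟨p₀, hp₀, hp₀2, a₀, ha₀, ha₀2, ha₀1⟩ := exists_involution c h3
  obtain ⟨hAP, hBP, hgG⟩ := sign c (two_ne h3) hA hB hcA hcB hp₀ hp₀2 a₀ ha₀ ha₀2 ha₀1
  have : Module.Finite k (AdjoinRoot c.g) := (AdjoinRoot.powerBasis c.monic.ne_zero).finite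
  have : Finite (AdjoinRoot c.g) := Module.finite_of_finite k
  have hnt : Nontrivial (AdjoinRoot c.g) := AdjoinRoot.nontrivial c.g
    (fun hd => c.not_unit (isUnit_iff_degree_eq_zero.2 hd))
  set x : AdjoinRoot c.g := AdjoinRoot.root c.g with hx
  set al := algebraMap k (AdjoinRoot c.g)
  set Γ := c.pairGroup.map (MonoidHom.snd _ _) with hΓ
  have huu : ∀ t : k, uu (al t) ∈ Γ := fun t => ⟨_, c.genA_mem t, rfl⟩
  have hvv : ∀ t : k, vv (al t * x) ∈ Γ := fun t => ⟨_, c.genB_mem t, rfl⟩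
  have hone : uu (1 : AdjoinRoot c.g) ∈ Γ := by simpa [al] using huu 1
  have hinj : ∀ {p q}, p ∈ c.pairGroup → q ∈ c.pairGroup → p.2 = q.2 → p = q := fun {p q} hp hq h =>
    Prod.ext (Units.ext (by rw [val_of c hp (fix_of c hp hAP hBP), val_of c hq (fix_of c hq hAP hBP), h])) h
  have hA' : ∀ s, uu s ∈ Γ → ∃ cc : k, s = al cc := by
    rintro s ⟨p, hp, hps⟩
    change p.2 = uu s at hps
    have e : (p.1 : Module.End k M) = 1 + A * c.ev s := by
      rw [val_of c hp (fix_of c hp hAP hBP), hps, c.Φ_uu]; abel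
    have hZ : A * c.ev s = A * (B * c.ev (c.xi * s)) * A := by
      rw [mul_assoc, mul_assoc, ← (c.commA _).eq, ← mul_assoc B, ← mul_assoc, ← mul_assoc A B, ← c.A_C, mul_assoc,
        c.C_mul_ev, ← mul_assoc (AdjoinRoot.root c.g), c.root_mul, one_mul]
    obtain ⟨cc, hcc⟩ := hthin (B * c.ev (c.xi * s)) ⟨p.1, c.pairGroup_le hA hB hp, by rw [e, hZ]⟩
    rw [← hZ] at hcc
    refine ⟨cc, ?_⟩
    have h1 : c.Φ !![0, s - al cc; 0, 0] = 0 := by
      rw [c.Φ_upper, map_sub, mul_sub, hcc, c.ev_algebraMap, mul_smul_comm, hAP, sub_self]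
    exact sub_eq_zero.1 (by simpa using congrFun (congrFun (c.Φ_inj h1) 0) 1)
  have hupper : ∀ g ∈ Γ, g 1 0 = 0 → g 0 0 = g 1 1 ∧ g 0 0 * g 0 0 = 1 ∧ ∃ b : k, g 0 1 = al b := by
    intro g hg hc
    have hd := sl2_det g
    rw [hc, mul_zero, sub_zero] at hd
    obtain ⟨p, hp, hpg⟩ := hg
    change p.2 = g at hpg
    have h1 : uu (g 0 0 ^ 2) ∈ Γ := by
      have := sq_mul_mem_upperParam (Γ := Γ) (⟨p, hp, hpg⟩ : g ∈ Γ) hc (show (1 : AdjoinRoot c.g) ∈ upperParam Γ from hone)
      rwa [mul_one] at this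
    obtain ⟨κ, hκ⟩ := hA' _ h1
    have hκ0 : κ ≠ 0 := fun h => by
      rw [h, map_zero] at hκ
      exact not_isUnit_zero (hκ ▸ (IsUnit.of_mul_eq_one _ hd).pow 2)
    have hconj : g * uu (al 1) = uu (al κ) * g := by
      rw [← hκ, map_one, ← mul_one (g 0 0 ^ 2), ← conj_uu_of_c_eq_zero hc, inv_mul_cancel_right]
    have hpair := hinj (c.pairGroup.mul_mem hp (c.genA_mem 1)) (c.pairGroup.mul_mem (c.genA_mem κ) hp)
      (by simp only [Prod.snd_mul, hpg]; exact hconj)
    have h4 := congrArg (fun z : (Module.End k M)ˣ × _ => (z.1 : Module.End k M)) hpair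
    simp only [Prod.fst_mul, Units.val_mul, oneAdd_val, one_smul, mul_add, mul_one, add_mul, one_mul,
      smul_mul_assoc, add_right_inj] at h4
    have hCξ : (A * B + B * A) * c.ev c.xi = c.P := by simpa using c.pow_mul_xi 1
    obtain ⟨l, hl⟩ := hslim c.P c.P_sq (c.commA 1).eq.symm hgG
      (fun h0 => c.A_P_ne_zero ((c.commA 1).eq.trans h0))
      (fun X h hX => ⟨B * c.ev c.xi * X, by
        conv_lhs => rw [← h, ← hCξ]
        rw [add_mul, add_mul, mul_assoc B A, (c.commA _).eq, mul_assoc B, mul_assoc _ A X, hX]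
        simp [mul_assoc]⟩) p.1 (c.pairGroup_le hA hB hp) κ hκ0 h4 (fix_of c hp hAP hBP)
    have h5 : c.Φ ((g : Matrix (Fin 2) (Fin 2) (AdjoinRoot c.g)) * !![0, 1; 0, 0]) = c.Φ !![0, al l; 0, 0] := by
      rw [c.Φ_mul, c.Φ_upper, c.Φ_upper, c.ev_algebraMap, mul_smul_comm, ← hpg, ← (c.pairGroup_spec hp).2, mul_assoc,
        ← mul_assoc c.P, show c.P * A = A * c.P from (c.commA 1).eq.symm, mul_assoc A, ← Coords.P, c.P_sq, hAP, hl]
    have h6 : c.Φ ((g : Matrix (Fin 2) (Fin 2) (AdjoinRoot c.g)) * !![0, 1; 0, 0] - !![0, al l; 0, 0]) = 0 := by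
      have := c.Φ_add ((g : Matrix (Fin 2) (Fin 2) (AdjoinRoot c.g)) * !![0, 1; 0, 0] - !![0, al l; 0, 0]) !![0, al l; 0, 0]
      rw [sub_add_cancel, h5] at this
      exact right_eq_add.1 this
    have hl' : g 0 0 = al l := by
      have := congrFun (congrFun (c.Φ_inj h6) 0) 1
      simpa [Matrix.mul_apply, Fin.sum_univ_two, sub_eq_zero] using this
    have hpm : g 0 0 = 1 ∨ g 0 0 = -1 := by
      rcases three_elems h3 l with rfl | rfl | rfl
      · rw [hl', map_zero, zero_mul] at hd; exact absurd hd zero_ne_one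
      · exact Or.inl (by rw [hl', map_one])
      · exact Or.inr (by rw [hl', map_neg, map_one])
    have ha : g 0 0 * g 0 0 = 1 := by rcases hpm with h | h <;> rw [h] <;> ring
    have had : g 0 0 = g 1 1 := by linear_combination g 1 1 * ha - g 0 0 * hd
    refine ⟨had, ha, ?_⟩
    rcases hpm with h | h
    · refine hA' _ ?_
      have e : g = uu (g 0 1) := sl2_ext (by simp [h]) (by simp) (by simp [hc]) (by simp [← had, h])
      rw [← e]; exact ⟨p, hp, hpg⟩
    · have h30R : (3 : AdjoinRoot c.g) = 0 := by rw [← map_ofNat al 3, h30, map_zero]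
      have e3 : g * g * g * g = uu (-g 0 1) := by
        refine sl2_ext ?_ ?_ ?_ ?_ <;> simp [sl2_mul, hc, h, ← had] <;> linear_combination (-g 0 1) * h30R
      obtain ⟨b, hb⟩ := hA' (-g 0 1) (e3 ▸ (Γ.mul_mem (Γ.mul_mem (Γ.mul_mem ⟨p, hp, hpg⟩ ⟨p, hp, hpg⟩) ⟨p, hp, hpg⟩) ⟨p, hp, hpg⟩))
      exact ⟨-b, by rw [map_neg, ← hb, neg_neg]⟩
  -- the Sylow subgroup
  let U : Subgroup Γ :=
    { carrier := {g | ∃ b : k, g.1 = uu (al b)}
      one_mem' := ⟨0, by simp [H88.uu_zero]⟩
      mul_mem' := by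
        rintro g h ⟨b, hb⟩ ⟨d, hd⟩
        exact ⟨b + d, by rw [Subgroup.coe_mul, hb, hd, ← uu_add, map_add]⟩
      inv_mem' := by
        rintro g ⟨b, hb⟩
        exact ⟨-b, by rw [Subgroup.coe_inv, hb, uu_inv, map_neg]⟩ }
  have : Fact (Nat.Prime 3) := ⟨Nat.prime_three⟩
  have h30R : (3 : AdjoinRoot c.g) = 0 := by rw [← map_ofNat al 3, h30, map_zero]
  have hU3 : ∀ g ∈ U, g ^ 3 = 1 := by
    rintro g ⟨b, hb⟩
    refine Subtype.ext ?_
    push_cast
    rw [hb, Rigid.uu_pow, Nat.cast_ofNat, h30R, zero_mul, H88.uu_zero]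
  have hU : IsPGroup 3 U := fun g => ⟨1, by rw [pow_one]; exact Subtype.ext (by simpa using hU3 g g.2)⟩
  obtain ⟨T, hT⟩ := hU.exists_le_sylow
  have hu1 : (⟨uu 1, hone⟩ : Γ) ∈ U := ⟨1, by simp [al]⟩
  have hcen : ∀ (g : Γ) (b : k), b ≠ 0 → g.1 * uu (al b) = uu (al b) * g.1 → (∃ n : ℕ, g ^ 3 ^ n = 1) → g ∈ U := by
    intro g b hb hg ⟨n, hn⟩
    have hs : IsUnit (al b) := (Ne.isUnit hb).map al
    obtain ⟨d, hd⟩ := (hupper g.1 g.2 (Rigid.of_comm_uu hs hg).1).2.2
    exact ⟨d, by rw [← hd]; exact Rigid.eq_uu hs hg (Odd.pow (by decide : Odd 3)) (by simpa using congrArg Subtype.val hn)⟩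
  have hTU : ∀ g ∈ (T : Subgroup Γ), g ∈ U := by
    intro g hg
    have hnt : Nontrivial (T : Subgroup Γ) := ⟨⟨1, ⟨_, hT hu1⟩, fun h => by
      have := congrArg (fun z : (T : Subgroup Γ) => (z.1.1 : SpecialLinearGroup (Fin 2) (AdjoinRoot c.g)) 0 1) h
      simp at this⟩⟩
    have := T.isPGroup'.center_nontrivial
    obtain ⟨z, hz⟩ := exists_ne (1 : Subgroup.center (T : Subgroup Γ))
    have hcomm : ∀ y : (T : Subgroup Γ), y.1.1 * z.1.1.1 = z.1.1.1 * y.1.1 := fun y =>
      congrArg (fun w : (T : Subgroup Γ) => (w.1 : SpecialLinearGroup (Fin 2) (AdjoinRoot c.g))) (Subgroup.mem_center_iff.1 z.2 y)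
    obtain ⟨n, hn⟩ := T.2 z.1
    obtain ⟨b, hb⟩ := hcen z.1.1 1 one_ne_zero (by simpa [al] using (hcomm ⟨_, hT hu1⟩).symm)
      ⟨n, by simpa using congrArg Subtype.val hn⟩
    have hb0 : b ≠ 0 := fun h => hz (Subtype.ext (Subtype.ext (Subtype.ext (by rw [hb, h, map_zero, H88.uu_zero]; rfl))))
    obtain ⟨n', hn'⟩ := T.2 ⟨g, hg⟩
    refine hcen g b hb0 ?_ ⟨n', by simpa using congrArg Subtype.val hn'⟩
    rw [← hb]; exact hcomm ⟨g, hg⟩
  have hTU' : (T : Subgroup Γ) = U := le_antisymm hTU hT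
  have hNC : Subgroup.normalizer ((T : Subgroup Γ) : Set Γ) ≤ Subgroup.centralizer ((T : Subgroup Γ) : Set Γ) := by
    intro g hg
    rw [Subgroup.mem_centralizer_iff]
    rw [hTU'] at hg ⊢
    obtain ⟨b, hb⟩ := (Subgroup.mem_normalizer_iff.1 hg ⟨uu 1, hone⟩).1 hu1
    simp at hb
    have e : g.1 * uu 1 = uu (al b) * g.1 := by rw [← hb, inv_mul_cancel_right]
    have hb0 : b ≠ 0 := fun h => by
      rw [h, map_zero, H88.uu_zero, one_mul, mul_eq_left] at e
      have := congrArg (fun z : SpecialLinearGroup (Fin 2) (AdjoinRoot c.g) => z 0 1) e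
      simp at this
    have e1 := congrArg (fun z : SpecialLinearGroup (Fin 2) (AdjoinRoot c.g) => z 0 0) e
    have e2 := congrArg (fun z : SpecialLinearGroup (Fin 2) (AdjoinRoot c.g) => z 0 1) e
    simp [sl2_mul] at e1 e2
    have hc : g.1 1 0 = 0 := ((Ne.isUnit hb0).map al).mul_right_eq_zero.1 e1
    obtain ⟨had, ha, -⟩ := hupper g.1 g.2 hc
    rintro y ⟨d, hd⟩
    refine Subtype.ext ?_
    rw [Subgroup.coe_mul, Subgroup.coe_mul, hd]
    refine sl2_ext ?_ ?_ ?_ ?_ <;> simp [sl2_mul, hc, ← had] <;> ring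
  set χ := MonoidHom.transferSylow T hNC with hχ
  have hχ3 : ∀ g : Γ, χ g ^ 3 = 1 := fun g => Subtype.ext (by
    rw [SubmonoidClass.coe_pow]; exact hU3 _ (hTU _ (χ g).2))
  have hχ0 : χ ⟨uu 1, hone⟩ ≠ 1 := fun h => by
    have hd := MonoidHom.ker_transferSylow_disjoint T hNC (T : Subgroup Γ) T.isPGroup'
    have := (Subgroup.disjoint_def.1 hd) (MonoidHom.mem_ker.2 h) (hT hu1)
    have := congrArg (fun z : Γ => (z.1 : SpecialLinearGroup (Fin 2) (AdjoinRoot c.g)) 0 1) this
    simp at this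
  have hcop : ∀ {g : Γ} {n : ℕ}, Nat.Coprime n 3 → χ g ^ n = 1 → χ g = 1 := fun {g n} hn h => by
    have h1 : orderOf (χ g) ∣ Nat.gcd n 3 := Nat.dvd_gcd (orderOf_dvd_of_pow_eq_one h) (orderOf_dvd_of_pow_eq_one (hχ3 g))
    rw [hn.gcd_eq_one, Nat.dvd_one, orderOf_eq_one_iff] at h1
    exact h1
  -- kernels of residue maps
  have hker : ∀ (K : Type u) [Field K] [Algebra k K] (π : AdjoinRoot c.g →ₐ[k] K) (g : Γ),
      SpecialLinearGroup.map π.toRingHom g.1 = 1 → ¬ 3 ∣ orderOf g := by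
    intro K _ _ π g hg hdvd
    set h := g ^ (orderOf g / 3) with hh
    have ho : orderOf h = 3 := by
      rw [hh, orderOf_pow_orderOf_div (orderOf_pos g).ne' hdvd]
    have hp : IsPGroup 3 (Subgroup.zpowers h) := IsPGroup.of_card (n := 1) (by rw [Nat.card_zpowers, ho, pow_one])
    obtain ⟨S, hS⟩ := hp.exists_le_sylow
    obtain ⟨u, rfl⟩ := MulAction.exists_smul_eq Γ T S
    have h1 := hS (Subgroup.mem_zpowers h)
    rw [Sylow.coe_subgroup_smul, Subgroup.mem_pointwise_smul_iff_inv_smul_mem] at h1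
    obtain ⟨b, hb⟩ := hTU _ h1
    simp at hb
    have h2 := congrArg (SpecialLinearGroup.map π.toRingHom) hb
    rw [map_mul, map_mul, hh, Subgroup.coe_pow, map_pow, hg, one_pow, mul_one, ← map_mul, inv_mul_cancel, map_one] at h2
    have h5 := congrArg (fun z : SpecialLinearGroup (Fin 2) K => z 0 1) h2
    have hπal : π (al b) = algebraMap k K b := π.commutes b
    have hb0 : b = 0 := by
      simp [SpecialLinearGroup.map_apply_coe, hπal, -AdjoinRoot.algebraMap_eq] at h5
      exact (algebraMap k K).injective (by rw [map_zero, ← h5])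
    rw [hb0, map_zero, H88.uu_zero] at hb
    have h6 : h = 1 := Subtype.ext (by
      have := congrArg (fun z => u.1 * z * u.1⁻¹) hb
      simpa [mul_assoc] using this)
    rw [h6, orderOf_one] at ho
    norm_num at ho
  have hkill : ∀ (K : Type u) [Field K] [Algebra k K] (π : AdjoinRoot c.g →ₐ[k] K) (g : Γ),
      SpecialLinearGroup.map π.toRingHom g.1 = 1 → χ g = 1 := fun K _ _ π g hg =>
    hcop ((Nat.prime_three.coprime_iff_not_dvd.2 (hker K π g hg)).symm) (by rw [← map_pow, pow_orderOf_eq_one, map_one])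
  -- residues
  set gx : k → Γ := fun σ => ⟨vv (al σ * x), hvv σ⟩ with hgx
  have hχv : ∀ σ : k, χ (gx (-σ)) = (χ (gx σ))⁻¹ := fun σ => by
    rw [← map_inv]
    congr 1
    refine Subtype.ext ?_
    simp [hgx, vv_inv]
  have hcontra : χ ⟨uu 1, hone⟩ * χ (gx 1) = 1 → χ ⟨uu 1, hone⟩ * χ (gx (-1)) = 1 → False := fun h1 h2 => by
    rw [hχv, mul_inv_eq_one] at h2
    rw [← h2, ← pow_two] at h1
    exact hχ0 (hcop (by decide) h1)
  have hres : ∀ (K : Type u) [Field K] [Algebra k K] (π : AdjoinRoot c.g →ₐ[k] K), Function.Surjective π →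
      ∃ l : k, (l = 1 ∨ l = -1) ∧ π x = algebraMap k K l ∧ χ ⟨uu 1, hone⟩ * χ (gx l) = 1 := by
    intro K _ _ π hπ
    have : Finite K := Finite.of_surjective π hπ
    have hK3 : (3 : K) = 0 := by rw [← map_ofNat (algebraMap k K) 3, h30, map_zero]
    have hmap : ∀ σ : k, SpecialLinearGroup.map π.toRingHom ((⟨uu 1, hone⟩ * gx σ : Γ) : SpecialLinearGroup (Fin 2) _) =
        uu 1 * vv (algebraMap k K σ * π x) := fun σ => by
      have hπal : π (al σ) = algebraMap k K σ := π.commutes σ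
      refine sl2_ext ?_ ?_ ?_ ?_ <;> simp [hgx, SpecialLinearGroup.map_apply_coe, sl2_mul, hπal]
    have hord : ∀ (σ : k) (n : ℕ), Nat.Coprime n 3 → (uu (1 : K) * vv (algebraMap k K σ * π x)) ^ n = 1 →
        χ ⟨uu 1, hone⟩ * χ (gx σ) = 1 := fun σ n hn h => by
      rw [← map_mul]
      refine hcop hn ?_
      rw [← map_pow]
      exact hkill K π _ (by rw [Subgroup.coe_pow, map_pow, hmap, h])
    rcases (residue c h3 π hπ).2 with htop | hex
    · let f : Γ →* SpecialLinearGroup (Fin 2) K := (SpecialLinearGroup.map π.toRingHom).comp Γ.subtype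
      have hf : Function.Surjective f := fun y => by
        obtain ⟨p, hp⟩ := (htop ▸ Subgroup.mem_top y : y ∈ MonoidHom.range _)
        exact ⟨⟨p.1.2, p.1, p.2, rfl⟩, hp⟩
      let UK : Subgroup (SpecialLinearGroup (Fin 2) K) :=
        { carrier := Set.range (uu : K → SpecialLinearGroup (Fin 2) K)
          one_mem' := ⟨0, H88.uu_zero⟩
          mul_mem' := by rintro _ _ ⟨a, rfl⟩ ⟨b, rfl⟩; exact ⟨a + b, uu_add a b⟩
          inv_mem' := by rintro _ ⟨a, rfl⟩; exact ⟨-a, (uu_inv a).symm⟩ }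
      have hUK : IsPGroup 3 UK := fun g => ⟨1, by
        obtain ⟨a, ha⟩ := g.2
        refine Subtype.ext ?_
        rw [pow_one]
        push_cast
        rw [← ha, Rigid.uu_pow, Nat.cast_ofNat, hK3, zero_mul, H88.uu_zero]⟩
      obtain ⟨SK, hSK⟩ := hUK.exists_le_sylow
      have hc1 : Nat.card K ≤ Nat.card SK := by
        refine Nat.card_le_card_of_injective (fun a => ⟨uu a, hSK ⟨a, rfl⟩⟩) fun a b h => ?_
        exact H88.uu_injective (congrArg Subtype.val h)
      have hc2 : Nat.card SK = Nat.card (T.mapSurjective hf) := by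
        rw [Sylow.card_eq_multiplicity, Sylow.card_eq_multiplicity]
      have hc3 : Nat.card (T.mapSurjective hf) ≤ Nat.card T := by
        rw [Sylow.coe_mapSurjective]
        exact Nat.le_of_dvd Nat.card_pos (Subgroup.card_map_dvd (T : Subgroup Γ) f)
      have hc4 : Nat.card T ≤ Nat.card k := by
        choose φ hφ using fun d : T => hTU d.1 d.2
        exact Nat.card_le_card_of_injective φ fun d d' h =>
          Subtype.ext (Subtype.ext (by rw [hφ, hφ, h]))
      obtain ⟨l, hl⟩ := ((Nat.bijective_iff_injective_and_card _).2 ⟨(algebraMap k K).injective,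
        le_antisymm (Nat.card_le_card_of_injective _ (algebraMap k K).injective) (by omega)⟩).2 (π x)
      have hl1 : l = 1 ∨ l = -1 := by
        rcases three_elems h3 l with rfl | h
        · rw [map_zero] at hl
          exact absurd hl.symm ((IsUnit.of_mul_eq_one c.xi c.root_mul).map π).ne_zero
        · exact h
      refine ⟨l, hl1, hl.symm, hord l 4 (by decide) ?_⟩
      rw [← hl, ← map_mul, show l * l = 1 by rcases hl1 with rfl | rfl <;> ring, map_one, four hK3]
    · exfalso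
      refine hcontra (hord 1 10 (by decide) ?_) (hord (-1) 10 (by decide) ?_) <;>
        refine ten hK3 ?_ <;> simp only [map_one, map_neg, one_mul, neg_mul, mul_neg, neg_neg] <;> exact hex
  -- one value
  obtain ⟨m₀, hm₀⟩ := Ideal.exists_maximal (AdjoinRoot c.g)
  letI := Ideal.Quotient.field m₀
  obtain ⟨l, hl1, -, hlχ⟩ := hres _ (Ideal.Quotient.mkₐ k m₀) (Ideal.Quotient.mkₐ_surjective k m₀)
  have hnil : IsNilpotent (x - al l) := by
    rw [nilpotent_iff_mem_prime]
    intro J hJ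
    have : Finite (AdjoinRoot c.g ⧸ J) := Finite.of_surjective _ Ideal.Quotient.mk_surjective
    have : J.IsMaximal := Ideal.Quotient.maximal_of_isField J (Finite.isDomain_to_isField _)
    letI := Ideal.Quotient.field J
    obtain ⟨l', hl1', hl', hlχ'⟩ := hres _ (Ideal.Quotient.mkₐ k J) (Ideal.Quotient.mkₐ_surjective k J)
    have hll : l' = l := by
      rcases hl1 with rfl | rfl <;> rcases hl1' with rfl | rfl
      · rfl
      · exact (hcontra hlχ hlχ').elim
      · exact (hcontra hlχ' hlχ).elim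
      · rfl
    rw [← Ideal.Quotient.eq_zero_iff_mem, map_sub, sub_eq_zero]
    rw [hll, Ideal.Quotient.mkₐ_eq_mk] at hl'
    exact hl'
  have hlu : l * l = 1 := by rcases hl1 with rfl | rfl <;> ring
  -- the congruence kernel
  let N := nilradical (AdjoinRoot c.g)
  let q := Ideal.Quotient.mk N
  have : CharP (AdjoinRoot c.g) 3 := by
    have : CharP k 3 := CharP.charP_iff_prime_eq_zero Nat.prime_three |>.2 (by exact_mod_cast h30)
    exact charP_of_injective_algebraMap (algebraMap k (AdjoinRoot c.g)).injective 3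
  have hcong : ∀ g : Γ, SpecialLinearGroup.map q g.1 = 1 → g = 1 := fun g hg => by
    obtain ⟨n, hn⟩ := Rigid.pow_eq_one_of_nilp (p := 3) (g := g.1) fun i j => by
      have h := congrArg (fun z : SpecialLinearGroup (Fin 2) _ => z i j) hg
      simp only [SpecialLinearGroup.map_apply_coe, RingHom.mapMatrix_apply, Matrix.map_apply,
        SpecialLinearGroup.coe_one] at h
      rw [← mem_nilradical, ← Ideal.Quotient.eq_zero_iff_mem, map_sub, sub_eq_zero, h]
      rcases eq_or_ne i j with rfl | hij <;> simp [*]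
    have h3' : ¬ 3 ∣ orderOf g := hker _ (Ideal.Quotient.mkₐ k m₀) g (by
      refine Subtype.ext (Matrix.ext fun i j => ?_)
      have h := congrArg (fun z : SpecialLinearGroup (Fin 2) _ => z i j) hg
      simp only [SpecialLinearGroup.map_apply_coe, RingHom.mapMatrix_apply, Matrix.map_apply,
        SpecialLinearGroup.coe_one] at h ⊢
      show Ideal.Quotient.mk m₀ (g.1 i j) = _
      have hle : N ≤ m₀ := nilradical_le_prime m₀
      calc Ideal.Quotient.mk m₀ (g.1 i j) = Ideal.Quotient.factor hle (q (g.1 i j)) := (Ideal.Quotient.factor_mk hle _).symm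
        _ = _ := by rw [h]; rcases eq_or_ne i j with rfl | hij <;> simp [*])
    obtain ⟨j, -, hj⟩ := (Nat.dvd_prime_pow Nat.prime_three).1
      (orderOf_dvd_of_pow_eq_one (show g ^ 3 ^ n = 1 from Subtype.ext (by simpa using hn)))
    rw [← orderOf_eq_one_iff, hj]
    rcases j with _ | j
    · rfl
    · exact absurd (hj ▸ dvd_pow_self 3 j.succ_ne_zero) h3'
  set w := uu (al (-l)) * vv x * uu (al (-l)) with hw
  have hwm : w ∈ Γ := Γ.mul_mem (Γ.mul_mem (huu _) (by simpa [al] using hvv 1)) (huu _)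
  have hqx : q x = q (al l) := by
    rw [← sub_eq_zero, ← map_sub, Ideal.Quotient.eq_zero_iff_mem, mem_nilradical]
    exact hnil
  have hll : al l * al l = 1 := by rw [← map_mul, hlu, map_one]
  have hmem : vv (al (-l) * x) * w ∈ Γ := Γ.mul_mem (hvv _) hwm
  have heq : vv (al (-l) * x) * w = w * uu 1 := by
    have h1 := hcong (⟨_, hmem⟩⁻¹ * ⟨_, Γ.mul_mem hwm hone⟩) (by
      rw [Subgroup.coe_mul, Subgroup.coe_inv, map_mul, map_inv, inv_mul_eq_one]
      simp only [hw, map_mul, map_uu, map_vv, map_neg, map_one, hqx]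
      exact weyl_eq (by rw [← map_mul, hll, map_one]))
    exact congrArg Subtype.val (inv_mul_eq_one.1 h1)
  have hxl : x = al l := weyl_entry hll (by rw [← map_neg al]; exact heq)
  refine ⟨l, ?_⟩
  calc A * B * A = A * (A * B + B * A) := c.A_C.symm
    _ = A * c.P * (A * B + B * A) := by rw [hAP]
    _ = A * ((A * B + B * A) * c.P) := by
      rw [mul_assoc, (c.commute_P (Commute.refl (A * B + B * A))).eq]
    _ = A * c.ev x := by rw [hx, c.ev_root, Coords.P]
    _ = l • (A * c.P) := by rw [hxl, c.ev_algebraMap, mul_smul_comm]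
    _ = l • A := by rw [hAP]

end Cfsg.Agent.H24.Wreath.Pair3
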