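import Cfsg.Agent.H24.Wreath.Main

/-!
Three elements field: unipotent elements attached to an isotropic plane of one slot have scalar parts.
-/

set_option autoImplicit false

namespace Cfsg.Agent.H24.Wreath

open Matrix Finset
open Cfsg.Agent.Aschbacher (pureMat pureVec slotMat)

variable {F : Type*} [Field F] {k t : ℕ}

/-- `1 + E` lies in `H`. -/
def In (H : Subgroup (Mat F k t)ˣ) (E : Mat F k t) : Prop := ∃ g ∈ H, (g : Mat F k t) = 1 + E

section
variable {H : Subgroup (Mat F k t)ˣ} {E E' : Mat F k t}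

theorem In.add (h : In H E) (h' : In H E') (h0 : E * E' = 0) : In H (E + E') := by
  obtain ⟨g, hg, hv⟩ := h
  obtain ⟨g', hg', hv'⟩ := h'
  refine ⟨g * g', H.mul_mem hg hg', ?_⟩
  rw [Units.val_mul, hv, hv', mul_add, mul_one, add_mul, one_mul, h0, add_zero, add_assoc]

theorem In.neg (h : In H E) (h0 : E * E = 0) : In H (-E) := by
  obtain ⟨g, hg, hv⟩ := h
  exact ⟨g⁻¹, H.inv_mem hg, by rw [inv_val_of g h0 hv, sub_eq_add_neg]⟩

theorem In.sub (h : In H E) (h' : In H E') (h0 : E * E' = 0) (h1 : E' * E' = 0) : In H (E - E') := by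
  rw [sub_eq_add_neg]
  exact h.add (h'.neg h1) (by rw [mul_neg, h0, neg_zero])

theorem In.conj (h : In H E) {g : (Mat F k t)ˣ} (hg : g ∈ H) :
    In H ((g : Mat F k t) * E * ((g⁻¹ : (Mat F k t)ˣ) : Mat F k t)) := by
  obtain ⟨u, hu, hv⟩ := h
  refine ⟨g * u * g⁻¹, H.mul_mem (H.mul_mem hg hu) (H.inv_mem hg), ?_⟩
  rw [Units.val_mul, Units.val_mul, hv, mul_add, mul_one, add_mul, g.mul_inv]

theorem Q.in (h : Q (F := F) H E) : In H E := by
  obtain ⟨g, hg, hv⟩ := h.2 1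
  exact ⟨g, hg, by rw [hv, one_smul]⟩

theorem In.conj_root (h : In H E) {P : Mat F k t} (hP : Q (F := F) H P) (x : F) :
    In H ((1 + x • P) * E * (1 - x • P)) := by
  obtain ⟨g, hg, hv⟩ := hP.2 x
  have h1 := h.conj hg
  rwa [inv_val_of g (by rw [smul_mul_smul_comm, hP.1, smul_zero]) hv, hv] at h1

theorem Off.sl_mul_sl {i : Fin t} {M : Mat F k t} (hM : Off i M) (X Y : Matrix (Fin k) (Fin k) F) (N : Mat F k t) :
    sl i X * M * (sl i Y * N) = sl i (X * Y) * (M * N) := by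
  rw [mul_assoc, ← mul_assoc M, ← hM, mul_assoc (sl i Y), ← mul_assoc, sl_mul]

end

namespace Gram

variable (𝕘 : Gram F k)

theorem tau_mul_of_skew {X : Matrix (Fin k) (Fin k) F} (hX : Xᵀ * 𝕘.G = -(𝕘.G * X)) (x z : Fin k → F) :
    𝕘.tau x z * X = -𝕘.tau x (X *ᵥ z) := by
  rw [tau, tau, vecMulVec_mul, ← vecMulVec_neg, vecMul_vecMul, show X *ᵥ z = z ᵥ* Xᵀ from (vecMul_transpose X z).symm,
    vecMul_vecMul, hX, vecMul_neg, neg_neg]

theorem conj_skew_tau {X : Matrix (Fin k) (Fin k) F} (hX : Xᵀ * 𝕘.G = -(𝕘.G * X)) (x z : Fin k → F) :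
    (1 + X) * 𝕘.tau x z * (1 - X) = 𝕘.tau (x + X *ᵥ x) (z + X *ᵥ z) := by
  rw [add_mul, one_mul, mul_tau, ← tau_add_left, mul_sub, mul_one, tau_mul_of_skew _ hX, sub_neg_eq_add,
    ← tau_add_right]

theorem exists_sep {x y : Fin k → F} (h : ∀ c : F, y ≠ c • x) : ∃ z, 𝕘.β x z = 0 ∧ 𝕘.β y z = 1 := by
  by_contra hc
  push Not at hc
  have h0 : ∀ z, 𝕘.β x z = 0 → 𝕘.β y z = 0 := fun z hz => by
    by_contra hne
    exact hc ((𝕘.β y z)⁻¹ • z) (by rw [β_smul_right, hz, mul_zero]) (by rw [β_smul_right, inv_mul_cancel₀ hne])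
  rcases eq_or_ne x 0 with rfl | hx
  · exact h 0 (by rw [zero_smul]; exact 𝕘.nd' fun z => h0 z (β_zero_left 𝕘 z))
  obtain ⟨x', hx'⟩ := 𝕘.exists_one hx
  refine h (𝕘.β y x') (sub_eq_zero.1 (𝕘.nd' fun z => ?_))
  have h1 := h0 (z - 𝕘.β x z • x') (by rw [β_sub_right, β_smul_right, hx', mul_one, sub_self])
  rw [β_sub_right, β_smul_right, sub_eq_zero] at h1
  rw [β_sub_left, β_smul_left, h1]
  ring

theorem exists_ker_two (hk : 4 ≤ k) (f g h : (Fin k → F) →ₗ[F] F) :
    ∃ v, v ≠ 0 ∧ f v = 0 ∧ g v = 0 ∧ h v = 0 := by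
  have hlt : Module.finrank F (F × F × F) < Module.finrank F (Fin k → F) := by
    simp only [Module.finrank_prod, Module.finrank_self, Module.finrank_fin_fun]
    omega
  obtain ⟨v, hv, hv0⟩ := Submodule.exists_mem_ne_zero_of_ne_bot
    (LinearMap.ker_ne_bot_of_finrank_lt (f := f.prod (g.prod h)) hlt)
  simp [LinearMap.mem_ker] at hv
  exact ⟨v, hv0, hv.1, hv.2.1, hv.2.2⟩

/-- The pairing against a fixed vector. -/
def βl (x : Fin k → F) : (Fin k → F) →ₗ[F] F where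
  toFun := 𝕘.β x
  map_add' := 𝕘.β_add_right x
  map_smul' c y := by rw [β_smul_right, RingHom.id_apply, smul_eq_mul]

theorem sbad_sq {a d : Fin k → F} (had : 𝕘.β a d = 0) (d' : Fin k → F) (had' : 𝕘.β a d' = 0) :
    𝕘.sb a d * 𝕘.sb a d' = (-𝕘.β d d') • 𝕘.root a ∧ 𝕘.root a * 𝕘.sb a d = 0 ∧ 𝕘.sb a d * 𝕘.root a = 0 := by
  have hda : 𝕘.β d a = 0 := by rw [β_skew, had, neg_zero]
  simp only [sb, root, mul_sub, sub_mul, tau_mul_tau, β_self, had, hda, had', zero_smul, sub_zero, zero_sub, neg_smul,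
    and_self]

/-- One symmetric and one rank one part on the plane. -/
def el (i : Fin t) (a d : Fin k → F) (M M' C : Mat F k t) : Mat F k t :=
  sl i (𝕘.tau a d) * M + sl i (𝕘.tau d a) * M' + sl i (𝕘.root a) * C

variable {𝕘} {H : Subgroup (Mat F k t)ˣ}

theorem isSkew_of_in (hH : 𝕘.Over H) {E : Mat F k t} (h : In H E) (h0 : E * E = 0) : 𝕘.IsSkew E := by
  obtain ⟨g, hg, hv⟩ := h
  have h1 := hH.iso g hg
  have h2 := hH.iso g⁻¹ (H.inv_mem hg)
  rw [inv_val_of g h0 hv] at h2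
  unfold Iso at h1 h2
  rw [hv, transpose_add, transpose_one] at h1
  rw [transpose_sub, transpose_one] at h2
  unfold IsSkew
  rw [eq_neg_iff_add_eq_zero]
  refine (smul_eq_zero.1 (show (2 : F) • (Eᵀ * 𝕘.big t + 𝕘.big t * E) = 0 from ?_)).resolve_left 𝕘.two
  have h4 := h1.trans h2.symm
  simp only [add_mul, sub_mul, mul_add, mul_sub, one_mul, mul_one] at h4
  rw [two_smul]
  calc _ = (𝕘.big t + Eᵀ * 𝕘.big t + (𝕘.big t * E + Eᵀ * 𝕘.big t * E)) -
        (𝕘.big t - Eᵀ * 𝕘.big t - (𝕘.big t * E - Eᵀ * 𝕘.big t * E)) := by abel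
    _ = 0 := by rw [h4, sub_self]

variable [NeZero k] (hk : 4 ≤ k) (h3 : (3 : F) = 0) (hH : 𝕘.Over H) (hno : 𝕘.NoRoot H)
include hH

omit [NeZero k] in
/-- The plane transvection moving `a` towards `d`. -/
theorem Over.shear (i : Fin t) {d c : Fin k → F} (hdc : 𝕘.β d c = 0) :
    Q (F := F) H (sl i (𝕘.tau d c + 𝕘.tau c d) : Mat F k t) := by
  have hcd : 𝕘.β c d = 0 := by rw [β_skew, hdc, neg_zero]
  have hz : ∀ x y : Fin k → F, 𝕘.β x y = 0 → (sl i (𝕘.root x) : Mat F k t) * sl i (𝕘.root y) = 0 := fun x y h => by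
    rw [sl_mul, tau_mul_tau, h, zero_smul, sl_zero]
  have h1 := (hH.hroot i (d + c)).add (hH.hroot i d).neg
    (by rw [mul_neg, hz _ _ (by rw [β_add_left, β_self, hcd, add_zero]), neg_zero])
    (by rw [neg_mul, hz _ _ (by rw [β_add_right, β_self, hdc, add_zero]), neg_zero])
  have h2 := h1.add (hH.hroot i c).neg
    (by rw [mul_neg, add_mul, neg_mul, hz _ _ (by rw [β_add_left, β_self, hdc, zero_add]), hz _ _ hdc, neg_zero,
      add_zero, neg_zero])
    (by rw [neg_mul, mul_add, mul_neg, hz _ _ (by rw [β_add_right, β_self, hcd, zero_add]), hz _ _ hcd, neg_zero,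
      add_zero, neg_zero])
  convert h2 using 1
  rw [← sl_neg, ← sl_neg, ← sl_add, ← sl_add]
  congr 1
  simp only [root, tau_add_left, tau_add_right]
  abel

include h3 hno hk

/-- An element on the plane with a self-adjoint slot part has scalar complement. -/
theorem Over.sb_rad (i : Fin t) {a d : Fin k → F} (ha : a ≠ 0) (had : 𝕘.β a d = 0) (hind : ∀ c : F, d ≠ c • a)
    {S : Mat F k t} (hS : Off i S) (h : In H (sl i (𝕘.sb a d) * S)) : ∃ r : F, S = r • 1 := by
  classical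
  by_contra hnot
  push Not at hnot
  have hS0 : S ≠ 0 := fun h0 => hnot 0 (by rw [h0, zero_smul])
  have hsb0 : 𝕘.sb a d ≠ 0 := fun h0 => by
    obtain ⟨z, hz1, hz2⟩ := 𝕘.exists_sep hind
    have h2 := 𝕘.sb_mulVec a d z
    rw [h0, zero_mulVec, hz1, hz2, one_smul, zero_smul, sub_zero] at h2
    exact ha h2.symm
  have hsq : 𝕘.sb a d * 𝕘.sb a d = 0 := 𝕘.sb_mul_self had
  let P : Mat F k t → Prop := fun Z => Off i Z ∧ In H (sl i (𝕘.sb a d) * Z)
  have hzero : ∀ Z W : Mat F k t, Off i Z → sl i (𝕘.sb a d) * Z * (sl i (𝕘.sb a d) * W) = 0 := fun Z W hZ => by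
    rw [hZ.sl_mul_sl, hsq, sl_zero, zero_mul]
  have hsub : ∀ Z W, P Z → P W → P (Z - W) := fun Z W hZ hW => by
    refine ⟨by rw [sub_eq_add_neg]; exact hZ.1.add hW.1.neg, ?_⟩
    rw [mul_sub]
    exact hZ.2.sub hW.2 (hzero Z W hZ.1) (hzero W W hW.1)
  have hP0 : P 0 := ⟨fun Y => by rw [mul_zero, zero_mul], ⟨1, H.one_mem, by rw [mul_zero, add_zero, Units.val_one]⟩⟩
  have hconj : ∀ j, j ≠ i → ∀ (b : Fin k → F) (x : F) (Z : Mat F k t), P Z →
      P ((1 + x • sl j (𝕘.root b)) * Z * (1 - x • sl j (𝕘.root b))) := fun j hj b x Z hZ => by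
    have hP : Off i (x • sl j (𝕘.root b) : Mat F k t) := (off_sl hj.symm _).smul x
    refine ⟨(((off_one i).add hP).mul hZ.1).mul (by rw [sub_eq_add_neg]; exact (off_one i).add hP.neg), ?_⟩
    have h1 := hZ.2.conj_root (hH.hroot j b) x
    have hc : sl i (𝕘.sb a d) * (1 + x • sl j (𝕘.root b) : Mat F k t) =
        (1 + x • sl j (𝕘.root b)) * sl i (𝕘.sb a d) := ((off_one i).add hP) _
    rw [← mul_assoc (1 + _ : Mat F k t), ← hc] at h1
    simpa only [mul_assoc] using h1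
  have hclosed : ∀ j ∈ univ.erase i, ∀ b Z, P Z → P (sl j (𝕘.root b) * Z - Z * sl j (𝕘.root b)) ∧
      P (sl j (𝕘.root b) * Z * sl j (𝕘.root b)) := by
    intro j hj b Z hZ
    set B := (sl j (𝕘.root b) : Mat F k t)
    set D := B * Z - Z * B with hD
    set E := B * Z * B with hE
    have h1 := hconj j (ne_of_mem_erase hj) b 1 Z hZ
    have h2 := hconj j (ne_of_mem_erase hj) b (-1) Z hZ
    rw [one_smul, show (1 + B) * Z * (1 - B) = Z + D - E by rw [hD, hE]; noncomm_ring] at h1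
    rw [neg_one_smul, show (1 + -B) * Z * (1 - -B) = Z - D - E by rw [hD, hE]; noncomm_ring] at h2
    have h3' : D + D + D = 0 := by
      rw [show D + D + D = (3 : F) • D by rw [show (3 : F) = 1 + 1 + 1 by norm_num, add_smul, add_smul, one_smul],
        h3, zero_smul]
    have hDP : P D := by
      have h4 := hsub _ _ h2 h1
      rwa [show Z - D - E - (Z + D - E) = D by
        calc Z - D - E - (Z + D - E) = D - (D + D + D) := by abel
          _ = D := by rw [h3', sub_zero]] at h4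
    refine ⟨hDP, ?_⟩
    have h5 := hsub _ _ (hsub _ _ hZ h1) (hsub _ _ hP0 hDP)
    rwa [show Z - (Z + D - E) - (0 - D) = E by abel] at h5
  obtain ⟨X, M', ⟨hoff, hIn⟩, hM'0, hX, hM', hid⟩ := 𝕘.exists_pieces (univ.erase i) P hclosed ⟨hS, h⟩ hS0
  have hXi : X i = 1 := (hX i).resolve_right fun h => notMem_erase i univ h.1
  have hR := off_pureMat (k := k) hXi
  have hXne : ∀ j, X j ≠ 0 := fun j => by
    rcases hX j with h | ⟨-, ⟨e, he, h⟩ | ⟨b, c, -, h, h0⟩⟩
    · rw [h]; exact one_ne_zero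
    · rw [h]; exact 𝕘.tau_ne_zero he he
    · exact h0
  obtain ⟨Y, rfl⟩ := eq_sl_of_off i fun j hj => hM' j (mem_erase.2 ⟨hj, mem_univ j⟩)
  have hY : ∀ Z, Z * Y = Y * Z := fun Z => by
    by_contra hc
    refine mul_ne_zero_of_off (sub_ne_zero.2 hc) hR (Aschbacher.pureMat_ne_zero hXne) ?_
    have h1 := hoff Z
    rw [← mul_assoc, hR, mul_assoc, sl_mul, mul_assoc, sl_mul] at h1
    rw [hR, sl_sub, mul_sub, h1, sub_self]
  obtain ⟨r, hr⟩ : Y ∈ Set.range (Matrix.scalar (Fin k)) :=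
    Matrix.mem_range_scalar_of_commute_single fun p q _ => hY _
  have hYr : (sl i Y : Mat F k t) = r • 1 := by
    rw [← hr, Matrix.scalar_apply, ← Matrix.smul_one_eq_diagonal, sl_smul, sl_one]
  rw [hYr, mul_smul_comm, mul_one] at hIn
  rw [hYr] at hM'0
  have hr0 : r ≠ 0 := fun h => hM'0 (by rw [h, zero_smul])
  -- the pure part, carried along by transvections
  let P' : (Fin t → Matrix (Fin k) (Fin k) F) → Prop := fun W => P (r • pureMat W)
  have hstep : ∀ w : Fin t → Fin k → F, w i = 0 →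
      P' fun j => (1 + 𝕘.root (w j)) * X j * (1 - 𝕘.root (w j)) := by
    intro w hw
    suffices ∀ s : Finset (Fin t), P'
        fun j => if j ∈ s then (1 + 𝕘.root (w j)) * X j * (1 - 𝕘.root (w j)) else X j by
      simpa using this univ
    intro s
    induction s using Finset.induction with
    | empty => simpa [P'] using show P (r • pureMat X) from ⟨hR.smul r, hIn⟩
    | insert l s hl ih =>
      rcases eq_or_ne l i with rfl | hli
      · convert ih using 1
        funext j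
        rcases eq_or_ne j l with rfl | hj
        · simp [hl, hw, root, tau_zero_left]
        · simp [hj]
      · have h1 := hconj l hli (w l) 1 _ ih
        simp only [P']
        rw [one_smul, mul_smul_comm, smul_mul_assoc, ← sl_one l, ← sl_add, ← sl_sub, sl, sl, slotMat, slotMat,
          Aschbacher.pureMat_mul, Aschbacher.pureMat_mul] at h1
        convert h1 using 3
        funext j
        rcases eq_or_ne j l with rfl | hj
        · simp [hl]
        · simp [hj]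
  -- some piece is a root
  have hEsq : sl i (𝕘.sb a d) * (r • pureMat X) * (sl i (𝕘.sb a d) * (r • pureMat X)) = (0 : Mat F k t) :=
    hzero _ _ (hR.smul r)
  have hskew := isSkew_of_in hH (E := sl i (𝕘.sb a d) * (r • pureMat X)) hIn hEsq
  rw [mul_smul_comm] at hskew
  have hskew' : 𝕘.IsSkew (sl i (𝕘.sb a d) * pureMat X) := by
    have := hskew.smul r⁻¹
    rwa [smul_smul, inv_mul_cancel₀ hr0, one_smul] at this
  obtain ⟨l, e, he, hle⟩ : ∃ l e, e ≠ 0 ∧ X l = 𝕘.root e := by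
    by_contra hc
    push Not at hc
    unfold IsSkew at hskew'
    have hW : ∀ j, (Function.update X i (𝕘.sb a d) j)ᵀ * 𝕘.G = 𝕘.G * Function.update X i (𝕘.sb a d) j := fun j => by
      rcases eq_or_ne j i with rfl | hj
      · rw [Function.update_self, 𝕘.sb_transpose, one_smul]
      · rw [Function.update_of_ne hj]
        rcases hX j with h | ⟨-, ⟨e, he, h⟩ | ⟨b, c, -, h, -⟩⟩
        · rw [h, transpose_one, one_mul, mul_one]
        · exact absurd h (hc j e he)
        · rw [h, 𝕘.sb_transpose, one_smul]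
    rw [show sl i (𝕘.sb a d) * pureMat X = pureMat (Function.update X i (𝕘.sb a d)) by
      rw [sl, slotMat, Aschbacher.pureMat_mul]
      congr 1
      funext j
      rcases eq_or_ne j i with rfl | hj
      · simp [hXi]
      · simp [Function.update_of_ne hj], pureMat_transpose, big, Aschbacher.pureMat_mul, funext hW,
      Aschbacher.pureMat_mul, eq_neg_iff_add_eq_zero, ← two_smul F] at hskew'
    refine Aschbacher.pureMat_ne_zero (fun j => ?_) ((smul_eq_zero.1 hskew').resolve_left 𝕘.two)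
    intro h0
    have h1 : Function.update X i (𝕘.sb a d) j = 0 := 𝕘.unit.mul_left_cancel (h0.trans (mul_zero _).symm)
    rcases eq_or_ne j i with rfl | hj
    · rw [Function.update_self] at h1; exact hsb0 h1
    · rw [Function.update_of_ne hj] at h1; exact hXne j h1
  have hli : l ≠ i := fun h => by
    subst h
    have h1 := 𝕘.root_mul_root_self e
    rw [← hle, hXi, one_mul] at h1
    exact one_ne_zero h1
  -- moving `d` inside the slot
  obtain ⟨d', had', hdd'⟩ := 𝕘.exists_sep hind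
  have hd'd : 𝕘.β d' d = -1 := by rw [β_skew, hdd']
  have hda : 𝕘.β d a = 0 := by rw [β_skew, had, neg_zero]
  have hd'a : 𝕘.β d' a = 0 := by rw [β_skew, had', neg_zero]
  have hmove : ∀ Z, P Z → In H (sl i (𝕘.sb a d') * Z) := fun Z hZ => by
    have h1 := hZ.2.conj_root (hH.hroot i (d' - d)) (-1)
    rw [← sl_smul, ← sl_one i, ← sl_add, ← sl_sub, ← mul_assoc, sl_mul, mul_assoc _ Z, ← hZ.1, ← mul_assoc, sl_mul] at h1
    have hsk : ((-1 : F) • 𝕘.root (d' - d))ᵀ * 𝕘.G = -(𝕘.G * ((-1 : F) • 𝕘.root (d' - d))) := by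
      rw [transpose_smul, smul_mul_assoc, transpose_tau, mul_smul_comm, smul_neg]
    have e : (1 + (-1 : F) • 𝕘.root (d' - d)) * 𝕘.sb a d * (1 - (-1 : F) • 𝕘.root (d' - d)) = 𝕘.sb a d' := by
      show (1 + _) * (𝕘.tau a d - 𝕘.tau d a) * (1 - _) = 𝕘.tau a d' - 𝕘.tau d' a
      rw [mul_sub (1 + _ : Matrix (Fin k) (Fin k) F), sub_mul, 𝕘.conj_skew_tau hsk, 𝕘.conj_skew_tau hsk]
      have e1 : 𝕘.root (d' - d) *ᵥ a = 0 := by rw [tau_mulVec, β_sub_left, hda, hd'a, sub_zero, zero_smul]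
      have e2 : 𝕘.root (d' - d) *ᵥ d = -(d' - d) := by
        rw [tau_mulVec, β_sub_left, β_self, hd'd, sub_zero, neg_one_smul]
      simp [neg_mulVec, e1, e2]
    rwa [e] at h1
  -- the transvections
  have hexw : ∀ j, ∃ w, (j = i → w = 0) ∧ (1 + 𝕘.root w) * X j * (1 - 𝕘.root w) * X j ≠ 0 ∧
      (j = l → 𝕘.β w e ≠ 0) := fun j => by
    have hne1 : (1 : Matrix (Fin k) (Fin k) F) ≠ 0 := one_ne_zero
    rcases hX j with h | ⟨hj, ⟨f, hf, h⟩ | ⟨b, c, hbc, h, h0⟩⟩
    · refine ⟨0, fun _ => rfl, by rw [h, root, tau_zero_left]; simpa using hne1, ?_⟩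
      rintro rfl
      have h1 := 𝕘.root_mul_root_self e
      rw [← hle, h, one_mul] at h1
      exact absurd h1 hne1
    · obtain ⟨w₀, hw₀⟩ := 𝕘.exists_one hf
      have hwf : 𝕘.β w₀ f ≠ 0 := by rw [β_skew, hw₀]; exact neg_ne_zero.2 one_ne_zero
      refine ⟨w₀, fun h => absurd h (ne_of_mem_erase hj), ?_, ?_⟩
      · rw [h, conj_tau, tau_mul_tau]
        refine smul_ne_zero ?_ (𝕘.tau_ne_zero (st_ne_zero hwf) hf)
        rw [st, β_add_left, β_self, zero_add, β_smul_left]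
        exact mul_ne_zero hwf hwf
      · rintro rfl hwe
        have h2 : 𝕘.root e = 𝕘.root f := by rw [← hle, h]
        have h4 := congrArg (· *ᵥ w₀) h2
        simp only [tau_mulVec, 𝕘.β_skew w₀ e, hwe, neg_zero, zero_smul, 𝕘.β_skew w₀ f, neg_smul,
          eq_comm (a := (0 : Fin k → F)), neg_eq_zero, smul_eq_zero] at h4
        exact h4.elim hwf hf
    · have h0' : 𝕘.sb b c ≠ 0 := h ▸ h0
      obtain ⟨hb, v, hv1, hv2⟩ := sb_parts h0'
      refine ⟨v, fun h => absurd h (ne_of_mem_erase hj), ?_, ?_⟩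
      · rw [h, conj_sb, show 𝕘.st v b = b by rw [st, hv1, zero_smul, add_zero], (mu_sb hbc hv1).1]
        exact smul_ne_zero (neg_ne_zero.2 (mul_ne_zero hv2 hv2)) (𝕘.tau_ne_zero hb hb)
      · rintro rfl hwe
        have h1 := Q_isSkew (Y := (0 : Mat F k t)) hH Q.zero
        have h2 : (𝕘.sb b c)ᵀ * 𝕘.G = (-1 : F) • (𝕘.G * 𝕘.sb b c) := by rw [← h, hle, 𝕘.root_transpose]
        rw [𝕘.sb_transpose, one_smul, neg_one_smul, eq_neg_iff_add_eq_zero, ← two_smul F] at h2
        exact h0' (𝕘.unit.mul_left_cancel (((smul_eq_zero.1 h2).resolve_left 𝕘.two).trans (mul_zero _).symm))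
  choose w hwi hwne hwl using hexw
  let X' : Fin t → Matrix (Fin k) (Fin k) F := fun j => (1 + 𝕘.root (w j)) * X j * (1 - 𝕘.root (w j))
  have hX'i : X' i = 1 := by simp only [X', hwi i rfl, hXi, root, tau_zero_left]; simp
  have hR' := off_pureMat (k := k) hX'i
  set Z₁ := (sl i (𝕘.sb a d) * (r • pureMat X) : Mat F k t) with hZ₁
  set Z₂ := (sl i (𝕘.sb a d') * (r • pureMat X') : Mat F k t) with hZ₂
  obtain ⟨g, hg, hgv⟩ := (show In H Z₁ from hIn)
  obtain ⟨g', hg', hgv'⟩ := (show In H Z₂ from hmove _ (hstep w (hwi i rfl)))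
  obtain ⟨hs1, hs2, hs3⟩ := 𝕘.sbad_sq had d' had'
  obtain ⟨hs1', hs2', hs3'⟩ := 𝕘.sbad_sq had' d had
  rw [hdd', neg_smul, one_smul] at hs1
  rw [hd'd, neg_neg, one_smul] at hs1'
  have e12 : Z₁ * Z₂ = -(sl i (𝕘.root a) * ((r • pureMat X) * (r • pureMat X'))) := by
    rw [hZ₁, hZ₂, (hR.smul r).sl_mul_sl, hs1, sl_neg, neg_mul]
  have e21 : Z₂ * Z₁ = sl i (𝕘.root a) * ((r • pureMat X') * (r • pureMat X)) := by
    rw [hZ₁, hZ₂, (hR'.smul r).sl_mul_sl, hs1']
  have e11 : Z₁ * Z₁ = 0 := hzero _ _ (hR.smul r)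
  have e22 : Z₂ * Z₂ = 0 := by
    rw [hZ₂, (hR'.smul r).sl_mul_sl, 𝕘.sb_mul_self had', sl_zero, zero_mul]
  have hoffp : ∀ U V : Mat F k t, Off i U → Off i V → ∀ A B : Matrix (Fin k) (Fin k) F, A * B = 0 →
      sl i A * U * (sl i B * V) = 0 := fun U V hU _ A B hAB => by rw [hU.sl_mul_sl, hAB, sl_zero, zero_mul]
  have hP12 : Off i ((r • pureMat X) * (r • pureMat X') : Mat F k t) := (hR.smul r).mul (hR'.smul r)
  have hP21 : Off i ((r • pureMat X') * (r • pureMat X) : Mat F k t) := (hR'.smul r).mul (hR.smul r)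
  have z1 : Z₁ * Z₂ * Z₁ = 0 := by rw [e12, neg_mul, hZ₁, hoffp _ _ hP12 (hR.smul r) _ _ hs2, neg_zero]
  have z2 : Z₁ * Z₂ * Z₂ = 0 := by rw [mul_assoc, e22, mul_zero]
  have z3 : Z₂ * Z₁ * Z₂ = 0 := by rw [e21, hZ₂, hoffp _ _ hP21 (hR'.smul r) _ _ hs2']
  have z4 : Z₂ * Z₁ * Z₁ = 0 := by rw [mul_assoc, e11, mul_zero]
  have hcomm : (1 + Z₁) * (1 + Z₂) * (1 - Z₁) * (1 - Z₂) = 1 + (Z₁ * Z₂ - Z₂ * Z₁) := by
    calc (1 + Z₁) * (1 + Z₂) * (1 - Z₁) * (1 - Z₂)
        = 1 + (Z₁ * Z₂ - Z₂ * Z₁) - Z₂ * Z₂ - Z₁ * Z₁ + Z₁ * Z₁ * Z₂ + Z₂ * Z₁ * Z₂ - Z₁ * Z₂ * Z₁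
            + Z₁ * Z₂ * Z₁ * Z₂ - Z₁ * Z₂ * Z₂ := by noncomm_ring
      _ = _ := by rw [z1, z3, z2, e11, e22]; simp
  have hM : Off i (-((r * r) • (pureMat X * pureMat X' + pureMat X' * pureMat X)) : Mat F k t) :=
    (((hR.mul hR').add (hR'.mul hR)).smul _).neg
  obtain ⟨c₀, hc₀⟩ := hno i a _ hM ⟨g * g' * g⁻¹ * g'⁻¹,
    H.mul_mem (H.mul_mem (H.mul_mem hg hg') (H.inv_mem hg)) (H.inv_mem hg'), by
      rw [Units.val_mul, Units.val_mul, Units.val_mul, inv_val_of g e11 hgv, inv_val_of g' e22 hgv', hgv, hgv', hcomm,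
        e12, e21, mul_neg]
      simp only [smul_mul_assoc, mul_smul_comm, smul_smul, mul_add, smul_add]
      abel⟩
  have hsc : pureMat X * pureMat X' + pureMat X' * pureMat X = (-(c₀ / (r * r))) • (1 : Mat F k t) := by
    have h1 := hM.cancel ((off_one i).smul c₀) (𝕘.tau_ne_zero ha ha) (hc₀.trans (by rw [mul_smul_comm, mul_one]))
    rw [neg_eq_iff_eq_neg, ← neg_smul] at h1
    rw [show -(c₀ / (r * r)) = (r * r)⁻¹ * -c₀ by rw [div_eq_inv_mul]; ring, ← smul_smul, ← h1, smul_smul,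
      inv_mul_cancel₀ (mul_ne_zero hr0 hr0), one_smul]
  -- evaluation in the slot `l`
  obtain ⟨y, hy0, hye, hyw, -⟩ := exists_ker_two hk (𝕘.βl e) (𝕘.βl (w l)) 0
  change 𝕘.β e y = 0 at hye
  change 𝕘.β (w l) y = 0 at hyw
  have hwe := hwl l rfl
  obtain ⟨q, hqe, hqw, hqind⟩ : ∃ q, 𝕘.β q e = 0 ∧ 𝕘.β q (w l) ≠ 0 ∧ ∀ c : F, e ≠ c • q := by
    refine ⟨e + y, ?_, ?_, fun c hc => ?_⟩
    · rw [β_add_left, β_self, zero_add, β_skew, hye, neg_zero]
    · rw [β_add_left, 𝕘.β_skew (w l) y, hyw, neg_zero, add_zero, β_skew]; exact neg_ne_zero.2 hwe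
    · have h1 := congrArg (𝕘.β (w l)) hc
      rw [β_smul_right, β_add_right, hyw, add_zero] at h1
      have hc1 : c = 1 := by
        have := mul_right_cancel₀ hwe (show c * 𝕘.β (w l) e = 1 * 𝕘.β (w l) e by rw [one_mul]; exact h1.symm)
        exact this
      rw [hc1, one_smul] at hc
      exact hy0 (left_eq_add.1 hc)
  obtain ⟨z, hqz, hez⟩ := 𝕘.exists_sep hqind
  have hct : ∀ W : Fin t → Matrix (Fin k) (Fin k) F, 𝕘.ct l q z (pureMat W : Mat F k t) =
      𝕘.β q (W l *ᵥ z) • pureMat (Function.update W l 1) := fun W => by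
    rw [pureMat_eq_sl_mul W l, 𝕘.ct_sl_mul (off_pureMat (Function.update_self l _ _))]
  have h9 := congrArg (𝕘.ct l q z) hsc
  rw [ct_add, ct_smul, 𝕘.ct_of_off (off_one l), hqz, zero_smul, smul_zero, Aschbacher.pureMat_mul,
    Aschbacher.pureMat_mul, hct, hct] at h9
  simp only [X', hle, conj_tau, tau_mul_tau, smul_mulVec, tau_mulVec, β_smul_right, hqe, mul_zero, zero_smul,
    zero_add, hez, one_smul] at h9
  refine Aschbacher.pureMat_ne_zero (fun j => ?_) ((smul_eq_zero.1 h9).resolve_left ?_)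
  · rcases eq_or_ne j l with rfl | hj
    · rw [Function.update_self]; exact one_ne_zero
    · rw [Function.update_of_ne hj]; exact hwne j
  · refine mul_ne_zero ?_ ?_
    · rw [st, β_add_left, β_self, zero_add, β_smul_left]; exact mul_ne_zero hwe hwe
    · rw [st, β_add_right, hqe, zero_add, β_smul_right]; exact mul_ne_zero hwe hqw

omit [NeZero k] hk h3 hH hno in
theorem el_mul {i : Fin t} {a d a' d' : Fin k → F} (h1 : 𝕘.β a a' = 0) (h2 : 𝕘.β a d' = 0) (h5 : 𝕘.β d a' = 0)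
    (h6 : 𝕘.β d d' = 0) {M M' C : Mat F k t} (hM : Off i M) (hM' : Off i M') (hC : Off i C) (N N' D : Mat F k t) :
    𝕘.el i a d M M' C * 𝕘.el i a' d' N N' D = 0 := by
  simp only [el, add_mul, mul_add, hM.sl_mul_sl, hM'.sl_mul_sl, hC.sl_mul_sl, root, tau_mul_tau, h1, h2, h5, h6,
    zero_smul, sl_zero, zero_mul, add_zero]

/-- An element supported on an isotropic plane of one slot has scalar parts. -/
theorem Over.plane_rad (i : Fin t) {a d : Fin k → F} (ha : a ≠ 0) (had : 𝕘.β a d = 0) (hind : ∀ c : F, d ≠ c • a)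
    {M M' C : Mat F k t} (hM : Off i M) (hM' : Off i M') (hC : Off i C) (h : In H (𝕘.el i a d M M' C)) :
    ∃ r r' : F, M = r • 1 ∧ M' = r' • 1 := by
  classical
  have hda : 𝕘.β d a = 0 := by rw [β_skew, had, neg_zero]
  have hd0 : d ≠ 0 := fun h0 => hind 0 (by rw [h0, zero_smul])
  have hind' : ∀ c : F, a ≠ c • d := fun c hc => by
    rcases eq_or_ne c 0 with rfl | hc0
    · exact ha (by rw [hc, zero_smul])
    · exact hind c⁻¹ (by rw [hc, smul_smul, inv_mul_cancel₀ hc0, one_smul])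
  obtain ⟨a'', hda'', haa''⟩ := 𝕘.exists_sep hind'
  have ha''a : 𝕘.β a'' a = -1 := by rw [β_skew, haa'']
  set S₀ := 𝕘.tau d a'' + 𝕘.tau a'' d with hS₀
  have hsk : ∀ x : F, (x • S₀)ᵀ * 𝕘.G = -(𝕘.G * (x • S₀)) := fun x => by
    rw [hS₀, transpose_smul, transpose_add, smul_mul_assoc, add_mul, transpose_tau, transpose_tau, mul_smul_comm,
      mul_add, ← smul_neg]
    congr 1
    abel
  have hS₀a : S₀ *ᵥ a = -d := by
    rw [hS₀, add_mulVec, tau_mulVec, tau_mulVec, ha''a, hda, zero_smul, add_zero, neg_one_smul]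
  have hS₀d : S₀ *ᵥ d = 0 := by
    rw [hS₀, add_mulVec, tau_mulVec, tau_mulVec, β_self, 𝕘.β_skew d a'', hda'', neg_zero, zero_smul, zero_smul,
      add_zero]
  have hshift : ∀ y : F, In H (𝕘.el i (a + y • d) d M M' C) := fun y => by
    have h1 := h.conj_root (hH.shear i hda'') (-y)
    have e : ∀ x z : Fin k → F, ∀ N : Mat F k t, Off i N →
        (1 + (-y) • sl i S₀) * (sl i (𝕘.tau x z) * N) * (1 - (-y) • sl i S₀) =
          sl i (𝕘.tau (x + ((-y) • S₀) *ᵥ x) (z + ((-y) • S₀) *ᵥ z)) * N := fun x z N hN => by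
      rw [← sl_smul, ← sl_one i, ← sl_add, ← sl_sub, ← mul_assoc, sl_mul, mul_assoc _ N, ← hN, ← mul_assoc, sl_mul,
        𝕘.conj_skew_tau (hsk (-y))]
    convert h1 using 1
    rw [el, el, mul_add, mul_add, add_mul, add_mul, e a d M hM, e d a M' hM', e a a C hC]
    simp [smul_mulVec, neg_mulVec, hS₀a, hS₀d, root, neg_smul]
  have hmul : ∀ (x y : F) (N N' D : Mat F k t),
      𝕘.el i (a + x • d) d M M' C * 𝕘.el i (a + y • d) d N N' D = 0 := fun x y N N' D => by
    refine el_mul ?_ ?_ ?_ (β_self 𝕘 d) hM hM' hC N N' D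
    · rw [β_add_left, β_smul_left, β_add_right, β_add_right, β_smul_right, β_smul_right, β_self, β_self, had, hda]
      ring
    · rw [β_add_left, β_smul_left, β_self, had]; ring
    · rw [β_add_right, β_smul_right, β_self, hda]; ring
  set E : F → Mat F k t := fun y => 𝕘.el i (a + y • d) d M M' C with hE
  have hdiff : ∀ x y, In H (E x - E y) := fun x y => (hshift x).sub (hshift y) (hmul _ _ _ _ _) (hmul _ _ _ _ _)
  have hEval : ∀ y : F, E y = 𝕘.el i a d M M' C + y • (sl i (𝕘.root d) * (M + M' ) +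
      sl i (𝕘.tau a d + 𝕘.tau d a) * C) + (y * y) • (sl i (𝕘.root d) * C) := fun y => by
    simp only [hE, el, root, tau_add_left, tau_add_right, tau_smul_left, tau_smul_right, sl_add, sl_smul, add_mul,
      mul_add, smul_mul_assoc, smul_add, smul_smul]
    abel
  have h2 : (2 : F) = -1 := by linear_combination h3
  have h33 : ∀ X : Mat F k t, X + X = -X := fun X => by
    rw [eq_neg_iff_add_eq_zero, show X + X + X = (3 : F) • X by
      rw [show (3 : F) = 1 + 1 + 1 by norm_num, add_smul, add_smul, one_smul], h3, zero_smul]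
  -- the rank one part
  have hRC : In H (sl i (𝕘.root d) * (-C)) := by
    have h4 := (hdiff 1 0).add (hdiff (-1) 0)
      (by simp only [sub_mul, mul_sub, hE, hmul, sub_self])
    convert h4 using 1
    rw [hEval, hEval, hEval, mul_neg, ← h33]
    simp only [zero_mul, one_mul, neg_mul_neg, one_smul, zero_smul, neg_smul, add_zero]
    abel
  obtain ⟨c₁, hc₁⟩ := hno i d (-C) hC.neg hRC
  have hC1 : C = (-c₁) • (1 : Mat F k t) := by
    have h4 := hC.neg.cancel ((off_one i).smul c₁) (𝕘.tau_ne_zero hd0 hd0) (hc₁.trans (by rw [mul_smul_comm, mul_one]))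
    rw [neg_smul, ← h4, neg_neg]
  -- the symmetric part
  have hsymQ := hH.shear i had
  have hsymE : ∀ x : F, (x • sl i (𝕘.tau a d + 𝕘.tau d a) : Mat F k t) =
      𝕘.el i (a + (0 : F) • d) d (x • 1) (x • 1) 0 := fun x => by
    rw [el, zero_smul, add_zero, mul_zero, add_zero, mul_smul_comm, mul_smul_comm, mul_one, mul_one, sl_add,
      smul_add]
  have hB : In H (sl i (𝕘.root d) * (-(M + M'))) := by
    have h4 := (hdiff 1 (-1)).add (hsymQ.smul (-c₁)).in (by rw [sub_mul, hsymE, hE, hmul, hmul, sub_zero])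
    convert h4 using 1
    rw [hEval, hEval, hC1, mul_neg]
    simp only [one_smul, neg_smul, mul_smul_comm, mul_one, mul_neg]
    rw [← h33]
    have h6 := h33 (c₁ • sl i (𝕘.tau a d + 𝕘.tau d a))
    rw [eq_neg_iff_add_eq_zero] at h6
    rw [← sub_eq_zero]
    refine Eq.trans ?_ h6
    abel
  obtain ⟨c₂, hc₂⟩ := hno i d _ (hM.add hM').neg hB
  have hsum : M + M' = (-c₂) • (1 : Mat F k t) := by
    have h4 := (hM.add hM').neg.cancel ((off_one i).smul c₂) (𝕘.tau_ne_zero hd0 hd0)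
      (hc₂.trans (by rw [mul_smul_comm, mul_one]))
    rw [neg_smul, ← h4, neg_neg]
  -- the self-adjoint part
  have hEa : 𝕘.el i a d M M' C = E 0 := by rw [hE]; simp
  have hsb : In H (sl i (𝕘.sb a d) * (M + (-c₂) • 1)) := by
    have hra : (c₁ • sl i (𝕘.root a) : Mat F k t) = 𝕘.el i (a + (0 : F) • d) d 0 0 (c₁ • 1) := by
      rw [el, zero_smul, add_zero, mul_zero, mul_zero, zero_add, zero_add, mul_smul_comm, mul_one]
    have h4 := (h.add ((hH.hroot i a).smul c₁).in (by rw [hEa, hra, hE, hmul])).add (hsymQ.smul (-c₂)).in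
      (by rw [add_mul, hEa, hsymE, hE, hmul, hra, el_mul ?_ ?_ ?_ (β_self 𝕘 d) (fun Y => by simp)
        (fun Y => by simp) ((off_one i).smul _), add_zero] <;> simp [β_self, had, hda])
    convert h4 using 1
    have hM'' : M' = (-c₂) • (1 : Mat F k t) - M := by rw [← hsum]; abel
    rw [el, hM'', hC1]
    simp only [Gram.sb, sl_sub, sl_add, sub_mul, mul_add, mul_sub, mul_smul_comm, mul_one, neg_smul, smul_add, root,
      mul_neg]
    have h6 := h33 (c₂ • (sl i (𝕘.tau d a) : Mat F k t))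
    rw [eq_neg_iff_add_eq_zero] at h6
    rw [← sub_eq_zero]
    refine Eq.trans ?_ h6
    module
  obtain ⟨r, hr⟩ := hH.sb_rad hk h3 hno i ha had hind (hM.add ((off_one i).smul _)) hsb
  refine ⟨r + c₂, -c₂ - (r + c₂), ?_, ?_⟩
  · rw [add_smul, ← hr, neg_smul]; abel
  · rw [sub_smul, ← hsum, add_smul, ← hr, neg_smul]; abel

end Gram

end Cfsg.Agent.H24.Wreath
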