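import Cfsg.Agent.H24.Wreath.Roots

/-!
Reduction of a matrix to pure pieces, slot by slot, by sandwiches and brackets with roots.
-/

set_option autoImplicit false

namespace Cfsg.Agent.H24.Wreath

open Matrix Finset
open Cfsg.Agent.Aschbacher (pureMat pureVec slotMat factorPerm)

variable {F : Type*} [Field F] {k t : ℕ}

theorem pureMat_eq_sl_mul (X : Fin t → Matrix (Fin k) (Fin k) F) (i : Fin t) :
    (pureMat X : Mat F k t) = sl i (X i) * pureMat (Function.update X i 1) := by
  rw [sl, slotMat, Aschbacher.pureMat_mul]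
  congr 1
  funext j
  rcases eq_or_ne j i with rfl | hj
  · simp
  · simp [Function.update_of_ne hj]

theorem off_pureMat {X : Fin t → Matrix (Fin k) (Fin k) F} {i : Fin t} (h : X i = 1) :
    Off i (pureMat X : Mat F k t) := fun Y => by
  rw [sl, slotMat, Aschbacher.pureMat_mul, Aschbacher.pureMat_mul]
  congr 1
  funext j
  rcases eq_or_ne j i with rfl | hj
  · simp [h]
  · simp [Function.update_of_ne hj]

theorem pureMat_smul (X : Fin t → Matrix (Fin k) (Fin k) F) (p : Fin t → F) :
    (pureMat fun j => p j • X j : Mat F k t) = (∏ j, p j) • pureMat X := by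
  ext a c
  simp [pureMat, Finset.prod_mul_distrib]

/-- A matrix commuting with every slot outside `i` lives in the slot `i`. -/
theorem eq_sl_of_off [NeZero k] (i : Fin t) {M : Mat F k t} (h : ∀ j, j ≠ i → Off j M) :
    ∃ X, M = sl i X := by
  classical
  let z : Fin k := 0
  refine ⟨Matrix.of fun p q => M (Function.update (fun _ => z) i p) (Function.update (fun _ => z) i q), ?_⟩
  ext a c
  rw [pureMat_update_one, Matrix.of_apply]
  by_cases hac : ∀ j, j ≠ i → a j = c j
  · rw [if_pos hac]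
    have key : ∀ s : Finset (Fin t), i ∉ s →
        M a c = M (fun j => if j ∈ s then z else a j) (fun j => if j ∈ s then z else c j) := by
      intro s
      induction s using Finset.induction with
      | empty => intro _; simp
      | insert j s hj ih =>
        intro hi
        rw [Finset.mem_insert, not_or] at hi
        rw [ih hi.2]
        set a' := fun l => if l ∈ s then z else a l
        set c' := fun l => if l ∈ s then z else c l
        have h1 := (h j (Ne.symm hi.1)).apply a' c' z (c' j) (a' j)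
        rw [Function.update_eq_self, Function.update_eq_self, if_pos (by simp [a', c', hj, hac j (Ne.symm hi.1)])] at h1
        rw [h1]
        congr 1 <;> funext l <;> rcases eq_or_ne l j with rfl | hl <;> simp [a', c', *]
    rw [key (univ.erase i) (notMem_erase i univ)]
    congr 1 <;> funext j <;> rcases eq_or_ne j i with rfl | hj <;> simp [*]
  · rw [if_neg hac]
    push Not at hac
    obtain ⟨j, hji, hj⟩ := hac
    have h1 := (h j hji).apply a c z (c j) (a j)
    rwa [Function.update_eq_self, Function.update_eq_self, if_neg (Ne.symm hj)] at h1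

/-- A matrix commuting with every slot is scalar. -/
theorem eq_smul_one_of_off [NeZero k] {M : Mat F k t} (h : ∀ j, Off j M) : ∃ c : F, M = c • 1 := by
  classical
  rcases Nat.eq_zero_or_pos t with rfl | ht
  · refine ⟨M Fin.elim0 Fin.elim0, Matrix.ext fun a c => ?_⟩
    rw [Subsingleton.elim a Fin.elim0, Subsingleton.elim c Fin.elim0, Matrix.smul_apply, one_apply_eq, smul_eq_mul,
      mul_one]
  let i : Fin t := ⟨0, ht⟩
  obtain ⟨X, rfl⟩ := eq_sl_of_off i fun j _ => h j
  have hX : ∀ Y, Y * X = X * Y := fun Y => by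
    have h1 := h i Y
    rw [sl_mul, sl_mul] at h1
    exact sl_injective i h1
  obtain ⟨c, hc⟩ : X ∈ Set.range (Matrix.scalar (Fin k)) :=
    Matrix.mem_range_scalar_of_commute_single fun p q _ => hX _
  exact ⟨c, by rw [← hc, Matrix.scalar_apply, ← Matrix.smul_one_eq_diagonal, sl_smul, sl_one]⟩

namespace Gram

variable (𝕘 : Gram F k)

/-- The self-adjoint map of rank two at two orthogonal vectors. -/
def sb (b c : Fin k → F) : Matrix (Fin k) (Fin k) F := 𝕘.tau b c - 𝕘.tau c b

theorem sb_mulVec (b c x : Fin k → F) : 𝕘.sb b c *ᵥ x = 𝕘.β c x • b - 𝕘.β b x • c := by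
  rw [sb, sub_mulVec, tau_mulVec, tau_mulVec]

theorem sb_mul_self {b c : Fin k → F} (h : 𝕘.β b c = 0) : 𝕘.sb b c * 𝕘.sb b c = 0 := by
  simp only [sb, mul_sub, sub_mul, tau_mul_tau, β_self, h, 𝕘.β_skew b c, neg_zero, zero_smul, sub_self]

/-- A slot piece: a root, or a rank two self-adjoint map at orthogonal vectors. -/
def Piece (X : Matrix (Fin k) (Fin k) F) : Prop :=
  (∃ a, a ≠ 0 ∧ X = 𝕘.root a) ∨ ∃ b c, 𝕘.β b c = 0 ∧ X = 𝕘.sb b c ∧ X ≠ 0

theorem ct_preserves_off {i j : Fin t} (hij : j ≠ i) {Z : Mat F k t} (hZ : Off j Z) (x y : Fin k → F) :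
    Off j (𝕘.ct i x y Z) := fun X => by
  rw [← 𝕘.ct_off_mul (off_sl hij.symm X), hZ, 𝕘.ct_mul_off (off_sl hij.symm X)]

theorem mul_ne_zero_of_off {i : Fin t} {X : Matrix (Fin k) (Fin k) F} (hX : X ≠ 0) {M : Mat F k t} (hM : Off i M)
    (hM0 : M ≠ 0) : sl i X * M ≠ 0 := fun h =>
  hM0 (hM.cancel (fun Y => by rw [mul_zero, zero_mul]) hX (by rw [h, mul_zero]))

/-- The reduction. -/
theorem exists_pieces [NeZero k] (J : Finset (Fin t)) (P : Mat F k t → Prop)
    (hP : ∀ j ∈ J, ∀ b Z, P Z → P (sl j (𝕘.root b) * Z - Z * sl j (𝕘.root b)) ∧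
      P (sl j (𝕘.root b) * Z * sl j (𝕘.root b)))
    {Z : Mat F k t} (hZ : P Z) (hZ0 : Z ≠ 0) :
    ∃ (X : Fin t → Matrix (Fin k) (Fin k) F) (M : Mat F k t), P (pureMat X * M) ∧ M ≠ 0 ∧
      (∀ j, X j = 1 ∨ j ∈ J ∧ 𝕘.Piece (X j)) ∧ (∀ j ∈ J, Off j M) ∧
        ((∀ j, X j = 1) → ∀ j ∈ J, Off j Z) := by
  classical
  suffices ∀ s, s ⊆ J → ∃ (X : Fin t → Matrix (Fin k) (Fin k) F) (M : Mat F k t), P (pureMat X * M) ∧ M ≠ 0 ∧
      (∀ j, X j = 1 ∨ j ∈ s ∧ 𝕘.Piece (X j)) ∧ (∀ j ∈ s, Off j M) ∧ ((∀ j, X j = 1) → M = Z) by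
    obtain ⟨X, M, h1, h2, h3, h4, h5⟩ := this J subset_rfl
    exact ⟨X, M, h1, h2, h3, h4, fun h j hj => h5 h ▸ h4 j hj⟩
  intro s
  induction s using Finset.induction with
  | empty =>
    intro _
    refine ⟨fun _ => 1, Z, by rwa [Aschbacher.pureMat_one, one_mul], hZ0, fun j => Or.inl rfl,
      fun j hj => absurd hj (notMem_empty j), fun _ => rfl⟩
  | insert i s hi ih =>
    intro hs
    obtain ⟨X, M, hPM, hM0, hX, hoff, hid⟩ := ih fun j hj => hs (mem_insert_of_mem hj)
    have hiJ := hs (mem_insert_self i s)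
    have hXi : X i = 1 := (hX i).resolve_right fun h => hi h.1
    have hR := off_pureMat (k := k) hXi
    have hne : ∀ j ∈ s, j ≠ i := fun j hj h => hi (h ▸ hj)
    have hnew : ∀ (Y : Matrix (Fin k) (Fin k) F) (x y : Fin k → F), 𝕘.Piece Y → 𝕘.ct i x y M ≠ 0 →
        P (pureMat X * (sl i Y * 𝕘.ct i x y M)) →
        ∃ (X' : Fin t → Matrix (Fin k) (Fin k) F) (M' : Mat F k t), P (pureMat X' * M') ∧ M' ≠ 0 ∧
          (∀ j, X' j = 1 ∨ j ∈ insert i s ∧ 𝕘.Piece (X' j)) ∧ (∀ j ∈ insert i s, Off j M') ∧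
            ((∀ j, X' j = 1) → M' = Z) := by
      intro Y x y hY hc hPY
      refine ⟨Function.update X i Y, 𝕘.ct i x y M, ?_, hc, fun j => ?_, fun j hj => ?_, fun h => ?_⟩
      · have e : (pureMat (Function.update X i Y) : Mat F k t) = pureMat X * sl i Y := by
          rw [sl, slotMat, Aschbacher.pureMat_mul]
          congr 1
          funext j
          rcases eq_or_ne j i with rfl | hj
          · simp [hXi]
          · simp [Function.update_of_ne hj]
        rwa [e, mul_assoc]
      · rcases eq_or_ne j i with rfl | hj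
        · exact Or.inr ⟨mem_insert_self _ _, by rwa [Function.update_self]⟩
        · rw [Function.update_of_ne hj]
          exact (hX j).imp_right fun h => ⟨mem_insert_of_mem h.1, h.2⟩
      · rcases Finset.mem_insert.1 hj with rfl | hj
        · exact 𝕘.ct_off _ _ _ _
        · exact 𝕘.ct_preserves_off (hne j hj) (hoff j hj) x y
      · exfalso
        have h1 := h i
        rw [Function.update_self] at h1
        rcases hY with ⟨a, ha, rfl⟩ | ⟨b, c, hbc, rfl, hne'⟩
        · have h2 := 𝕘.root_mul_root_self a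
          rw [h1, one_mul] at h2
          exact one_ne_zero h2
        · have h2 := 𝕘.sb_mul_self hbc
          rw [h1, one_mul] at h2
          exact one_ne_zero h2
    by_cases h0 : ∀ b, 𝕘.ct i b b M = 0
    swap
    · push Not at h0
      obtain ⟨b, hb⟩ := h0
      have hb0 : b ≠ 0 := fun h => hb (by rw [h, ct_zero_left])
      refine hnew (𝕘.root b) b b (Or.inl ⟨b, hb0, rfl⟩) hb ?_
      have h1 := (hP i hiJ b _ hPM).2
      rwa [← mul_assoc, hR, mul_assoc (pureMat X), mul_assoc (pureMat X), tau_sandwich] at h1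
    by_cases h1 : ∀ d b, 𝕘.β d b = 0 → 𝕘.ct i d b M = 0
    · have hMi := 𝕘.off_of_alt i h0 h1
      refine ⟨X, M, hPM, hM0, fun j => (hX j).imp_right fun h => ⟨mem_insert_of_mem h.1, h.2⟩, fun j hj => ?_, hid⟩
      rcases Finset.mem_insert.1 hj with rfl | hj
      exacts [hMi, hoff j hj]
    push Not at h1
    obtain ⟨d, b, hdb, hct⟩ := h1
    have hb0 : b ≠ 0 := fun h => hct (by rw [h, ct_zero_right])
    have hS : 𝕘.sb b d ≠ 0 := fun h => by
      obtain ⟨z, hz⟩ := 𝕘.exists_one hb0
      have h2 := 𝕘.sb_mulVec b d z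
      rw [h, zero_mulVec, hz, one_smul] at h2
      exact hct (by rw [← sub_eq_zero.1 h2.symm, ct_smul_left, h0, smul_zero])
    have h2 := (hP i hiJ d _ (hP i hiJ b _ hPM).1).1
    have e : ∀ (W : Mat F k t) (Y : Matrix (Fin k) (Fin k) F),
        sl i Y * (pureMat X * W) - pureMat X * W * sl i Y = pureMat X * (sl i Y * W - W * sl i Y) := fun W Y => by
      rw [← mul_assoc, hR, mul_sub]
      simp only [mul_assoc]
    rw [e, e, 𝕘.bracket_bracket i h0 hdb] at h2
    exact hnew (𝕘.sb b d) d b (Or.inr ⟨b, d, by rw [β_skew, hdb, neg_zero], rfl, hS⟩) hct h2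

end Gram

end Cfsg.Agent.H24.Wreath
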