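import Cfsg.Agent.H24.Wreath.Contract

/-!
Square-zero elements all whose multiples give members of a group, and the moves available inside one slot.
-/

set_option autoImplicit false

namespace Cfsg.Agent.H24.Wreath

open Matrix Finset
open Cfsg.Agent.Aschbacher (pureMat pureVec slotMat factorPerm)

variable {F : Type*} [Field F] {k t : ℕ}

/-- All `1 + xY` lie in `H`, and `Y² = 0`. -/
def Q {E : Type*} [Ring E] [Algebra F E] (H : Subgroup Eˣ) (Y : E) : Prop :=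
  Y * Y = 0 ∧ ∀ x : F, ∃ h ∈ H, (h : E) = 1 + x • Y

section
variable {E : Type*} [Ring E] [Algebra F E] {H : Subgroup Eˣ} {Y Z : E}

theorem Q.sq (h : Q (F := F) H Y) : Y * Y = 0 := h.1

theorem Q.zero : Q (F := F) H (0 : E) := ⟨mul_zero _, fun x => ⟨1, H.one_mem, by simp⟩⟩

theorem Q.smul (h : Q (F := F) H Y) (c : F) : Q (F := F) H (c • Y) :=
  ⟨by rw [smul_mul_smul_comm, h.1, smul_zero], fun x => by
    obtain ⟨g, hg, hv⟩ := h.2 (x * c); exact ⟨g, hg, by rw [hv, smul_smul]⟩⟩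

theorem Q.neg (h : Q (F := F) H Y) : Q (F := F) H (-Y) := by
  have := h.smul (-1 : F)
  rwa [neg_one_smul] at this

theorem Q.add (h : Q (F := F) H Y) (h' : Q (F := F) H Z) (h1 : Y * Z = 0) (h2 : Z * Y = 0) :
    Q (F := F) H (Y + Z) := by
  refine ⟨by rw [mul_add, add_mul, add_mul, h.1, h'.1, h1, h2]; abel, fun x => ?_⟩
  obtain ⟨g, hg, hv⟩ := h.2 x
  obtain ⟨g', hg', hv'⟩ := h'.2 x
  refine ⟨g * g', H.mul_mem hg hg', ?_⟩
  rw [Units.val_mul, hv, hv', mul_add, mul_one, add_mul, one_mul, smul_mul_smul_comm, h1, smul_zero, add_zero,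
    smul_add]
  abel

theorem inv_val_of (g : Eˣ) (hY : Y * Y = 0) (hg : (g : E) = 1 + Y) : ((g⁻¹ : Eˣ) : E) = 1 - Y :=
  Units.inv_eq_of_mul_eq_one_right (by rw [hg, mul_sub, mul_one, add_mul, one_mul, hY, add_zero, add_sub_cancel_right])

theorem Q.map (h : Q (F := F) H Y) {g : Eˣ} (hg : g ∈ H) :
    Q (F := F) H ((g : E) * Y * ((g⁻¹ : Eˣ) : E)) := by
  refine ⟨?_, fun x => ?_⟩
  · calc (g : E) * Y * ((g⁻¹ : Eˣ) : E) * ((g : E) * Y * ((g⁻¹ : Eˣ) : E))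
        = (g : E) * (Y * (((g⁻¹ : Eˣ) : E) * (g : E)) * Y) * ((g⁻¹ : Eˣ) : E) := by simp only [mul_assoc]
      _ = 0 := by rw [g.inv_mul, mul_one, h.1, mul_zero, zero_mul]
  · obtain ⟨u, hu, hv⟩ := h.2 x
    refine ⟨g * u * g⁻¹, H.mul_mem (H.mul_mem hg hu) (H.inv_mem hg), ?_⟩
    rw [Units.val_mul, Units.val_mul, hv, mul_add, add_mul, mul_one, g.mul_inv, mul_smul_comm, smul_mul_assoc]

/-- Conjugating by a root. -/
theorem Q.move (h : Q (F := F) H Z) (h' : Q (F := F) H Y) (x : F) :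
    Q (F := F) H (Z + x • (Y * Z - Z * Y) - (x * x) • (Y * Z * Y)) := by
  obtain ⟨g, hg, hv⟩ := h'.2 x
  have hi := inv_val_of g (Y := x • Y) (by rw [smul_mul_smul_comm, h'.1, smul_zero]) hv
  convert h.map hg using 1
  rw [hv, hi]
  simp only [add_mul, mul_sub, mul_one, one_mul, smul_mul_assoc, mul_smul_comm, smul_add, smul_sub, smul_smul]
  abel

/-- An element with a square-zero part read off from the group. -/
theorem Q.of_mem (hY : Y * Y = 0) (h : ∀ x : F, ∃ g ∈ H, (g : E) = 1 + x • Y) : Q (F := F) H Y := ⟨hY, h⟩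

end

namespace Gram

variable (𝕘 : Gram F k)

/-- A group of isometries containing all slot roots. -/
structure Over (H : Subgroup (Mat F k t)ˣ) : Prop where
  iso : ∀ h ∈ H, 𝕘.Iso (h : Mat F k t)
  hroot : ∀ i a, Q (F := F) H (sl i (𝕘.root a) : Mat F k t)

variable {𝕘} {H : Subgroup (Mat F k t)ˣ}

theorem Q_isSkew (hH : 𝕘.Over H) {Y : Mat F k t} (hY : Q (F := F) H Y) : 𝕘.IsSkew Y := by
  obtain ⟨g, hg, hv⟩ := hY.2 1
  obtain ⟨g', hg', hv'⟩ := hY.2 (-1)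
  have h1 := hH.iso g hg
  have h2 := hH.iso g' hg'
  unfold Iso at h1 h2
  rw [hv, one_smul, transpose_add, transpose_one] at h1
  rw [hv', neg_one_smul, transpose_add, transpose_one, transpose_neg] at h2
  unfold IsSkew
  rw [eq_neg_iff_add_eq_zero]
  have h3 : (2 : F) • (Yᵀ * 𝕘.big t + 𝕘.big t * Y) = 0 := by
    have h4 := h1.trans h2.symm
    simp only [add_mul, mul_add, one_mul, mul_one, neg_mul, mul_neg, neg_add, neg_neg] at h4
    rw [two_smul]
    calc _ = (𝕘.big t + Yᵀ * 𝕘.big t + (𝕘.big t * Y + Yᵀ * 𝕘.big t * Y)) -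
          (𝕘.big t + -(Yᵀ * 𝕘.big t) + (-(𝕘.big t * Y) + Yᵀ * 𝕘.big t * Y)) := by abel
      _ = 0 := by rw [h4, sub_self]
  exact (smul_eq_zero.1 h3).resolve_left 𝕘.two

/-- One slot element of `H` carries the root at `a` to the root at `b`. -/
def Moves (𝕘 : Gram F k) (H : Subgroup (Mat F k t)ˣ) (i : Fin t) (a b : Fin k → F) : Prop :=
  ∃ h ∈ H, ∃ X Y, (h : Mat F k t) = sl i X ∧ ((h⁻¹ : (Mat F k t)ˣ) : Mat F k t) = sl i Y ∧
    X * 𝕘.root a * Y = 𝕘.root b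

theorem Moves.trans {i : Fin t} {a b c : Fin k → F} (h : 𝕘.Moves H i a b) (h' : 𝕘.Moves H i b c) :
    𝕘.Moves H i a c := by
  obtain ⟨g, hg, X, Y, h1, h2, h3⟩ := h
  obtain ⟨g', hg', X', Y', h1', h2', h3'⟩ := h'
  refine ⟨g' * g, H.mul_mem hg' hg, X' * X, Y * Y', by rw [Units.val_mul, h1, h1', sl_mul],
    by rw [_root_.mul_inv_rev, Units.val_mul, h2, h2', sl_mul], ?_⟩
  rw [← h3', ← h3]
  simp only [mul_assoc]

theorem Over.moves_step (hH : 𝕘.Over H) (i : Fin t) (a c : Fin k → F) (x : F) :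
    𝕘.Moves H i a (a + (x * 𝕘.β c a) • c) := by
  obtain ⟨g, hg, hv⟩ := (hH.hroot i c).2 x
  have hsq : (x • sl i (𝕘.root c) : Mat F k t) * (x • sl i (𝕘.root c)) = 0 := by
    rw [smul_mul_smul_comm, sl_mul, root_mul_root_self, sl_zero, smul_zero]
  refine ⟨g, hg, 1 + x • 𝕘.root c, 1 - x • 𝕘.root c, by rw [hv, sl_add, sl_one, sl_smul],
    by rw [inv_val_of g hsq hv, sl_sub, sl_one, sl_smul], ?_⟩
  simp only [add_mul, mul_sub, mul_one, one_mul, smul_mul_assoc, mul_smul_comm, root, tau_mul_tau, tau_add_left,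
    tau_add_right, tau_smul_left, tau_smul_right, smul_smul, mul_sub]
  rw [show 𝕘.β a c = -𝕘.β c a from 𝕘.β_skew c a]
  simp only [smul_smul, neg_smul, mul_neg, ← sub_eq_add_neg, smul_sub]
  module

/-- Transitivity on non-zero vectors. -/
theorem Over.moves (hH : 𝕘.Over H) (i : Fin t) {a b : Fin k → F} (ha : a ≠ 0) (hb : b ≠ 0) :
    𝕘.Moves H i a b := by
  have one : ∀ {a b : Fin k → F}, 𝕘.β a b ≠ 0 → 𝕘.Moves H i a b := fun {a b} h => by
    have h1 := hH.moves_step i a (b - a) ((𝕘.β (b - a) a)⁻¹)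
    rwa [inv_mul_cancel₀ (by rw [β_sub_left, β_self, sub_zero, β_skew]; exact neg_ne_zero.2 h), one_smul,
      add_sub_cancel] at h1
  obtain ⟨z, h1, h2⟩ := 𝕘.exists_common ha hb
  exact (one h1).trans (one (by rw [β_skew]; exact neg_ne_zero.2 h2))

theorem Moves.conj_mul {i : Fin t} {a b : Fin k → F} (h : 𝕘.Moves H i a b) {M : Mat F k t} (hM : Off i M) :
    ∃ g ∈ H, (g : Mat F k t) * (sl i (𝕘.root a) * M) * ((g⁻¹ : (Mat F k t)ˣ) : Mat F k t) =
      sl i (𝕘.root b) * M := by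
  obtain ⟨g, hg, X, Y, h1, h2, h3⟩ := h
  refine ⟨g, hg, ?_⟩
  rw [h1, h2, ← mul_assoc, sl_mul, mul_assoc, ← hM, ← mul_assoc, sl_mul, h3]

/-- A single member of this shape brings all its multiples. -/
theorem Over.Q_of_mem (hH : 𝕘.Over H) {i : Fin t} {a : Fin k → F} {M : Mat F k t} (hM : Off i M)
    (h : ∃ g ∈ H, (g : Mat F k t) = 1 + sl i (𝕘.root a) * M) : Q (F := F) H (sl i (𝕘.root a) * M) := by
  rcases eq_or_ne a 0 with rfl | ha
  · rw [Gram.root, tau_zero_left, sl_zero, zero_mul]; exact Q.zero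
  set Z := sl i (𝕘.root a) * M with hZ
  have hZZ : Z * Z = 0 := by
    rw [hZ, mul_assoc, ← mul_assoc M, ← hM, mul_assoc (sl i _) M M, ← mul_assoc, sl_mul, root_mul_root_self,
      sl_zero, zero_mul]
  obtain ⟨g, hg, hv⟩ := h
  have hsq : ∀ l : F, ∃ g ∈ H, (g : Mat F k t) = 1 + (l * l) • Z := fun l => by
    rcases eq_or_ne l 0 with rfl | hl
    · exact ⟨1, H.one_mem, by simp⟩
    obtain ⟨u, hu, he⟩ := (hH.moves i ha (smul_ne_zero hl ha)).conj_mul hM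
    refine ⟨u * g * u⁻¹, H.mul_mem (H.mul_mem hu hg) (H.inv_mem hu), ?_⟩
    rw [Units.val_mul, Units.val_mul, hv, mul_add, add_mul, mul_one, u.mul_inv, he, Gram.root, tau_smul_left,
      tau_smul_right, smul_smul, sl_smul, smul_mul_assoc]
  refine ⟨hZZ, fun x => ?_⟩
  obtain ⟨g₁, hg₁, hv₁⟩ := hsq ((x + 1) / 2)
  obtain ⟨g₂, hg₂, hv₂⟩ := hsq ((x - 1) / 2)
  refine ⟨g₁ * g₂⁻¹, H.mul_mem hg₁ (H.inv_mem hg₂), ?_⟩
  rw [Units.val_mul, hv₁, inv_val_of g₂ (by rw [smul_mul_smul_comm, hZZ, smul_zero]) hv₂]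
  simp only [add_mul, mul_sub, mul_one, one_mul, smul_mul_smul_comm, hZZ, smul_zero]
  have h2 := 𝕘.two
  rw [show x = (x + 1) / 2 * ((x + 1) / 2) - (x - 1) / 2 * ((x - 1) / 2) by field_simp; ring, sub_smul]
  rw [show (x + 1) / 2 * ((x + 1) / 2) - (x - 1) / 2 * ((x - 1) / 2) = x by field_simp; ring]
  abel

/-- The members with both ends in one root are multiples of it. -/
def NoRoot (𝕘 : Gram F k) (H : Subgroup (Mat F k t)ˣ) : Prop :=
  ∀ (i : Fin t) (a : Fin k → F) (M : Mat F k t), Off i M → (∃ g ∈ H, (g : Mat F k t) = 1 + sl i (𝕘.root a) * M) →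
    ∃ c : F, sl i (𝕘.root a) * M = c • (sl i (𝕘.root a) : Mat F k t)

end Gram

end Cfsg.Agent.H24.Wreath
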