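import Cfsg.Agent.H24.Wreath.Main
import Cfsg.Agent.H95.Symp
import Cfsg.Agent.Symplectic.AschProper
import Cfsg.Agent.H96.TensorCoords

/-!
Maximality of the tensor wreath stabiliser in the symplectic group, given flatness of the subgroups without further roots.
-/

set_option autoImplicit false

namespace Cfsg.Agent.H24.Wreath

open Matrix Finset
open scoped MatrixGroups
open Cfsg.Agent.Aschbacher (pureMat pureVec slotMat factorPerm pureGL factorPermGL)

variable {F : Type*} [Field F] {k t : ℕ}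

theorem factorPerm_transpose (π : Equiv.Perm (Fin t)) :
    (factorPerm π : Mat F k t)ᵀ = factorPerm π.symm := by
  ext a c
  simp only [transpose_apply, factorPerm, Matrix.of_apply]
  refine if_congr ⟨fun h => ?_, fun h => ?_⟩ rfl rfl
  · rw [h]; funext j; simp
  · rw [h]; funext j; simp

/-- The Gram matrix of a symplectic form. -/
def gramOf {f : (Fin k → F) → (Fin k → F) → F} (h2 : (2 : F) ≠ 0) (hf : Cfsg.Geo.IsSymplecticForm f) : Gram F k where
  G := Cfsg.Geo.gramMatrix f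
  skew := Matrix.ext fun i j => hf.skew _ _
  two := h2
  unit := Matrix.mulVec_injective_iff_isUnit.1 fun v w hvw => by
    by_contra hne
    obtain ⟨⟨x, hx⟩, -⟩ := hf.nondegenerate (v - w) (sub_ne_zero.2 hne)
    refine hx ?_
    rw [← H96.sum_gram hf.bilinear x (v - w)]
    refine Finset.sum_eq_zero fun i _ => ?_
    have h1 := congrFun (show Cfsg.Geo.gramMatrix f *ᵥ (v - w) = 0 by rw [mulVec_sub, hvw, sub_self]) i
    simp only [Matrix.mulVec, dotProduct, Pi.zero_apply] at h1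
    simp only [mul_assoc]
    rw [← Finset.mul_sum, h1, mul_zero]

namespace Gram

variable (𝕘 : Gram F k)

theorem iso_of_skew {Y : Mat F k t} (hY : 𝕘.IsSkew Y) (h2 : Y * Y = 0) : 𝕘.Iso (1 + Y) := by
  unfold IsSkew at hY
  unfold Iso
  rw [transpose_add, transpose_one, add_mul, one_mul, hY, add_mul, mul_add, mul_one, neg_mul, mul_add, mul_one,
    mul_assoc (𝕘.big t) Y Y, h2, mul_zero, add_zero]
  abel

theorem iso_factorPerm (π : Equiv.Perm (Fin t)) : 𝕘.Iso (factorPerm π : Mat F k t) := by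
  unfold Iso
  rw [factorPerm_transpose, mul_assoc, big, ← Aschbacher.factorPerm_conj π (fun _ => 𝕘.G), ← mul_assoc]
  have h := Aschbacher.factorPerm_mul_factorPerm (m := k) (F := F) π.symm
  rw [Equiv.symm_symm] at h
  rw [h, one_mul]

end Gram

section
variable {m : ℕ}

local notation "ι" => (Fin m ⊕ Fin m)

/-- Reading an element in the coordinates of the decomposition. -/
def toMat (e : ι ≃ (Fin t → Fin k)) (P : GL ι F) : GL ι F ≃* GL (Fin t → Fin k) F :=
  (MulAut.conj P).symm.trans (Cfsg.Geo.glReindex e)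

theorem mem_wreath_iff (e : ι ≃ (Fin t → Fin k)) (P : GL ι F) (g : GL ι F) :
    g ∈ Cfsg.Geo.tensorWreathSubgroup k t e P ↔ toMat e P g ∈ Cfsg.Geo.tensorWreathStandard k t F := by
  have hid : ∀ u : GL (Fin t → Fin k) F, Cfsg.Geo.glReindex e (Cfsg.Geo.glReindex e.symm u) = u := fun u =>
    Units.ext (Matrix.ext fun a b => by simp [Cfsg.Geo.glReindex])
  constructor
  · rintro ⟨_, ⟨u, hu, rfl⟩, rfl⟩
    simpa [toMat, hid, mul_assoc] using hu
  · intro h
    refine ⟨_, ⟨_, h, rfl⟩, ?_⟩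
    have hid' : ∀ u : GL ι F, Cfsg.Geo.glReindex e.symm (Cfsg.Geo.glReindex e u) = u := fun u =>
      Units.ext (Matrix.ext fun a b => by simp [Cfsg.Geo.glReindex])
    simp [toMat, hid', mul_assoc]

theorem toMat_mulVec (e : ι ≃ (Fin t → Fin k)) (P : GL ι F) (g : GL ι F) (x : (Fin t → Fin k) → F) :
    (g : Matrix ι ι F) *ᵥ ((P : Matrix ι ι F) *ᵥ (x ∘ e)) =
      (P : Matrix ι ι F) *ᵥ ((((toMat e P g : GL (Fin t → Fin k) F) : Matrix _ _ F) *ᵥ x) ∘ e) := by
  have h1 : (((toMat e P g : GL (Fin t → Fin k) F) : Matrix _ _ F) *ᵥ x) ∘ e =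
      ((P⁻¹ * g * P : GL ι F) : Matrix ι ι F) *ᵥ (x ∘ e) := by
    funext a
    simp only [toMat, MulEquiv.trans_apply, MulAut.conj_symm_apply, Cfsg.Geo.glReindex, Function.comp_apply,
      Matrix.mulVec, dotProduct]
    rw [← Equiv.sum_comp e (fun b => _ * x b)]
    exact Finset.sum_congr rfl fun b _ => by simp
  rw [h1, mulVec_mulVec, mulVec_mulVec, ← Units.val_mul, ← Units.val_mul]
  congr 2
  group

variable [Fintype F]

/-- The stabiliser of a tensor power decomposition is maximal in the symplectic group, given flatness of the subgroups without further roots. -/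
theorem sp_maximal (h2 : (2 : F) ≠ 0) (hm : 1 ≤ m) (ht : Odd t) (ht3 : 3 ≤ t) (e : ι ≃ (Fin t → Fin k))
    (P : GL ι F) (f₁ : (Fin k → F) → (Fin k → F) → F) (hf₁ : Cfsg.Geo.IsSymplecticForm f₁)
    (hT : Cfsg.Geo.IsTensorPowerFormStructure id (Cfsg.sympForm m F) f₁ e P)
    (hflat : ∀ H : Subgroup (Mat F k t)ˣ, (gramOf h2 hf₁).Over H → (gramOf h2 hf₁).NoRoot H →
      (gramOf h2 hf₁).Flat H) :
    Cfsg.Geo.IsMaximalIn (Cfsg.spGL m F) (Cfsg.Geo.tensorWreathSubgroup k t e P ⊓ Cfsg.spGL m F) := by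
  classical
  set 𝕘 := gramOf h2 hf₁ with h𝕘
  obtain ⟨c, hc, hT⟩ := hT
  have hbig : ∀ x y : (Fin t → Fin k) → F,
      Cfsg.sympForm m F ((P : Matrix ι ι F) *ᵥ (x ∘ e)) ((P : Matrix ι ι F) *ᵥ (y ∘ e)) =
        c * (x ⬝ᵥ 𝕘.big t *ᵥ y) := fun x y => by
    rw [hT]
    simp [h𝕘, gramOf, Gram.big, pureMat, dotProduct, Matrix.mulVec, Finset.mul_sum, mul_assoc]
  have hsurj : ∀ u : ι → F, ∃ x : (Fin t → Fin k) → F, (P : Matrix ι ι F) *ᵥ (x ∘ e) = u := fun u =>
    ⟨(((P⁻¹ : GL ι F) : Matrix ι ι F) *ᵥ u) ∘ e.symm, by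
      rw [Function.comp_assoc, Equiv.symm_comp_self, Function.comp_id, mulVec_mulVec, P.mul_inv, one_mulVec]⟩
  have hiso : ∀ g : GL ι F, g ∈ Cfsg.spGL m F ↔ 𝕘.Iso ((toMat e P g : GL (Fin t → Fin k) F) : Mat F k t) := by
    intro g
    constructor
    · intro hg
      refine Matrix.ext fun a b => ?_
      have h1 := hg ((P : Matrix ι ι F) *ᵥ (Pi.single a 1 ∘ e)) ((P : Matrix ι ι F) *ᵥ (Pi.single b 1 ∘ e))
      change Cfsg.sympForm m F ((g : Matrix ι ι F) *ᵥ _) ((g : Matrix ι ι F) *ᵥ _) = _ at h1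
      rw [toMat_mulVec, toMat_mulVec, hbig, hbig] at h1
      have h2 := mul_left_cancel₀ hc h1
      rw [← vecMul_transpose, ← dotProduct_mulVec, mulVec_mulVec, mulVec_mulVec, single_dotProduct, one_mul,
        single_dotProduct, one_mul, mulVec_single_one, mulVec_single_one] at h2
      exact h2
    · intro hg u v
      obtain ⟨x, rfl⟩ := hsurj u
      obtain ⟨y, rfl⟩ := hsurj v
      change Cfsg.sympForm m F ((g : Matrix ι ι F) *ᵥ _) ((g : Matrix ι ι F) *ᵥ _) = _
      rw [toMat_mulVec, toMat_mulVec, hbig, hbig, ← vecMul_transpose, ← dotProduct_mulVec, mulVec_mulVec, mulVec_mulVec]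
      rw [show _ = _ from hg]
  have hk0 : NeZero k := ⟨fun h => by
    subst h
    exact (e (Sum.inl ⟨0, hm⟩) ⟨0, by omega⟩).elim0⟩
  have hk2 : 2 ≤ k := by
    obtain ⟨j, hj⟩ := 𝕘.even_dim
    have := hk0.out
    omega
  refine ⟨lt_of_le_of_ne inf_le_right fun h =>
    Symplectic.Asch.wreath_proper e P hk2 ht3 (le_of_eq_of_le h.symm inf_le_left), fun M h1 hM => ?_⟩
  by_cases hMN : M ≤ Cfsg.Geo.tensorWreathSubgroup k t e P
  · exact Or.inl (le_antisymm (le_inf hMN hM) h1)
  refine Or.inr (le_antisymm hM ?_)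
  set H := M.map (toMat e P).toMonoidHom
  have hmem : ∀ g : GL (Fin t → Fin k) F, 𝕘.Iso (g : Mat F k t) → g ∈ Cfsg.Geo.tensorWreathStandard k t F → g ∈ H :=
    fun g hg hgt => by
      obtain ⟨g, rfl⟩ := (toMat e P).surjective g
      exact Subgroup.mem_map_of_mem _ (h1 ⟨(mem_wreath_iff e P g).2 hgt, (hiso g).2 hg⟩)
  have hH : 𝕘.Over H := by
    refine ⟨?_, fun i a => ⟨by rw [sl_mul, Gram.root_mul_root_self, sl_zero], fun x => ?_⟩⟩
    · rintro _ ⟨g, hg, rfl⟩
      exact (hiso g).1 (hM hg)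
    have hsq : (x • 𝕘.root a) * (x • 𝕘.root a) = 0 := by
      rw [smul_mul_smul_comm, Gram.root_mul_root_self, smul_zero]
    let u : GL (Fin k) F := ⟨1 + x • 𝕘.root a, 1 - x • 𝕘.root a,
      by rw [mul_sub, mul_one, add_mul, one_mul, hsq, add_zero, add_sub_cancel_right],
      by rw [sub_mul, one_mul, mul_add, mul_one, hsq, add_zero, add_sub_cancel_right]⟩
    let g : GL (Fin t → Fin k) F := pureGL (Function.update (fun _ => 1) i u)
    have hg : (g : Mat F k t) = 1 + x • sl i (𝕘.root a) := by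
      rw [← sl_smul, ← sl_one i, ← sl_add]
      show pureMat _ = _
      congr 1
      funext j
      rcases eq_or_ne j i with rfl | hj
      · simp [u]
      · simp [hj]
    refine ⟨g, hmem g ?_ (Subgroup.subset_closure (Or.inl ⟨Function.update (fun _ => 1) i u, fun _ _ => rfl⟩)), hg⟩
    rw [hg]
    exact 𝕘.iso_of_skew ((𝕘.isSkew_root i a).smul x)
      (by rw [smul_mul_smul_comm, sl_mul, Gram.root_mul_root_self, sl_zero, smul_zero])
  have hp : ∀ π : Equiv.Perm (Fin t), ∃ g ∈ H, (g : Mat F k t) = factorPerm π := fun π =>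
    ⟨factorPermGL π, hmem _ (𝕘.iso_factorPerm π) (Subgroup.subset_closure (Or.inr ⟨π, fun _ _ => rfl⟩)), rfl⟩
  rcases hH.dichotomy ht hp (hflat H hH) with hmono | htr
  · exfalso
    refine hMN fun g hg => (mem_wreath_iff e P g).2 ?_
    obtain ⟨A, σ, r, hr, hv⟩ := hmono _ (Subgroup.mem_map_of_mem _ hg)
    let i₀ : Fin t := ⟨0, by omega⟩
    let A' : Fin t → GL (Fin k) F := fun j =>
      if j = i₀ then A j * Units.map (algebraMap F (Matrix (Fin k) (Fin k) F)).toMonoidHom (Units.mk0 r hr) else A j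
    have he : toMat e P g = pureGL A' * factorPermGL σ := Units.ext (hv.trans (by
      rw [← smul_mul_assoc]
      show _ = pureMat _ * factorPerm σ
      congr 1
      rw [show (fun j => (A' j : Matrix (Fin k) (Fin k) F)) =
          fun j => (if j = i₀ then r else 1) • (A j : Matrix (Fin k) (Fin k) F) from funext fun j => by
            simp only [A']
            split_ifs
            · simp [Algebra.algebraMap_eq_smul_one]
            · rw [one_smul], pureMat_smul, Finset.prod_ite_eq' univ i₀ (fun _ => r), if_pos (mem_univ _)]))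
    rw [he]
    exact mul_mem (Subgroup.subset_closure (Or.inl ⟨A', fun _ _ => rfl⟩))
      (Subgroup.subset_closure (Or.inr ⟨σ, fun _ _ => rfl⟩))
  have hf := H95.isSymplecticForm_sympForm (F := F) m
  refine H95.iso_le_of_roots hf fun u l => ?_
  obtain ⟨p, rfl⟩ := hsurj u
  obtain ⟨_, ⟨g, hg, rfl⟩, hv⟩ := (htr p).2 (-(l * c))
  suffices H95.rt hf ((P : Matrix ι ι F) *ᵥ (p ∘ e)) l = g by rw [this]; exact hg
  refine Units.ext (Matrix.ext_iff_mulVec.2 fun z => ?_)
  obtain ⟨z, rfl⟩ := hsurj z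
  change ((toMat e P g : GL (Fin t → Fin k) F) : Mat F k t) = _ at hv
  rw [H95.rt_mulVec hf, toMat_mulVec, hv, add_mulVec, one_mulVec, smul_mulVec, Gram.bigTau, vecMulVec_mulVec,
    op_smul_eq_smul, hbig, smul_smul, Pi.add_comp, Pi.smul_comp, mulVec_add, mulVec_smul]
  congr 2
  have halt := 𝕘.big_alt (t := t) ht (z + p)
  simp only [mulVec_add, dotProduct_add, add_dotProduct, Gram.big_alt ht] at halt
  rw [← dotProduct_mulVec]
  linear_combination (l * c) * halt

end

end Cfsg.Agent.H24.Wreath
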